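import Mathlib

/-!
# Commuting lifts in central extensions (S4806, sporadic rows; helper25)

`Tr m x y` : lifts of `x` and `y` commute in every finite central extension whose kernel has exponent dividing `m`
(`m = 0` : no condition on the kernel, `m = 1` : `x` and `y` commute).
`plift` : the `p`-elements above a `p`-subgroup in a central extension.
-/

set_option autoImplicit false

namespace Cfsg.Agent.BHZ.Spor

open Subgroup
open scoped commutatorElement

universe u v

section Cen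

variable {X : Type u} {S : Type v} [Group X] [Group S] {π : X →* S}

theorem cen_comm (hc : π.ker ≤ center X) {z : X} (hz : π z = 1) (g : X) : g * z = z * g :=
  mem_center_iff.1 (hc (MonoidHom.mem_ker.2 hz)) g

theorem map_comm_eq_one {a b : X} (hab : Commute (π a) (π b)) : π ⁅a, b⁆ = 1 := by
  rw [map_commutatorElement, commutatorElement_eq_one_iff_commute]
  exact hab

theorem comm_mul_right (hc : π.ker ≤ center X) {a b c : X} (hac : Commute (π a) (π c)) :
    ⁅a, b * c⁆ = ⁅a, b⁆ * ⁅a, c⁆ := by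
  have h1 := cen_comm hc (map_comm_eq_one hac) b
  calc ⁅a, b * c⁆ = ⁅a, b⁆ * (b * ⁅a, c⁆) * b⁻¹ := by simp only [commutatorElement_def]; group
    _ = ⁅a, b⁆ * ⁅a, c⁆ := by rw [h1]; group

theorem comm_pow_right (hc : π.ker ≤ center X) {a b : X} (hab : Commute (π a) (π b)) (n : ℕ) :
    ⁅a, b ^ n⁆ = ⁅a, b⁆ ^ n := by
  induction n with
  | zero => simp
  | succ n ih => rw [pow_succ, comm_mul_right hc hab, ih, pow_succ]

theorem comm_pow_left (hc : π.ker ≤ center X) {a b : X} (hab : Commute (π a) (π b)) (n : ℕ) :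
    ⁅a ^ n, b⁆ = ⁅a, b⁆ ^ n := by
  rw [← commutatorElement_inv, comm_pow_right hc hab.symm, ← inv_pow, commutatorElement_inv]

/-- two coprime exponents -/
theorem commute_of_pows (hc : π.ker ≤ center X) {a b : X} (hab : Commute (π a) (π b)) {k n : ℕ}
    (hk : ⁅a, b⁆ ^ k = 1) (hn : ⁅a, b⁆ ^ n = 1) (h : k.Coprime n) : Commute a b := by
  have _ := hc
  have _ := hab
  rw [← commutatorElement_eq_one_iff_commute, ← orderOf_eq_one_iff]
  exact Nat.eq_one_of_dvd_coprimes h (orderOf_dvd_of_pow_eq_one hk) (orderOf_dvd_of_pow_eq_one hn)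

theorem comm_pow_order_left (hc : π.ker ≤ center X) {a b : X} (hab : Commute (π a) (π b)) {n : ℕ}
    (hn : π a ^ n = 1) : ⁅a, b⁆ ^ n = 1 := by
  rw [← comm_pow_left hc hab, commutatorElement_eq_one_iff_mul_comm]
  exact (cen_comm hc (by rw [map_pow, hn]) b).symm

theorem comm_pow_order_right (hc : π.ker ≤ center X) {a b : X} (hab : Commute (π a) (π b)) {n : ℕ}
    (hn : π b ^ n = 1) : ⁅a, b⁆ ^ n = 1 := by
  rw [← comm_pow_right hc hab, commutatorElement_eq_one_iff_mul_comm]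
  exact cen_comm hc (by rw [map_pow, hn]) a

theorem commute_of_coprime (hc : π.ker ≤ center X) {a b : X} (hab : Commute (π a) (π b)) {k n : ℕ}
    (hk : π a ^ k = 1) (hn : π b ^ n = 1) (h : k.Coprime n) : Commute a b :=
  commute_of_pows hc hab (comm_pow_order_left hc hab hk) (comm_pow_order_right hc hab hn) h

theorem commute_of_lift (hc : π.ker ≤ center X) {a b a' b' : X} (ha : π a = π a') (hb : π b = π b')
    (h : Commute a' b') : Commute a b := by
  have h1 : π (a * a'⁻¹) = 1 := by rw [map_mul, map_inv, ha, mul_inv_cancel]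
  have h2 : π (b * b'⁻¹) = 1 := by rw [map_mul, map_inv, hb, mul_inv_cancel]
  have h3 : a = a * a'⁻¹ * a' := by group
  have h4 : b = b * b'⁻¹ * b' := by group
  rw [h3, h4]
  exact Commute.mul_left (cen_comm hc h1 _).symm (Commute.mul_right (cen_comm hc h2 _) h)

end Cen

/-- lifts of `x` and `y` commute in every central extension with kernel of exponent dividing `m` -/
def Tr (m : ℕ) {S : Type u} [Group S] (x y : S) : Prop :=
  ∀ (X : Type) [Group X] [Finite X] (π : X →* S), Function.Surjective π → π.ker ≤ center X →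
    (∀ z, π z = 1 → z ^ m = 1) → ∀ a b, π a = x → π b = y → Commute a b

section TrLemmas

variable {m : ℕ} {S : Type u} [Group S]

theorem Tr.apply {x y : S} (h : Tr m x y) {X : Type v} [Group X] [Finite X] (π : X →* S)
    (hs : Function.Surjective π) (hc : π.ker ≤ center X) (he : ∀ z, π z = 1 → z ^ m = 1) {a b : X}
    (ha : π a = x) (hb : π b = y) : Commute a b := by
  let e : Shrink.{0} X ≃* X := Shrink.mulEquiv.{0}
  have hf : Finite (Shrink.{0} X) := Finite.of_equiv _ e.symm.toEquiv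
  have h1 := h (Shrink.{0} X) (π.comp e.toMonoidHom) (hs.comp e.surjective) (fun z hz => by
      refine mem_center_iff.2 fun g => e.injective ?_
      rw [map_mul, map_mul]
      exact cen_comm hc hz _) (fun z hz => e.injective (by rw [map_pow, map_one]; exact he _ hz))
    (e.symm a) (e.symm b) (by simpa using ha) (by simpa using hb)
  have h2 := h1.map e
  simpa using h2

theorem Tr.commute [Finite S] {x y : S} (h : Tr m x y) : Commute x y :=
  h.apply (MonoidHom.id S) Function.surjective_id (fun z hz => by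
    have : z = 1 := hz
    rw [this]; exact one_mem _) (fun z hz => by
    have : z = 1 := hz
    rw [this, one_pow]) rfl rfl

theorem Tr.symm {x y : S} (h : Tr m x y) : Tr m y x :=
  fun X _ _ π hs hc he a b ha hb => (h X π hs hc he b a hb ha).symm

theorem Tr.one_right (x : S) : Tr m x 1 := fun _ _ _ _ _ hc _ a _ _ hb => cen_comm hc hb a

theorem Tr.one_left (x : S) : Tr m 1 x := (Tr.one_right x).symm

theorem Tr.self (x : S) : Tr m x x := fun _ _ _ _ _ hc _ a _ ha hb =>
  commute_of_lift hc rfl (hb.trans ha.symm) (Commute.refl a)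

theorem Tr.mul_right {x y z : S} (h : Tr m x y) (h' : Tr m x z) : Tr m x (y * z) := by
  intro X _ _ π hs hc he a b ha hb
  obtain ⟨c, hc'⟩ := hs y
  obtain ⟨d, hd⟩ := hs z
  exact commute_of_lift hc rfl (by rw [hb, map_mul, hc', hd])
    ((h X π hs hc he a c ha hc').mul_right (h' X π hs hc he a d ha hd))

theorem Tr.inv_right {x y : S} (h : Tr m x y) : Tr m x y⁻¹ := by
  intro X _ _ π hs hc he a b ha hb
  have h1 := h X π hs hc he a b⁻¹ ha (by rw [map_inv, hb, inv_inv])
  simpa using h1.inv_right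

/-- the elements `y` with `Tr m x y` -/
def trSub (m : ℕ) {S : Type u} [Group S] (x : S) : Subgroup S where
  carrier := {y | Tr m x y}
  one_mem' := Tr.one_right x
  mul_mem' := Tr.mul_right
  inv_mem' := Tr.inv_right

theorem mem_trSub {x y : S} : y ∈ trSub m x ↔ Tr m x y := Iff.rfl

theorem Tr.pow_right {x y : S} (h : Tr m x y) (n : ℕ) : Tr m x (y ^ n) := (trSub m x).pow_mem h n

theorem Tr.zpow_right {x y : S} (h : Tr m x y) (n : ℤ) : Tr m x (y ^ n) := (trSub m x).zpow_mem h n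

theorem Tr.of_mem_zpowers {x y : S} (h : y ∈ zpowers x) : Tr m x y := by
  obtain ⟨n, rfl⟩ := h
  exact (Tr.self x).zpow_right n

theorem Tr.commutatorElt {x a b : S} (ha : Commute x a) (hb : Commute x b) : Tr m x ⁅a, b⁆ := by
  intro X _ _ π hs hc he u v hu hv
  obtain ⟨c, rfl⟩ := hs a
  obtain ⟨d, rfl⟩ := hs b
  subst hu
  refine commute_of_lift hc rfl (b' := ⁅c, d⁆) (by rw [hv, map_commutatorElement]) ?_
  have h1 : ∀ w : X, Commute (π u) (π w) → u * w * u⁻¹ = ⁅u, w⁆ * w := fun w _ => by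
    simp only [commutatorElement_def]; group
  have hc1 := cen_comm hc (map_comm_eq_one ha)
  have hc2 := cen_comm hc (map_comm_eq_one hb)
  have h2 : u * ⁅c, d⁆ * u⁻¹ = ⁅⁅u, c⁆ * c, ⁅u, d⁆ * d⁆ := by
    rw [← h1 c ha, ← h1 d hb]
    simp only [commutatorElement_def]; group
  generalize ⁅u, c⁆ = s at hc1 h2
  generalize ⁅u, d⁆ = t at hc2 h2
  have h3 : ⁅s * c, t * d⁆ = ⁅c, d⁆ := by
    simp only [commutatorElement_def, mul_inv_rev]
    calc s * c * (t * d) * (c⁻¹ * s⁻¹) * (d⁻¹ * t⁻¹) = s * (c * t) * d * c⁻¹ * (s⁻¹ * d⁻¹) * t⁻¹ := by group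
      _ = s * (t * c) * d * c⁻¹ * (d⁻¹ * s⁻¹) * t⁻¹ := by
        rw [hc2 c, ← mul_inv_rev, hc1 d, mul_inv_rev]
      _ = s * (t * (c * d * c⁻¹ * d⁻¹)) * s⁻¹ * t⁻¹ := by group
      _ = s * ((c * d * c⁻¹ * d⁻¹) * t) * s⁻¹ * t⁻¹ := by rw [hc2]
      _ = (c * d * c⁻¹ * d⁻¹ * t) * s * s⁻¹ * t⁻¹ := by rw [hc1]
      _ = c * d * c⁻¹ * d⁻¹ := by group
  rw [h3] at h2
  exact mul_inv_eq_iff_eq_mul.1 h2

/-- commutators of a subgroup centralizing `x` -/
theorem Tr.of_mem_commutator {x y : S} {K : Subgroup S} (hK : ∀ k ∈ K, Commute x k) (hy : y ∈ ⁅K, K⁆) :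
    Tr m x y := by
  have : ⁅K, K⁆ ≤ trSub m x := commutator_le.2 fun a ha b hb => Tr.commutatorElt (hK a ha) (hK b hb)
  exact this hy

theorem Tr.of_coprime {x y : S} (h : Commute x y) {k n : ℕ} (hk : x ^ k = 1) (hn : y ^ n = 1)
    (hkn : k.Coprime n) : Tr m x y := by
  intro X _ _ π _ hc _ a b ha hb
  subst ha hb
  exact commute_of_coprime hc h hk hn hkn

theorem Tr.of_coprime_m {x y : S} (h : Commute x y) {n : ℕ} (hn : y ^ n = 1) (hmn : m.Coprime n) : Tr m x y := by
  intro X _ _ π _ hc he a b ha hb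
  subst ha hb
  exact commute_of_pows hc h (he _ (map_comm_eq_one h)) (comm_pow_order_right hc h hn) hmn

theorem Tr.of_one {x y : S} (h : Commute x y) : Tr 1 x y := by
  intro X _ _ π _ _ he a b ha hb
  subst ha hb
  have := he _ (map_comm_eq_one h)
  rwa [pow_one, commutatorElement_eq_one_iff_commute] at this

/-- `Tr` for a power coprime to the order of `x` suffices -/
theorem Tr.of_pow {x y : S} (h : Commute x y) {k n : ℕ} (hk : x ^ k = 1) (hn : Tr m x (y ^ n))
    (hkn : k.Coprime n) : Tr m x y := by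
  intro X _ _ π hs hc he a b ha hb
  subst ha hb
  refine commute_of_pows hc h (comm_pow_order_left hc h hk) ?_ hkn
  rw [← comm_pow_right hc h, commutatorElement_eq_one_iff_commute]
  exact hn X π hs hc he a (b ^ n) rfl (map_pow _ _ _)

theorem Tr.of_pow_m {x y : S} (h : Commute x y) {n : ℕ} (hn : Tr m x (y ^ n)) (hmn : m.Coprime n) : Tr m x y := by
  intro X _ _ π hs hc he a b ha hb
  subst ha hb
  refine commute_of_pows hc h (he _ (map_comm_eq_one h)) ?_ hmn
  rw [← comm_pow_right hc h, commutatorElement_eq_one_iff_commute]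
  exact hn X π hs hc he a (b ^ n) rfl (map_pow _ _ _)

/-- the `m`-th powers -/
theorem Tr.pow_m {x y : S} (h : Commute x y) : Tr m x (y ^ m) := by
  intro X _ _ π hs hc he a b ha hb
  obtain ⟨c, rfl⟩ := hs y
  subst ha
  refine commute_of_lift hc rfl (b' := c ^ m) (by rw [hb, map_pow]) ?_
  rw [← commutatorElement_eq_one_iff_commute, comm_pow_right hc h]
  exact he _ (map_comm_eq_one h)

theorem Tr.mono {m' : ℕ} {x y : S} (h : Tr m' x y) (hm : m ∣ m') : Tr m x y := by
  intro X _ _ π hs hc he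
  obtain ⟨k, rfl⟩ := hm
  exact h X π hs hc fun z hz => by rw [pow_mul, he z hz, one_pow]

/-- along an injective homomorphism -/
theorem Tr.map {T : Type v} [Group T] {x y : S} (h : Tr m x y) (f : S →* T) (hf : Function.Injective f) :
    Tr m (f x) (f y) := by
  intro X _ _ π hs hc he a b ha hb
  let e := (MonoidHom.ofInjective hf).symm
  let ρ : (f.range.comap π) →* S := e.toMonoidHom.comp ((π.comp (f.range.comap π).subtype).codRestrict f.range
    fun w => w.2)
  have hρ : ∀ w : f.range.comap π, f (ρ w) = π w := fun w =>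
    MonoidHom.apply_ofInjective_symm hf _
  have h1 := h.apply ρ (fun s => by
      obtain ⟨w, hw⟩ := hs (f s)
      exact ⟨⟨w, ⟨s, hw.symm⟩⟩, hf (by rw [hρ]; exact hw)⟩)
    (fun z hz => mem_center_iff.2 fun g => Subtype.ext (cen_comm hc (by
      rw [← hρ, MonoidHom.mem_ker.1 hz, map_one]) _))
    (fun z hz => Subtype.ext (he _ (by rw [← hρ, hz, map_one])))
    (a := ⟨a, ⟨x, ha.symm⟩⟩) (b := ⟨b, ⟨y, hb.symm⟩⟩) (hf (by rw [hρ]; exact ha)) (hf (by rw [hρ]; exact hb))
  exact congrArg Subtype.val h1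

theorem Tr.coe {H : Subgroup S} {x y : H} (h : Tr m x y) : Tr m (x : S) (y : S) :=
  h.map H.subtype H.subtype_injective

end TrLemmas

section PLift

variable {p : ℕ} [hp : Fact p.Prime] {X : Type u} {S : Type v} [Group X] [Group S] [Finite X] {π : X →* S}

/-- `p`-elements above a `p`-subgroup form a subgroup -/
theorem exists_plift (hc : π.ker ≤ center X) {U : Subgroup S} (hU : IsPGroup p U) :
    ∃ P : Subgroup X, IsPGroup p P ∧ ∀ x, x ∈ P ↔ π x ∈ U ∧ ∃ k : ℕ, x ^ p ^ k = 1 := by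
  let W : Subgroup X := U.comap π
  let ρ : W →* U := (π.comp W.subtype).codRestrict U fun w => w.2
  have hfin : Finite ρ.range := Finite.of_surjective _ ρ.rangeRestrict_surjective
  have hnil : Group.IsNilpotent ρ.range := (hU.to_subgroup ρ.range).isNilpotent
  have hW : Group.IsNilpotent W := Subgroup.isNilpotent_of_ker_le_center ρ.rangeRestrict (fun z hz => by
    refine mem_center_iff.2 fun g => Subtype.ext (cen_comm hc ?_ _)
    have h1 : ρ.rangeRestrict z = 1 := hz
    exact congrArg (fun w : ρ.range => ((w : U) : S)) h1)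
  obtain ⟨P⟩ : Nonempty (Sylow p W) := inferInstance
  have hPn : (P : Subgroup W).Normal := inferInstance
  refine ⟨(P : Subgroup W).map W.subtype, P.isPGroup'.map _, fun x => ⟨?_, ?_⟩⟩
  · rintro ⟨w, hw, rfl⟩
    obtain ⟨k, hk⟩ := P.isPGroup' ⟨w, hw⟩
    exact ⟨w.2, k, congrArg (fun z : P => ((z : W) : X)) hk⟩
  · rintro ⟨hx, k, hk⟩
    have h1 : IsPGroup p (zpowers (⟨x, hx⟩ : W)) := by
      rintro ⟨_, n, rfl⟩
      refine ⟨k, Subtype.ext (Subtype.ext ?_)⟩
      change (x ^ n) ^ p ^ k = 1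
      rw [← zpow_natCast, ← zpow_mul, mul_comm, zpow_mul, zpow_natCast, hk, one_zpow]
    obtain ⟨P', hP'⟩ := h1.exists_le_sylow
    have hu := Sylow.unique_of_normal P hPn
    have h2 : zpowers (⟨x, hx⟩ : W) ≤ P := by rwa [Subsingleton.elim P P']
    exact ⟨⟨x, hx⟩, h2 (mem_zpowers _), rfl⟩

omit [Finite X] hp in
theorem not_dvd_of_pow {G : Type*} [Group G] {x : G} {n : ℕ} (hn : ¬ p ∣ n) (h : x ^ n = 1) : ¬ p ∣ orderOf x :=
  fun hd => hn (hd.trans (orderOf_dvd_of_pow_eq_one h))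

/-- `p`-part and `p'`-part -/
theorem exists_parts {G : Type*} [Group G] [Finite G] (x : G) :
    ∃ a b : G, a ∈ zpowers x ∧ b ∈ zpowers x ∧ x = a * b ∧ (∃ k : ℕ, a ^ p ^ k = 1) ∧ ¬ p ∣ orderOf b := by
  obtain ⟨k, n, hn, hkn⟩ := Nat.exists_eq_pow_mul_and_not_dvd (orderOf_pos x).ne' p hp.out.one_lt.ne'
  have hcop : (p ^ k).Coprime n := Nat.Coprime.pow_left k ((Nat.Prime.coprime_iff_not_dvd hp.out).2 hn)
  have hb := Nat.gcd_eq_gcd_ab (p ^ k) n
  rw [hcop] at hb
  refine ⟨x ^ ((n : ℤ) * (p ^ k).gcdB n), x ^ (((p ^ k : ℕ) : ℤ) * (p ^ k).gcdA n), zpow_mem_zpowers _ _,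
    zpow_mem_zpowers _ _, ?_, ⟨k, ?_⟩, not_dvd_of_pow hn ?_⟩
  · rw [← zpow_add, add_comm, ← hb]; simp
  · rw [← zpow_natCast, ← zpow_mul, mul_right_comm, zpow_mul, ← Nat.cast_mul, zpow_natCast, mul_comm n, ← hkn,
      pow_orderOf_eq_one, one_zpow]
  · rw [← zpow_natCast, ← zpow_mul, mul_right_comm, zpow_mul, ← Nat.cast_mul, zpow_natCast, ← hkn,
      pow_orderOf_eq_one, one_zpow]

omit [Finite X] in
theorem eq_one_of_reg {G : Type*} [Group G] {x : G} (hx : ¬ p ∣ orderOf x) {k : ℕ} (hk : x ^ p ^ k = 1) : x = 1 := by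
  rw [← orderOf_eq_one_iff]
  exact Nat.eq_one_of_dvd_coprimes (Nat.Coprime.pow_left k ((Nat.Prime.coprime_iff_not_dvd hp.out).2 hx))
    (orderOf_dvd_of_pow_eq_one hk) dvd_rfl

omit [Finite X] hp in
theorem reg_map' {x : X} (hx : ¬ p ∣ orderOf x) : ¬ p ∣ orderOf (π x) :=
  fun hd => hx (hd.trans (orderOf_map_dvd π x))

omit [Finite X] hp in
theorem reg_of_mem_zpowers {x y : X} (hx : ¬ p ∣ orderOf x) (hy : y ∈ zpowers x) : ¬ p ∣ orderOf y :=
  fun hd => hx (hd.trans (orderOf_dvd_of_mem_zpowers hy))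

omit [Finite X] hp in
theorem pelt_of_mem_zpowers {x y : X} {k : ℕ} (hx : x ^ p ^ k = 1) (hy : y ∈ zpowers x) : y ^ p ^ k = 1 := by
  obtain ⟨n, rfl⟩ := hy
  change (x ^ n) ^ p ^ k = 1
  rw [← zpow_natCast, ← zpow_mul, mul_comm, zpow_mul, zpow_natCast, hx, one_zpow]

omit [Finite X] hp in
theorem commute_of_mem_zpowers {x y z : X} (h : Commute x z) (hy : y ∈ zpowers x) : Commute y z := by
  obtain ⟨n, rfl⟩ := hy
  exact h.zpow_left n

/-- a `p`-regular lift -/
theorem exists_reg_lift (hs : Function.Surjective π) {x : S} (hx : ¬ p ∣ orderOf x) :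
    ∃ a : X, π a = x ∧ ¬ p ∣ orderOf a := by
  obtain ⟨c, rfl⟩ := hs x
  obtain ⟨a, b, ha, -, hab, ⟨k, hk⟩, hb'⟩ := exists_parts (p := p) c
  refine ⟨b, ?_, hb'⟩
  have h1 : π a = 1 := by
    refine eq_one_of_reg (reg_of_mem_zpowers hx ?_) (k := k) (by rw [← map_pow, hk, map_one])
    obtain ⟨n, rfl⟩ := ha
    exact ⟨n, (map_zpow π c n).symm⟩
  rw [hab, map_mul, h1, one_mul]

/-- a lift of `p`-power order -/
theorem exists_p_lift (hs : Function.Surjective π) {x : S} {k : ℕ} (hx : x ^ p ^ k = 1) :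
    ∃ a : X, π a = x ∧ ∃ k : ℕ, a ^ p ^ k = 1 := by
  obtain ⟨c, rfl⟩ := hs x
  obtain ⟨a, b, -, hb, hab, hk, hb'⟩ := exists_parts (p := p) c
  refine ⟨a, ?_, hk⟩
  have h1 : π b = 1 := by
    refine eq_one_of_reg (reg_map' hb') (k := k) (pelt_of_mem_zpowers hx ?_)
    obtain ⟨n, rfl⟩ := hb
    exact ⟨n, (map_zpow π c n).symm⟩
  rw [hab, map_mul, h1, mul_one]

omit [Finite X] in
theorem cop_of_reg {G : Type*} [Group G] {x : G} (hx : ¬ p ∣ orderOf x) (k : ℕ) : (p ^ k).Coprime (orderOf x) :=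
  Nat.Coprime.pow_left k ((Nat.Prime.coprime_iff_not_dvd hp.out).2 hx)

omit [Finite X] in
/-- a `p`-element and a `p`-regular element commuting modulo a central subgroup commute -/
theorem commute_p_reg (hc : π.ker ≤ center X) {a b : X} (hab : Commute (π a) (π b)) {k : ℕ} (ha : a ^ p ^ k = 1)
    (hb : ¬ p ∣ orderOf b) : Commute a b :=
  commute_of_coprime hc hab (k := p ^ k) (n := orderOf b) (by rw [← map_pow, ha, map_one])
    (by rw [← map_pow, pow_orderOf_eq_one, map_one]) (cop_of_reg hb k)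

omit [Finite X] in
theorem Tr.of_p_reg {m : ℕ} {x y : S} (h : Commute x y) {k : ℕ} (hx : x ^ p ^ k = 1) (hy : ¬ p ∣ orderOf y) :
    Tr m x y := Tr.of_coprime h hx (pow_orderOf_eq_one y) (cop_of_reg hy k)

end PLift

end Cfsg.Agent.BHZ.Spor
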