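import Mathlib
import Cfsg.Agent.BHZ.Spor.Tr
import Cfsg.Agent.H711.Crit

/-!
# The local data of a nilpotent block (S4806, sporadic rows; helper25)

`Loc p m D` : the purely local properties of (the image of) a defect group `D` of a nilpotent block of a central
extension with kernel of exponent dividing `m`.  It is inherited by centralizers of subgroups of `Z(D)` (`Loc.comap`)
and by central quotients (`Loc.quot`).
-/

set_option autoImplicit false
set_option linter.unusedSectionVars false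

namespace Cfsg.Agent.BHZ.Spor

open Subgroup
open scoped commutatorElement

universe u v

/-- the local data -/
structure Loc (p m : ℕ) {S : Type u} [Group S] (D : Subgroup S) : Prop where
  pg : IsPGroup p D
  syl : ∃ g : S, ¬ p ∣ orderOf g ∧ (∀ d ∈ D, Commute d g) ∧
    ∀ P : Subgroup S, IsPGroup p P → D ≤ P → (∀ k ∈ P, Commute k g) → P ≤ D
  core : ∀ U : Subgroup S, IsPGroup p U → (∀ x ∈ D, ∀ u ∈ U, x * u * x⁻¹ ∈ U) →
    (∀ x : S, (∀ d ∈ D, Commute d x) → ∀ u ∈ U, x * u * x⁻¹ ∈ U) → U ≤ D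
  fus : ∀ Q : Subgroup S, Q ≤ D → ∀ x : S, (∀ q ∈ Q, x * q * x⁻¹ ∈ Q) → ¬ p ∣ orderOf x →
    (∀ y : S, (∀ q ∈ Q, Commute q y) → ¬ p ∣ orderOf y → Tr m x y) → ∀ q ∈ Q, Commute q x

variable {p m : ℕ} [hp : Fact p.Prime] {S : Type u} [Group S] {D : Subgroup S}

omit hp in
theorem Loc.pelt (h : Loc p m D) {d : S} (hd : d ∈ D) : ∃ k : ℕ, d ^ p ^ k = 1 := by
  obtain ⟨k, hk⟩ := h.pg ⟨d, hd⟩
  exact ⟨k, congrArg Subtype.val hk⟩

omit hp in
theorem pelt_of_mem {U : Subgroup S} (hU : IsPGroup p U) {d : S} (hd : d ∈ U) : ∃ k : ℕ, d ^ p ^ k = 1 := by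
  obtain ⟨k, hk⟩ := hU ⟨d, hd⟩
  exact ⟨k, congrArg Subtype.val hk⟩

omit hp in
theorem isPGroup_of_pelt {U : Subgroup S} (hU : ∀ d ∈ U, ∃ k : ℕ, d ^ p ^ k = 1) : IsPGroup p U := by
  intro d
  obtain ⟨k, hk⟩ := hU d d.2
  exact ⟨k, Subtype.ext hk⟩

omit hp in
theorem isPGroup_zpowers {x : S} {k : ℕ} (hx : x ^ p ^ k = 1) : IsPGroup p (zpowers x) :=
  isPGroup_of_pelt fun _ hd => ⟨k, pelt_of_mem_zpowers hx hd⟩

omit hp in
theorem Loc.mono {m' : ℕ} (h : Loc p m D) (hm : m ∣ m') : Loc p m' D :=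
  ⟨h.pg, h.syl, h.core, fun Q hQ x hx hr hy => h.fus Q hQ x hx hr fun y h1 h2 => (hy y h1 h2).mono hm⟩

omit hp in
/-- the join of two `p`-subgroups, one normalizing the other -/
theorem isPGroup_sup {A B : Subgroup S} (hA : IsPGroup p A) (hB : IsPGroup p B) [Finite S]
    (h : ∀ a ∈ A, ∀ b ∈ B, a * b * a⁻¹ ∈ B) : IsPGroup p (A ⊔ B : Subgroup S) :=
  hA.to_sup_of_normal_right' hB fun a ha => mem_normalizer_fintype fun b hb => h a ha b hb

omit hp in
theorem commute_of_mem_sup {A B : Subgroup S} {g : S} (hA : ∀ a ∈ A, Commute a g) (hB : ∀ b ∈ B, Commute b g) :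
    ∀ k ∈ A ⊔ B, Commute k g := by
  have : A ⊔ B ≤ centralizer ({g} : Set S) :=
    sup_le (fun a ha => mem_centralizer_singleton_iff.2 (hA a ha))
      (fun b hb => mem_centralizer_singleton_iff.2 (hB b hb))
  exact fun k hk => mem_centralizer_singleton_iff.1 (this hk)

/-- passing to the centralizer of a subgroup `Y` of `Z(D)` (given as the range of `f`) -/
theorem Loc.comap [Finite S] (h : Loc p m D) {T : Type v} [Group T] (f : T →* S) (hf : Function.Injective f)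
    {Y : Subgroup S} (hY : Y ≤ D) (hYD : ∀ y ∈ Y, ∀ d ∈ D, Commute y d)
    (hr : ∀ x : S, x ∈ f.range ↔ ∀ y ∈ Y, Commute y x) : Loc p m (D.comap f) := by
  have hD : ∀ d ∈ D, d ∈ f.range := fun d hd => (hr d).2 fun y hy => hYD y hy d hd
  refine ⟨h.pg.comap_of_injective f hf, ?_, ?_, ?_⟩
  · obtain ⟨g, hg, hgD, hmax⟩ := h.syl
    obtain ⟨g, rfl⟩ := (hr g).2 fun y hy => hgD y (hY hy)
    refine ⟨g, by rwa [← orderOf_injective f hf], fun d hd => hf (by
      rw [map_mul, map_mul]; exact hgD _ hd), fun P hP hle hc => ?_⟩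
    refine map_le_iff_le_comap.1 (hmax _ (hP.map f) (fun d hd => ?_) ?_)
    · obtain ⟨d, rfl⟩ := hD d hd
      exact ⟨d, hle hd, rfl⟩
    · rintro _ ⟨k, hk, rfl⟩
      exact (hc k hk).map f
  · intro U hU h1 h2
    refine map_le_iff_le_comap.1 (h.core _ (hU.map f) (fun x hx => ?_) (fun x hx => ?_))
    · obtain ⟨x, rfl⟩ := hD x hx
      rintro _ ⟨u, hu, rfl⟩
      exact ⟨_, h1 x hx u hu, by simp⟩
    · obtain ⟨x, rfl⟩ := (hr x).2 fun y hy => hx y (hY hy)
      rintro _ ⟨u, hu, rfl⟩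
      exact ⟨_, h2 x (fun d hd => hf (by rw [map_mul, map_mul]; exact hx _ hd)) u hu, by simp⟩
  · intro Q hQ x hx hxr hy q hq
    have hxY : ∀ y ∈ Y, Commute y (f x) := (hr _).1 ⟨x, rfl⟩
    have h1 := h.fus (Q.map f ⊔ Y) (sup_le (map_le_iff_le_comap.2 hQ) hY) (f x) (by
        have h3 : (Q.map f ⊔ Y).map (MulAut.conj (f x)).toMonoidHom ≤ Q.map f ⊔ Y := by
          rw [Subgroup.map_sup]
          refine sup_le_sup ?_ ?_
          · rintro _ ⟨_, ⟨u, hu, rfl⟩, rfl⟩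
            exact ⟨_, hx u hu, by simp⟩
          · rintro _ ⟨y, hy, rfl⟩
            have h4 : (MulAut.conj (f x)).toMonoidHom y = y := by
              change f x * y * (f x)⁻¹ = y
              rw [← (hxY y hy).eq, mul_inv_cancel_right]
            rw [h4]; exact hy
        exact fun w hw => h3 ⟨w, hw, rfl⟩) (by rwa [orderOf_injective f hf]) (fun y hy1 hy2 => by
        obtain ⟨y, rfl⟩ := (hr y).2 fun w hw => hy1 w (mem_sup_right hw)
        refine (hy y (fun w hw => hf ?_) (by rwa [← orderOf_injective f hf])).map f hf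
        rw [map_mul, map_mul]
        exact hy1 _ (mem_sup_left ⟨w, hw, rfl⟩)) (f q) (mem_sup_left ⟨q, hq, rfl⟩)
    exact hf (by rw [map_mul, map_mul]; exact h1)

theorem Loc.congr [Finite S] (h : Loc p m D) {T : Type v} [Group T] (e : T ≃* S) :
    Loc p m (D.comap e.toMonoidHom) :=
  h.comap e.toMonoidHom e.injective (Y := ⊥) bot_le (fun y hy d _ => by rw [mem_bot.1 hy]; exact Commute.one_left d)
    fun x => ⟨fun _ y hy => by rw [mem_bot.1 hy]; exact Commute.one_left x, fun _ => e.surjective x⟩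

/-- passing to the centralizer of an element of `Z(D)` -/
theorem Loc.cent [Finite S] (h : Loc p m D) {y : S} (hy : y ∈ D) (hyD : ∀ d ∈ D, Commute y d) :
    Loc p m (D.subgroupOf (centralizer ({y} : Set S))) :=
  h.comap (centralizer ({y} : Set S)).subtype (subtype_injective _) (Y := zpowers y) (zpowers_le.2 hy)
    (fun _ hw d hd => commute_of_mem_zpowers (hyD d hd) hw) fun x => by
      rw [range_subtype, mem_centralizer_singleton_iff]
      exact ⟨fun hx w hw => commute_of_mem_zpowers hx.symm hw, fun hx => (hx y (mem_zpowers y)).symm⟩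

/-- the pairing in a central quotient -/
theorem tr_of_quot [Finite S] {T : Type v} [Group T] (φ : S →* T) (hs : Function.Surjective φ)
    (hc : φ.ker ≤ center S) {e : ℕ} (hexp : ∀ n, φ n = 1 → ¬ p ∣ orderOf n → n ^ e = 1)
    (htr : ∀ n, φ n = 1 → ¬ p ∣ orderOf n → ∀ x, ¬ p ∣ orderOf x → Tr m n x) {x y : S} (hx : ¬ p ∣ orderOf x)
    (hy : ¬ p ∣ orderOf y) (h : Tr (e * m) (φ x) (φ y)) : Tr m x y := by
  intro X _ _ π hsπ hcπ he a b ha hb
  obtain ⟨N, hN, hNm⟩ := exists_plift (p := p) hc (U := ⊥) IsPGroup.of_bot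
  obtain ⟨K, hK, hKm⟩ := exists_plift (p := p) hcπ hN
  have hKm' : ∀ w, w ∈ K ↔ φ (π w) = 1 ∧ ∃ k : ℕ, w ^ p ^ k = 1 := fun w => by
    rw [hKm, hNm, mem_bot]
    exact ⟨fun h => ⟨h.1.1, h.2⟩, fun h => ⟨⟨h.1, h.2.imp fun k hk => by rw [← map_pow, hk, map_one]⟩, h.2⟩⟩
  have hKn : K.Normal := ⟨fun w hw g => by
    obtain ⟨h1, k, hk⟩ := (hKm' w).1 hw
    exact (hKm' _).2 ⟨by simp [h1], k, by rw [conj_pow, hk]; simp⟩⟩
  let ψ : X ⧸ K →* T := QuotientGroup.lift K (φ.comp π) fun w hw => ((hKm' w).1 hw).1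
  have hψ : ∀ w : X, ψ (w : X ⧸ K) = φ (π w) := fun w => rfl
  have hker : ∀ z : X ⧸ K, ψ z = 1 → ∃ w : X, z = w ∧ ¬ p ∣ orderOf w ∧ φ (π w) = 1 := by
    intro z hz
    obtain ⟨w, hw, hwr⟩ := exists_reg_lift (p := p) (QuotientGroup.mk'_surjective K) (x := z) (by
      obtain ⟨w, rfl⟩ := QuotientGroup.mk_surjective z
      obtain ⟨c, d, hc', -, hcd, hk, hd⟩ := exists_parts (p := p) w
      have h1 : c ∈ K := (hKm' c).2 ⟨by
        obtain ⟨n, rfl⟩ := hc'
        rw [map_zpow, map_zpow, ← hψ, hz, one_zpow], hk⟩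
      have h2 : (w : X ⧸ K) = d := by
        rw [hcd, QuotientGroup.mk_mul, (QuotientGroup.eq_one_iff c).2 h1, one_mul]
      rw [h2]
      exact reg_map' (π := QuotientGroup.mk' K) hd)
    refine ⟨w, hw.symm, hwr, ?_⟩
    subst hw
    exact hz
  have h1 := h.apply ψ (fun t => by
      obtain ⟨s, rfl⟩ := hs t
      obtain ⟨w, rfl⟩ := hsπ s
      exact ⟨w, rfl⟩)
    (fun z hz => by
      obtain ⟨w, rfl, hwr, hw⟩ := hker z hz
      refine mem_center_iff.2 fun g => ?_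
      obtain ⟨g, rfl⟩ := QuotientGroup.mk_surjective g
      obtain ⟨c, d, -, -, rfl, ⟨k, hk⟩, hd⟩ := exists_parts (p := p) g
      have h2 : Commute c w := commute_p_reg hcπ (cen_comm hc hw _) hk hwr
      have h3 : Commute d w := (htr _ hw (reg_map' hwr) _ (reg_map' hd) X π hsπ hcπ he w d rfl rfl).symm
      exact (h2.mul_left h3).map (QuotientGroup.mk' K))
    (fun z hz => by
      obtain ⟨w, rfl, hwr, hw⟩ := hker z hz
      have h2 : w ^ (e * m) = 1 := by
        rw [pow_mul]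
        exact he _ (by rw [map_pow]; exact hexp _ hw (reg_map' hwr))
      rw [← QuotientGroup.mk_pow, h2, QuotientGroup.mk_one])
    (a := (a : X ⧸ K)) (b := (b : X ⧸ K)) (by rw [hψ, ha]) (by rw [hψ, hb])
  have h2 : ⁅a, b⁆ ∈ K := by
    rw [← QuotientGroup.eq_one_iff]
    exact map_comm_eq_one (π := QuotientGroup.mk' K) h1
  obtain ⟨-, k, hk⟩ := (hKm' _).1 h2
  have h3 : Commute (φ x) (φ y) := by
    have := h1.map ψ
    rwa [hψ, hψ, ha, hb] at this
  have h4 : Commute x y := by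
    refine commute_of_pows hc h3 (k := p ^ k) (n := orderOf x) ?_
      (comm_pow_order_left hc h3 (by rw [← map_pow, pow_orderOf_eq_one, map_one])) (cop_of_reg hx k)
    rw [← ha, ← hb, ← map_commutatorElement, ← map_pow, hk, map_one]
  subst ha hb
  exact commute_of_pows hcπ h4 hk (comm_pow_order_left hcπ h4 (pow_orderOf_eq_one _)) (cop_of_reg hx k)

/-- passing to a central quotient -/
theorem Loc.quot [Finite S] (h : Loc p m D) {T : Type v} [Group T] (φ : S →* T) (hs : Function.Surjective φ)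
    (hc : φ.ker ≤ center S) {e : ℕ} (hexp : ∀ n, φ n = 1 → ¬ p ∣ orderOf n → n ^ e = 1)
    (htr : ∀ n, φ n = 1 → ¬ p ∣ orderOf n → ∀ x, ¬ p ∣ orderOf x → Tr m n x) : Loc p (e * m) (D.map φ) := by
  have hN : ∀ n, φ n = 1 → ∀ k : ℕ, n ^ p ^ k = 1 → n ∈ D := by
    intro n hn k hk
    refine h.core (zpowers n) (isPGroup_zpowers hk) (fun x _ u hu => ?_) (fun x _ u hu => ?_) (mem_zpowers n) <;>
    · rw [← (commute_of_mem_zpowers (cen_comm hc hn x).symm hu).eq, mul_inv_cancel_right]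
      exact hu
  have hD : ∀ x, φ x ∈ D.map φ → ∀ k : ℕ, x ^ p ^ k = 1 → x ∈ D := by
    rintro x ⟨d, hd, hdx⟩ k hk
    obtain ⟨j, hj⟩ := h.pelt hd
    have h1 : φ (x * d⁻¹) = 1 := by rw [map_mul, map_inv, hdx, mul_inv_cancel]
    have h2 : Commute x d⁻¹ := by
      have h3 := cen_comm hc h1 x
      rw [← mul_assoc] at h3
      have h4 : x * (x * d⁻¹) = x * (d⁻¹ * x) := by rw [← mul_assoc, h3, mul_assoc]
      exact mul_left_cancel h4
    have h3 := hN _ h1 (k + j) (by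
      rw [h2.mul_pow, pow_add, pow_mul, hk, one_pow, one_mul, mul_comm, pow_mul, inv_pow, hj, inv_one, one_pow])
    simpa using D.mul_mem h3 hd
  have hmap : ∀ (U : Subgroup T), IsPGroup p U → ∀ u ∈ U, ∃ a, φ a = u ∧ ∃ k : ℕ, a ^ p ^ k = 1 := by
    intro U hU u hu
    obtain ⟨k, hk⟩ := pelt_of_mem hU hu
    exact exists_p_lift hs hk
  have hconj : ∀ (x a : S), (∃ k : ℕ, a ^ p ^ k = 1) → ∃ k : ℕ, (x * a * x⁻¹) ^ p ^ k = 1 := by
    rintro x a ⟨k, hk⟩
    exact ⟨k, by rw [conj_pow, hk]; simp⟩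
  refine ⟨h.pg.map φ, ?_, ?_, ?_⟩
  · obtain ⟨g, hg, hgD, hmax⟩ := h.syl
    refine ⟨φ g, reg_map' hg, ?_, fun P hP hle hcP => ?_⟩
    · rintro _ ⟨d, hd, rfl⟩
      exact (hgD d hd).map φ
    · obtain ⟨P', hP', hPm⟩ := exists_plift (p := p) hc hP
      have h1 := hmax P' hP' (fun d hd => (hPm d).2 ⟨hle ⟨d, hd, rfl⟩, h.pelt hd⟩) fun k hk => by
        obtain ⟨h2, j, hj⟩ := (hPm k).1 hk
        exact commute_p_reg hc (hcP _ h2) hj hg
      intro u hu
      obtain ⟨a, rfl, ha⟩ := hmap P hP u hu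
      exact ⟨a, h1 ((hPm a).2 ⟨hu, ha⟩), rfl⟩
  · intro U hU h1 h2
    obtain ⟨U', hU', hUm⟩ := exists_plift (p := p) hc hU
    have h3 := h.core U' hU' (fun x hx u hu => (hUm _).2 ⟨by
        rw [map_mul, map_mul, map_inv]
        exact h1 _ ⟨x, hx, rfl⟩ _ ((hUm u).1 hu).1, hconj x u ((hUm u).1 hu).2⟩)
      (fun x hx u hu => (hUm _).2 ⟨by
        rw [map_mul, map_mul, map_inv]
        refine h2 _ ?_ _ ((hUm u).1 hu).1
        rintro _ ⟨d, hd, rfl⟩
        exact (hx d hd).map φ, hconj x u ((hUm u).1 hu).2⟩)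
    intro u hu
    obtain ⟨a, rfl, ha⟩ := hmap U hU u hu
    exact ⟨a, h3 ((hUm a).2 ⟨hu, ha⟩), rfl⟩
  · intro Q hQ x hx hxr hy q hq
    have hQp : IsPGroup p Q := (h.pg.map φ).to_le hQ
    obtain ⟨Q', -, hQm⟩ := exists_plift (p := p) hc hQp
    obtain ⟨x, rfl, hxr'⟩ := exists_reg_lift hs hxr
    obtain ⟨a, rfl, ha⟩ := hmap Q hQp q hq
    refine (h.fus Q' (fun w hw => ?_) x (fun w hw => (hQm _).2 ⟨?_, hconj x w ((hQm w).1 hw).2⟩) hxr'
      (fun y hy1 hy2 => tr_of_quot φ hs hc hexp htr hxr' hy2 (hy _ (fun w hw => ?_) (reg_map' hy2))) a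
      ((hQm a).2 ⟨hq, ha⟩)).map φ
    · obtain ⟨h1, k, hk⟩ := (hQm w).1 hw
      exact hD w (hQ h1) k hk
    · rw [map_mul, map_mul, map_inv]
      exact hx _ ((hQm w).1 hw).1
    · obtain ⟨c, rfl, hc'⟩ := hmap Q hQp w hw
      exact (hy1 c ((hQm c).2 ⟨hw, hc'⟩)).map φ

/-- central quotient by a `p`-group -/
theorem Loc.quotP [Finite S] (h : Loc p m D) {T : Type v} [Group T] (φ : S →* T) (hs : Function.Surjective φ)
    (hc : φ.ker ≤ center S) (hk : ∀ n, φ n = 1 → ∃ k : ℕ, n ^ p ^ k = 1) : Loc p m (D.map φ) := by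
  have h1 : ∀ n, φ n = 1 → ¬ p ∣ orderOf n → n = 1 := fun n hn hr => by
    obtain ⟨k, hk'⟩ := hk n hn
    exact eq_one_of_reg hr hk'
  have := h.quot φ hs hc (e := 1) (fun n hn hr => by rw [h1 n hn hr, one_pow])
    (fun n hn hr x _ => by rw [h1 n hn hr]; exact Tr.one_left x)
  rwa [one_mul] at this

/-- central quotient, starting from the trivial pairing -/
theorem Loc.quotOne [Finite S] (h : Loc p 1 D) {T : Type v} [Group T] (φ : S →* T) (hs : Function.Surjective φ)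
    (hc : φ.ker ≤ center S) {e : ℕ} (hexp : ∀ n, φ n = 1 → ¬ p ∣ orderOf n → n ^ e = 1) : Loc p e (D.map φ) := by
  have := h.quot φ hs hc hexp (fun n hn _ x _ => Tr.of_one (cen_comm hc hn x).symm)
  rwa [mul_one] at this

/-- `C(y) → C(y)/⟨y⟩ ≅ T` for `y ∈ Z(D)` -/
theorem Loc.descend [Finite S] (h : Loc p m D) {y : S} (hy : y ∈ D) (hyD : ∀ d ∈ D, Commute y d)
    {T : Type v} [Group T] (φ : centralizer ({y} : Set S) →* T) (hs : Function.Surjective φ)
    (hk : ∀ n, φ n = 1 → (n : S) ∈ zpowers y) :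
    Loc p m ((D.subgroupOf (centralizer ({y} : Set S))).map φ) := by
  obtain ⟨k, hk'⟩ := h.pelt hy
  refine (h.cent hy hyD).quotP φ hs (fun n hn => mem_center_iff.2 fun g => Subtype.ext ?_) fun n hn =>
    ⟨k, Subtype.ext (pelt_of_mem_zpowers hk' (hk n hn))⟩
  exact (commute_of_mem_zpowers (mem_centralizer_singleton_iff.1 g.2).symm (hk n hn)).symm

/-- no nontrivial `p`-regular element centralizes `D` -/
def RegTriv (p : ℕ) {S : Type u} [Group S] (D : Subgroup S) : Prop :=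
  ∀ r : S, (∀ d ∈ D, Commute d r) → ¬ p ∣ orderOf r → r = 1

omit hp in
theorem Loc.sylow_of_regTriv (h : Loc p m D) (hr : RegTriv p D) (P : Subgroup S) (hP : IsPGroup p P) (hle : D ≤ P) :
    P ≤ D := by
  obtain ⟨g, hg, hgD, hmax⟩ := h.syl
  exact hmax P hP hle fun k _ => by rw [hr g hgD hg]; exact Commute.one_right k

/-- `D` Sylow, and the `p`-regular elements of `N(D)` commute with those of `C(D)` : impossible -/
theorem Loc.false_of_sylow [Finite S] (h : Loc p m D) (hS : H711.Crit.NN p S)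
    (hsyl : ∀ P : Subgroup S, IsPGroup p P → D ≤ P → P ≤ D)
    (htr : ∀ x r : S, (∀ d ∈ D, x * d * x⁻¹ ∈ D) → ¬ p ∣ orderOf x → (∀ d ∈ D, Commute d r) → ¬ p ∣ orderOf r →
      Tr m x r) : False := by
  obtain ⟨Q, hQ⟩ := h.pg.exists_le_sylow
  have hQD : (Q : Subgroup S) = D := le_antisymm (hsyl _ Q.isPGroup' hQ) hQ
  obtain ⟨x, hx, hn, t, ht, hne⟩ := hS.all Q
  have hn' : ∀ d ∈ D, x * d * x⁻¹ ∈ D := fun d hd => by
    rw [← hQD] at hd ⊢
    exact hn d hd
  have h1 := h.fus D le_rfl x hn' hx (fun y hy hyr => htr x y hn' hx hy hyr) t (by rw [← hQD]; exact ht)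
  exact hne (by rw [← h1.eq, mul_inv_cancel_right])

theorem Loc.false_of_regTriv [Finite S] (h : Loc p m D) (hS : H711.Crit.NN p S) (hr : RegTriv p D) : False :=
  h.false_of_sylow hS (h.sylow_of_regTriv hr) fun x r _ _ h1 h2 => by rw [hr r h1 h2]; exact Tr.one_right x

/-- `C(y)` is of characteristic `p` : a `p`-subgroup normalized by `C(y)` whose centralizer is a `p`-group -/
def Constr (p : ℕ) {S : Type u} [Group S] (y : S) : Prop :=
  ∃ U : Subgroup S, IsPGroup p U ∧ (∀ x : S, Commute y x → ∀ u ∈ U, x * u * x⁻¹ ∈ U) ∧ RegTriv p U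

omit hp in
theorem RegTriv.mono {U V : Subgroup S} (h : RegTriv p U) (hUV : U ≤ V) : RegTriv p V :=
  fun r hr => h r fun d hd => hr d (hUV hd)

omit hp in
theorem Loc.le_of_cent (h : Loc p m D) {y : S} (hy : y ∈ D) (hyD : ∀ d ∈ D, Commute y d) {U : Subgroup S}
    (hU : IsPGroup p U) (hn : ∀ x : S, Commute y x → ∀ u ∈ U, x * u * x⁻¹ ∈ U) : U ≤ D :=
  h.core U hU (fun x hx => hn x (hyD x hx)) fun x hx => hn x (hx y hy)

omit hp in
theorem Loc.regTriv_of_constr (h : Loc p m D) {y : S} (hy : y ∈ D) (hyD : ∀ d ∈ D, Commute y d)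
    (hc : Constr p y) : RegTriv p D := by
  obtain ⟨U, hU, hn, hr⟩ := hc
  exact hr.mono (h.le_of_cent hy hyD hU hn)

theorem Loc.not_constr [Finite S] (h : Loc p m D) (hS : H711.Crit.NN p S) {y : S} (hy : y ∈ D)
    (hyD : ∀ d ∈ D, Commute y d) : ¬ Constr p y :=
  fun hc => h.false_of_regTriv hS (h.regTriv_of_constr hy hyD hc)

omit hp in
theorem Constr.conj {y : S} (h : Constr p y) {z : S} (hz : IsConj y z) : Constr p z := by
  obtain ⟨c, rfl⟩ := isConj_iff.1 hz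
  obtain ⟨U, hU, hn, hr⟩ := h
  refine ⟨U.map (MulAut.conj c).toMonoidHom, hU.map _, fun x hx => ?_, fun r hr1 hr2 => ?_⟩
  · rintro _ ⟨u, hu, rfl⟩
    refine ⟨_, hn (c⁻¹ * x * c) ?_ u hu, by simp [mul_assoc]⟩
    have := hx.map (MulAut.conj c⁻¹)
    simpa [mul_assoc] using this
  · have h1 := hr (c⁻¹ * r * c) (fun d hd => by
      have := (hr1 _ ⟨d, hd, rfl⟩).map (MulAut.conj c⁻¹)
      simpa [mul_assoc] using this) (by
      have := (MulAut.conj c⁻¹).orderOf_eq r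
      simp only [MulAut.conj_apply, inv_inv] at this
      rwa [this])
    calc r = c * (c⁻¹ * r * c) * c⁻¹ := by group
      _ = 1 := by rw [h1]; group

omit hp in
theorem Constr.of_zpowers {y z : S} (h : Constr p y) (hz : y ∈ zpowers z) : Constr p z := by
  obtain ⟨U, hU, hn, hr⟩ := h
  exact ⟨U, hU, fun x hx => hn x (commute_of_mem_zpowers hx hz), hr⟩

/-- a nontrivial normal subgroup of a `p`-group contains a central element of order `p` -/
theorem exists_central [Finite S] (hD : IsPGroup p D) {N : Subgroup S} (hN : N ≠ ⊥) (hND : N ≤ D)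
    (hn : ∀ d ∈ D, ∀ u ∈ N, d * u * d⁻¹ ∈ N) : ∃ y ∈ N, orderOf y = p ∧ ∀ d ∈ D, Commute y d := by
  have hNn : (N.subgroupOf D).Normal := ⟨fun u hu d => hn d d.2 u hu⟩
  have hne : N.subgroupOf D ≠ ⊥ := by
    intro h0
    rw [subgroupOf_eq_bot] at h0
    exact hN (h0.eq_bot_of_le hND)
  let _ : MulAction D (N.subgroupOf D) := MulAction.compHom _ (MulAut.conjNormal (H := N.subgroupOf D))
  have hcard : p ∣ Nat.card (N.subgroupOf D) := by
    obtain ⟨n, hn'⟩ := (hD.to_subgroup (N.subgroupOf D)).exists_card_eq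
    rw [hn']
    refine dvd_pow_self p ?_
    rintro rfl
    exact hne (card_eq_one.1 (by rw [hn', pow_zero]))
  obtain ⟨b, hb, hb1⟩ := hD.exists_fixed_point_of_prime_dvd_card_of_fixed_point (N.subgroupOf D) hcard
    (a := 1) (fun d => map_one (MulAut.conjNormal (H := N.subgroupOf D) d))
  have hbc : ∀ d ∈ D, Commute ((b : D) : S) d := fun d hd => by
    have h1 : d * ((b : D) : S) * d⁻¹ = (b : D) := congrArg (fun w : N.subgroupOf D => ((w : D) : S)) (hb ⟨d, hd⟩)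
    exact (mul_inv_eq_iff_eq_mul.1 h1).symm
  have hb0 : ((b : D) : S) ≠ 1 := fun h0 => hb1 (Subtype.ext (Subtype.ext h0.symm))
  obtain ⟨k, hk⟩ := pelt_of_mem hD (b : D).2
  obtain ⟨j, -, hj⟩ := (Nat.dvd_prime_pow hp.out).1 (orderOf_dvd_of_pow_eq_one hk)
  have hj0 : j ≠ 0 := by
    rintro rfl
    exact hb0 (orderOf_eq_one_iff.1 (by simpa using hj))
  refine ⟨((b : D) : S) ^ (orderOf ((b : D) : S) / p), N.pow_mem b.2 _, ?_, fun d hd => (hbc d hd).pow_left _⟩
  exact orderOf_pow_orderOf_div (orderOf_pos _).ne' (by rw [hj]; exact dvd_pow_self p hj0)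

/-- a nonabelian `p`-group has an element of order `p` in `Z(D) ∩ D'` -/
theorem exists_deep [Finite S] (hD : IsPGroup p D) (hna : ¬ IsMulCommutative D) :
    ∃ y ∈ ⁅D, D⁆, orderOf y = p ∧ ∀ d ∈ D, Commute y d := by
  refine exists_central hD (fun h0 => hna ⟨⟨fun a b => Subtype.ext ?_⟩⟩) (commutator_le.2 fun a ha b hb => ?_)
    fun d hd u hu => ?_
  · have h1 : ⁅(a : S), (b : S)⁆ ∈ ⁅D, D⁆ := commutator_mem_commutator a.2 b.2
    rw [h0, mem_bot, commutatorElement_eq_one_iff_mul_comm] at h1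
    exact h1
  · rw [commutatorElement_def]
    exact D.mul_mem (D.mul_mem (D.mul_mem ha hb) (D.inv_mem ha)) (D.inv_mem hb)
  · have h1 : ⁅D, D⁆.map (MulAut.conj d).toMonoidHom ≤ ⁅D, D⁆ := by
      rw [map_commutator]
      have h2 : D.map (MulAut.conj d).toMonoidHom ≤ D := by
        rintro _ ⟨w, hw, rfl⟩
        exact D.mul_mem (D.mul_mem hd hw) (D.inv_mem hd)
      exact commutator_mono h2 h2
    exact h1 ⟨u, hu, rfl⟩

end Cfsg.Agent.BHZ.Spor
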