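import Mathlib
import Cfsg.Prelude.Def_CaseTheorems
import Cfsg.Agent.BHZ.Spor.Loc
import Cfsg.Agent.BHZ.Nil.Block0
import Cfsg.Agent.Lib.Cores
import Cfsg.Agent.S0028
import Cfsg.Agent.H95.StemCover

/-!
# From a nilpotent block to `Loc`, and the rows (S4806, sporadic rows; helper25)
-/

set_option autoImplicit false
set_option linter.unusedSectionVars false

namespace Cfsg.Agent.BHZ.Spor

open Cfsg Subgroup
open scoped commutatorElement

universe u v w

variable {p m : ℕ} [hp : Fact p.Prime]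

/-- a defect group of a nilpotent block -/
theorem loc_of_block {G : Type u} [Group G] [Finite G] {M : Ideal AlgInt} (hM : IsPModular p M)
    {B : Set (IrrCharacter G)} (hB : IsNilpotentBlock p M B) {D : Subgroup G} (hD : IsDefectGroup p M B D) :
    Loc p 1 D := by
  have hDp := Nil.isPGroup_defect hD
  obtain ⟨g, hg, hgD, hmax⟩ := Nil.exists_reg_defect hM hB.1 hD
  have hgD' : ∀ d ∈ D, Commute d g := fun d hd => mem_centralizer_iff.1 hgD d hd
  refine ⟨hDp, ⟨g, hg, hgD', fun P hP hle hc => (hmax P hP hle hc).le⟩, fun U hU h1 h2 => ?_,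
    fun Q hQ x hx hr hy q hq => ?_⟩
  · let C : Subgroup G := centralizer (D : Set G)
    have hW : (pCore p C).map C.subtype ≤ D := by
      have := Lib.Cores.pCore_characteristic (G := C) p
      refine Nil.defect_rad hM hB.1 hD ((Lib.Cores.pCore_isPGroup p).map _) (fun n hn => ?_)
        ((map_subtype_le _).trans (Subgroup.centralizer_le_normalizer _))
      have hnC : n ∈ normalizer (C : Set G) := H644.mem_normalizer_centralizer hn
      refine mem_normalizer_fintype ?_
      rintro _ ⟨w, hw, rfl⟩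
      have h3 := (characteristic_iff_map_le.1 this) (C.normalizerMonoidHom ⟨n, hnC⟩) ⟨w, hw, rfl⟩
      exact ⟨_, h3, rfl⟩
    have hUC : U ⊓ C ≤ D := by
      refine le_trans ?_ hW
      have h3 : U.subgroupOf C ≤ pCore p C := Lib.Cores.le_pCore
        ⟨fun u hu c => h2 c (fun d hd => mem_centralizer_iff.1 c.2 d hd) u hu⟩ hU.comap_subtype
      have h4 := map_mono (f := C.subtype) h3
      rwa [subgroupOf_map_subtype] at h4
    have h5 := S0028.result p D (zpowers g) U hDp (by
        rw [Nat.card_zpowers]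
        exact ((Nat.Prime.coprime_iff_not_dvd hp.out).2 hg).symm) hU
      (fun d hd => mem_centralizer_iff.2 fun w hw => commute_of_mem_zpowers (hgD' d hd).symm hw)
      (fun d hd => mem_normalizer_fintype (h1 d hd))
      (zpowers_le.2 (mem_normalizer_fintype (h2 g hgD')))
      (fun u hu => mem_centralizer_iff.2 fun w hw => commute_of_mem_zpowers (hgD' u (hUC hu)).symm hw)
    have h6 := hmax (D ⊔ U) (isPGroup_sup hDp hU h1) le_sup_left
      (commute_of_mem_sup hgD' fun u hu => mem_centralizer_iff.1 (h5 (mem_zpowers g)) u hu)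
    exact le_sup_right.trans h6.le
  · exact mem_centralizer_iff.1 (Nil.mem_centralizer_of_nilpotent hM hB hD hQ (mem_normalizer_fintype hx) hr
      fun y hy1 hy2 => (hy y (fun w hw => mem_centralizer_iff.1 hy1 w hw) hy2).commute) q hq

/-- the row: `D` is abelian -/
def RowAb (p m : ℕ) (S : Type u) [Group S] : Prop := ∀ D : Subgroup S, Loc p m D → IsMulCommutative D

/-- the strong row: `D` is cyclic -/
def RowCyc (p m : ℕ) (S : Type u) [Group S] : Prop := ∀ D : Subgroup S, Loc p m D → IsCyclic D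

section

variable {S : Type u} [Group S] {T : Type v} [Group T]

omit hp in
theorem RowCyc.rowAb (h : RowCyc p m S) : RowAb p m S := fun D hD => by
  have := h D hD
  infer_instance

omit hp in
theorem RowAb.of_dvd {m' : ℕ} (h : RowAb p m' S) (hm : m ∣ m') : RowAb p m S := fun D hD => h D (hD.mono hm)

omit hp in
theorem RowCyc.of_dvd {m' : ℕ} (h : RowCyc p m' S) (hm : m ∣ m') : RowCyc p m S := fun D hD => h D (hD.mono hm)

omit hp in
theorem comm_of_forall {D : Subgroup S} (h : ∀ a ∈ D, ∀ b ∈ D, Commute a b) : IsMulCommutative D :=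
  ⟨⟨fun a b => Subtype.ext (h a a.2 b b.2)⟩⟩

omit hp in
theorem forall_of_comm {D : Subgroup S} (h : IsMulCommutative D) : ∀ a ∈ D, ∀ b ∈ D, Commute a b :=
  fun a ha b hb => congrArg Subtype.val (h.is_comm.comm ⟨a, ha⟩ ⟨b, hb⟩)

omit hp in
theorem isCyclic_iff_le {D : Subgroup S} : IsCyclic D ↔ ∃ c ∈ D, ∀ d ∈ D, d ∈ zpowers c := by
  constructor
  · intro h
    obtain ⟨c, hc⟩ := h.exists_generator
    refine ⟨c, c.2, fun d hd => ?_⟩
    obtain ⟨n, hn⟩ := hc ⟨d, hd⟩
    exact ⟨n, congrArg Subtype.val hn⟩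
  · rintro ⟨c, hc, h⟩
    refine ⟨⟨⟨c, hc⟩, fun d => ?_⟩⟩
    obtain ⟨n, hn⟩ := h d d.2
    exact ⟨n, Subtype.ext hn⟩

theorem RowAb.congr [Finite T] (h : RowAb p m S) (e : S ≃* T) : RowAb p m T := fun D hD => by
  have h1 := forall_of_comm (h _ (hD.congr e))
  refine comm_of_forall fun a ha b hb => ?_
  obtain ⟨a, rfl⟩ := e.surjective a
  obtain ⟨b, rfl⟩ := e.surjective b
  exact (h1 a ha b hb).map e

theorem RowCyc.congr [Finite T] (h : RowCyc p m S) (e : S ≃* T) : RowCyc p m T := fun D hD => by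
  obtain ⟨c, hc, h1⟩ := isCyclic_iff_le.1 (h _ (hD.congr e))
  refine isCyclic_iff_le.2 ⟨e c, hc, fun d hd => ?_⟩
  obtain ⟨d, rfl⟩ := e.surjective d
  obtain ⟨n, rfl⟩ := h1 d hd
  exact ⟨n, (map_zpow e c n).symm⟩

omit hp in
/-- cyclic modulo a central subgroup -/
theorem comm_of_map_cyclic {D : Subgroup S} (φ : S →* T) (hc : φ.ker ≤ center S) (h : IsCyclic (D.map φ)) :
    IsMulCommutative D := by
  obtain ⟨_, ⟨c, -, rfl⟩, h1⟩ := isCyclic_iff_le.1 h
  refine comm_of_forall fun a ha b hb => ?_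
  obtain ⟨i, hi⟩ := h1 _ ⟨a, ha, rfl⟩
  obtain ⟨j, hj⟩ := h1 _ ⟨b, hb, rfl⟩
  exact commute_of_lift hc (a' := c ^ i) (b' := c ^ j) (by rw [map_zpow]; exact hi.symm)
    (by rw [map_zpow]; exact hj.symm) (Commute.zpow_zpow_self c i j)

/-- abelian modulo a central `p'`-subgroup -/
theorem comm_of_map_comm {D : Subgroup S} (hD : IsPGroup p D) (φ : S →* T) (hc : φ.ker ≤ center S) {e : ℕ}
    (he : ∀ n, φ n = 1 → n ^ e = 1) (hpe : ¬ p ∣ e) (h : IsMulCommutative (D.map φ)) : IsMulCommutative D := by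
  refine comm_of_forall fun a ha b hb => ?_
  have h1 := forall_of_comm h _ ⟨a, ha, rfl⟩ _ ⟨b, hb, rfl⟩
  obtain ⟨k, hk⟩ := pelt_of_mem hD ha
  exact commute_of_pows hc h1 (comm_pow_order_left hc h1 (n := p ^ k) (by rw [← map_pow, hk, map_one]))
    (he _ (map_comm_eq_one h1)) (Nat.Coprime.pow_left k ((Nat.Prime.coprime_iff_not_dvd hp.out).2 hpe))

/-- recursion: `C(y)/⟨y⟩ ≅ T` with a strong row -/
theorem Loc.comm_of_descend [Finite S] {D : Subgroup S} (h : Loc p m D) {y : S} (hy : y ∈ D)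
    (hyD : ∀ d ∈ D, Commute y d) (φ : centralizer ({y} : Set S) →* T) (hs : Function.Surjective φ)
    (hk : ∀ n, φ n = 1 → (n : S) ∈ zpowers y) (hT : RowCyc p m T) : IsMulCommutative D := by
  have h1 := forall_of_comm (comm_of_map_cyclic φ (fun n hn => mem_center_iff.2 fun g => Subtype.ext
    (commute_of_mem_zpowers (mem_centralizer_singleton_iff.1 g.2).symm (hk n hn)).symm)
    (hT _ (h.descend hy hyD φ hs hk)))
  refine comm_of_forall fun a ha b hb => ?_
  exact congrArg Subtype.val (h1 ⟨a, mem_centralizer_singleton_iff.2 (hyD a ha).symm⟩ ha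
    ⟨b, mem_centralizer_singleton_iff.2 (hyD b hb).symm⟩ hb)

end

/-- the conclusion of S4806 for all quasisimple covers of `S` -/
def Cover (p : ℕ) (S : Type v) [Group S] : Prop :=
  ∀ (G : Type u) [Group G] [Finite G], IsQuasisimple G → Nonempty (G ⧸ center G ≃* S) →
    ∀ D : Subgroup G, Loc p 1 D → IsMulCommutative D

section

variable {S : Type v} [Group S]

theorem cover_aux {n : ℕ} (hn : HasCyclicSchurMultiplier S n) {G : Type u} [Group G] [Finite G]
    (hG : IsQuasisimple G) (e : G ⧸ center G ≃* S) :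
    ∃ φ : G →* S, Function.Surjective φ ∧ φ.ker ≤ center G ∧ ∀ z, φ z = 1 → z ^ n = 1 := by
  let φ : G →* S := e.toMonoidHom.comp (QuotientGroup.mk' (center G))
  have hk : φ.ker ≤ center G := fun z hz => by
    have h1 : e (z : G ⧸ center G) = 1 := hz
    rwa [map_eq_one_iff _ e.injective, QuotientGroup.eq_one_iff] at h1
  have hs : Function.Surjective φ := e.surjective.comp (QuotientGroup.mk'_surjective _)
  refine ⟨φ, hs, hk, fun z hz => ?_⟩
  have h1 := H95.StemCover.card_ker_dvd_cyclic hn hG.1.commutator_eq_top φ hs hk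
  have h2 : (⟨z, hz⟩ : φ.ker) ^ n = 1 := by
    obtain ⟨k, rfl⟩ := h1
    rw [pow_mul, pow_card_eq_one', one_pow]
  exact congrArg Subtype.val h2

theorem cover_of_rowAb {n : ℕ} (hn : HasCyclicSchurMultiplier S n) (hpn : ¬ p ∣ n) (h : RowAb p n S) :
    Cover.{u} p S := by
  rintro G _ _ hG ⟨e⟩ D hD
  obtain ⟨φ, hs, hk, he⟩ := cover_aux hn hG e
  exact comm_of_map_comm hD.pg φ hk he hpn (h _ (hD.quotOne φ hs hk fun z hz _ => he z hz))

theorem cover_of_rowCyc {n : ℕ} (hn : HasCyclicSchurMultiplier S n) (h : RowCyc p n S) : Cover.{u} p S := by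
  rintro G _ _ hG ⟨e⟩ D hD
  obtain ⟨φ, hs, hk, he⟩ := cover_aux hn hG e
  exact comm_of_map_cyclic φ hk (h _ (hD.quotOne φ hs hk fun z hz _ => he z hz))

theorem cover_of_rowCyc_zero (h : RowCyc p 0 S) : Cover.{u} p S := by
  rintro G _ _ - ⟨e⟩ D hD
  let φ : G →* S := e.toMonoidHom.comp (QuotientGroup.mk' (center G))
  have hk : φ.ker ≤ center G := fun z hz => by
    have h1 : e (z : G ⧸ center G) = 1 := hz
    rwa [map_eq_one_iff _ e.injective, QuotientGroup.eq_one_iff] at h1
  have hs : Function.Surjective φ := e.surjective.comp (QuotientGroup.mk'_surjective _)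
  exact comm_of_map_cyclic φ hk (h _ (hD.quotOne φ hs hk fun z _ _ => pow_zero z))

/-- abelian Sylow subgroups -/
theorem rowAb_of_sylow [Finite S] (h : ∀ P : Sylow p S, IsMulCommutative (P : Subgroup S)) : RowAb p m S := by
  intro D hD
  obtain ⟨P, hP⟩ := hD.pg.exists_le_sylow
  exact comm_of_forall fun a ha b hb => forall_of_comm (h P) a (hP ha) b (hP hb)

theorem comm_of_not_cube_dvd [Finite S] {D : Subgroup S} (hD : IsPGroup p D) (h : ¬ p ^ 3 ∣ Nat.card D) :
    IsMulCommutative D := by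
  obtain ⟨n, hn⟩ := hD.exists_card_eq
  have h3 : n ≤ 2 := by
    by_contra h0
    exact h (hn ▸ pow_dvd_pow p (by omega))
  interval_cases n
  · have : Subsingleton D := (Nat.card_eq_one_iff_unique.1 (by simpa using hn)).1
    exact ⟨⟨fun a b => Subsingleton.elim _ _⟩⟩
  · have := isCyclic_of_prime_card (p := p) (by simpa using hn)
    infer_instance
  · exact IsPGroup.isMulCommutative_of_card_eq_prime_sq hn

theorem cyclic_of_not_sq_dvd [Finite S] {D : Subgroup S} (hD : IsPGroup p D) (h : ¬ p ^ 2 ∣ Nat.card D) :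
    IsCyclic D := by
  obtain ⟨n, hn⟩ := hD.exists_card_eq
  have h3 : n ≤ 1 := by
    by_contra h0
    exact h (hn ▸ pow_dvd_pow p (by omega))
  interval_cases n
  · have : Subsingleton D := (Nat.card_eq_one_iff_unique.1 (by simpa using hn)).1
    infer_instance
  · exact isCyclic_of_prime_card (p := p) (by simpa using hn)

theorem rowAb_of_card [Finite S] (h : ¬ p ^ 3 ∣ Nat.card S) : RowAb p m S := fun D hD =>
  comm_of_not_cube_dvd hD.pg fun h0 => h (h0.trans (card_subgroup_dvd_card D))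

theorem rowCyc_of_card [Finite S] (h : ¬ p ^ 2 ∣ Nat.card S) : RowCyc p m S := fun D hD =>
  cyclic_of_not_sq_dvd hD.pg fun h0 => h (h0.trans (card_subgroup_dvd_card D))

/-- an element of prime order in `C(D)` -/
theorem exists_prime_of_not_regTriv [Finite S] {D : Subgroup S} (h : ¬ RegTriv p D) :
    ∃ t : S, (orderOf t).Prime ∧ orderOf t ≠ p ∧ ∀ d ∈ D, Commute d t := by
  unfold RegTriv at h
  push Not at h
  obtain ⟨r, h1, h2, h3⟩ := h
  obtain ⟨q, hq, hqr⟩ := Nat.exists_prime_and_dvd (n := orderOf r) (by rwa [Ne, orderOf_eq_one_iff])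
  have h4 := orderOf_pow_orderOf_div (orderOf_pos r).ne' hqr
  refine ⟨r ^ (orderOf r / q), by rwa [h4], ?_, fun d hd => (h1 d hd).pow_right _⟩
  rw [h4]
  rintro rfl
  exact h2 hqr

theorem card_dvd_of_comm [Finite S] {D : Subgroup S} {t : S} (h : ∀ d ∈ D, Commute d t) :
    Nat.card D ∣ Nat.card (centralizer ({t} : Set S)) :=
  card_dvd_of_le fun d hd => mem_centralizer_singleton_iff.2 (h d hd)

/-- approach via centralizers of elements of prime order `r ≠ p` : `p³` does not divide their orders -/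
theorem rowAb_of_cent [Finite S] (hS : H711.Crit.NN p S)
    (h : ∀ t : S, (orderOf t).Prime → orderOf t ≠ p → ¬ p ^ 3 ∣ Nat.card (centralizer ({t} : Set S))) :
    RowAb p m S := by
  intro D hD
  obtain ⟨t, h1, h2, h3⟩ := exists_prime_of_not_regTriv (hD.false_of_regTriv hS)
  exact comm_of_not_cube_dvd hD.pg fun h0 => h t h1 h2 (h0.trans (card_dvd_of_comm h3))

theorem rowCyc_of_cent [Finite S] (hS : H711.Crit.NN p S)
    (h : ∀ t : S, (orderOf t).Prime → orderOf t ≠ p → ¬ p ^ 2 ∣ Nat.card (centralizer ({t} : Set S))) :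
    RowCyc p m S := by
  intro D hD
  obtain ⟨t, h1, h2, h3⟩ := exists_prime_of_not_regTriv (hD.false_of_regTriv hS)
  exact cyclic_of_not_sq_dvd hD.pg fun h0 => h t h1 h2 (h0.trans (card_dvd_of_comm h3))

/-- approach via the elements of order `p` : each is constrained or outside the commutator subgroup of every
`p`-subgroup of its centralizer -/
theorem rowAb_of_deep [Finite S] (hS : H711.Crit.NN p S)
    (h : ∀ y : S, orderOf y = p → y ∈ ⁅centralizer ({y} : Set S), centralizer ({y} : Set S)⁆ → Constr p y) :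
    RowAb p m S := by
  intro D hD
  by_contra hna
  obtain ⟨y, hy, hyp, hyD⟩ := exists_deep hD.pg hna
  have hle : D ≤ centralizer ({y} : Set S) := fun d hd => mem_centralizer_singleton_iff.2 (hyD d hd).symm
  have hyD' : y ∈ D := (commutator_le.2 fun a ha b hb => by
    rw [commutatorElement_def]
    exact D.mul_mem (D.mul_mem (D.mul_mem ha hb) (D.inv_mem ha)) (D.inv_mem hb)) hy
  exact hD.not_constr hS hyD' hyD (h y hyp (commutator_mono hle hle hy))

end

end Cfsg.Agent.BHZ.Spor
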