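import Mathlib
import Cfsg.Agent.BHZ.Spor.Block

/-!
# S4806, sporadic rows: class by class arguments (helper4)

`AbAt p m y` : every `D` with `Loc p m D` having `y` in its centre is abelian; `CycAt p m y` : is cyclic.
-/

set_option autoImplicit false
set_option linter.unusedSectionVars false

namespace Cfsg.Agent.BHZ.Spor

open Subgroup
open scoped commutatorElement

universe u v

/-- the groups `D` with `y ∈ Z(D)` are abelian -/
def AbAt (p m : ℕ) {S : Type u} [Group S] (y : S) : Prop :=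
  ∀ D : Subgroup S, Loc p m D → y ∈ D → (∀ d ∈ D, Commute y d) → IsMulCommutative D

/-- the groups `D` with `y ∈ Z(D)` are cyclic -/
def CycAt (p m : ℕ) {S : Type u} [Group S] (y : S) : Prop :=
  ∀ D : Subgroup S, Loc p m D → y ∈ D → (∀ d ∈ D, Commute y d) → IsCyclic D

variable {p m : ℕ} [hp : Fact p.Prime] {S : Type u} [Group S] [Finite S] {T : Type v} [Group T]

theorem CycAt.abAt {y : S} (h : CycAt p m y) : AbAt p m y := fun D hD h1 h2 => by
  have := h D hD h1 h2
  infer_instance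

theorem AbAt.congr [Finite T] {y : S} (h : AbAt p m y) (e : S ≃* T) : AbAt p m (e y) := fun D hD h1 h2 => by
  have h3 := forall_of_comm (h _ (hD.congr e) h1 fun d hd => e.injective (by
    rw [map_mul, map_mul]; exact h2 _ hd))
  refine comm_of_forall fun a ha b hb => ?_
  obtain ⟨a, rfl⟩ := e.surjective a
  obtain ⟨b, rfl⟩ := e.surjective b
  exact (h3 a ha b hb).map e

theorem CycAt.congr [Finite T] {y : S} (h : CycAt p m y) (e : S ≃* T) : CycAt p m (e y) := fun D hD h1 h2 => by
  obtain ⟨c, hc, h3⟩ := isCyclic_iff_le.1 (h _ (hD.congr e) h1 fun d hd => e.injective (by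
    rw [map_mul, map_mul]; exact h2 _ hd))
  refine isCyclic_iff_le.2 ⟨e c, hc, fun d hd => ?_⟩
  obtain ⟨d, rfl⟩ := e.surjective d
  obtain ⟨n, rfl⟩ := h3 d hd
  exact ⟨n, (map_zpow e c n).symm⟩

theorem AbAt.conj {y z : S} (h : AbAt p m y) (hz : IsConj y z) : AbAt p m z := by
  obtain ⟨c, rfl⟩ := isConj_iff.1 hz
  exact h.congr (MulAut.conj c)

theorem CycAt.conj {y z : S} (h : CycAt p m y) (hz : IsConj y z) : CycAt p m z := by
  obtain ⟨c, rfl⟩ := isConj_iff.1 hz
  exact h.congr (MulAut.conj c)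

theorem AbAt.of_zpowers {y z : S} (h : AbAt p m y) (hz : y ∈ zpowers z) : AbAt p m z := fun D hD h1 h2 =>
  h D hD (zpowers_le.2 h1 hz) fun d hd => commute_of_mem_zpowers (h2 d hd) hz

theorem CycAt.of_zpowers {y z : S} (h : CycAt p m y) (hz : y ∈ zpowers z) : CycAt p m z := fun D hD h1 h2 =>
  h D hD (zpowers_le.2 h1 hz) fun d hd => commute_of_mem_zpowers (h2 d hd) hz

theorem AbAt.inv {y : S} (h : AbAt p m y) : AbAt p m y⁻¹ := h.of_zpowers ⟨-1, by simp⟩

theorem CycAt.inv {y : S} (h : CycAt p m y) : CycAt p m y⁻¹ := h.of_zpowers ⟨-1, by simp⟩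

theorem Constr.cycAt (hS : H711.Crit.NN p S) {y : S} (h : Constr p y) : CycAt p m y :=
  fun _ hD h1 h2 => (hD.not_constr hS h1 h2 h).elim

theorem Constr.abAt (hS : H711.Crit.NN p S) {y : S} (h : Constr p y) : AbAt p m y := (h.cycAt hS).abAt

theorem rowAb_of_abAt
    (h : ∀ y : S, orderOf y = p → y ∈ ⁅centralizer ({y} : Set S), centralizer ({y} : Set S)⁆ → AbAt p m y) :
    RowAb p m S := by
  intro D hD
  by_contra hna
  obtain ⟨y, hy, hyp, hyD⟩ := exists_deep hD.pg hna
  have hle : D ≤ centralizer ({y} : Set S) := fun d hd => mem_centralizer_singleton_iff.2 (hyD d hd).symm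
  have hyD' : y ∈ D := (commutator_le.2 fun a ha b hb => by
    rw [commutatorElement_def]
    exact D.mul_mem (D.mul_mem (D.mul_mem ha hb) (D.inv_mem ha)) (D.inv_mem hb)) hy
  exact hna (h y hyp (commutator_mono hle hle hy) D hD hyD' hyD)

theorem rowCyc_of_cycAt (h : ∀ y : S, orderOf y = p → CycAt p m y) : RowCyc p m S := by
  intro D hD
  by_cases h0 : D = ⊥
  · subst h0
    infer_instance
  · obtain ⟨y, hy, hyp, hyD⟩ := exists_central hD.pg h0 le_rfl fun d hd u hu =>
      D.mul_mem (D.mul_mem hd hu) (D.inv_mem hd)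
    exact h y hyp D hD hy hyD

/-- `C(y)` is a central extension of a group with a strong row, `m = 1` -/
theorem abAt_of_central {y : S} (φ : centralizer ({y} : Set S) →* T) (hs : Function.Surjective φ)
    (hc : φ.ker ≤ center _) {e : ℕ} (hexp : ∀ n, φ n = 1 → ¬ p ∣ orderOf n → n ^ e = 1) (hT : RowCyc p e T) :
    AbAt p 1 y := by
  intro D h hy hyD
  have h1 := forall_of_comm (comm_of_map_cyclic φ hc (hT _ ((h.cent hy hyD).quotOne φ hs hc hexp)))
  refine comm_of_forall fun a ha b hb => ?_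
  exact congrArg Subtype.val (h1 ⟨a, mem_centralizer_singleton_iff.2 (hyD a ha).symm⟩ ha
    ⟨b, mem_centralizer_singleton_iff.2 (hyD b hb).symm⟩ hb)

/-- `C(y)/⟨y⟩` has a strong row -/
theorem abAt_of_descend {y : S} (φ : centralizer ({y} : Set S) →* T) (hs : Function.Surjective φ)
    (hk : ∀ n, φ n = 1 → (n : S) ∈ zpowers y) (hT : RowCyc p m T) : AbAt p m y :=
  fun _ h hy hyD => h.comm_of_descend hy hyD φ hs hk hT

end Cfsg.Agent.BHZ.Spor
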