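import Mathlib
import Cfsg.Prelude.Def_Classification2
import Cfsg.Agent.BHZ.Spor.Block

/-!
# The sporadic rows of S4806 (helper25): the list of the local statements

Each field is a statement about `Loc p m D` (`BHZ/Spor/Loc.lean`) in one sporadic group; `m` is the `p'`-part of the order of the Schur
multiplier (a row proved for `m = 0` gives it for all `m` by `RowAb.of_dvd`, `RowCyc.of_dvd`).
-/

set_option autoImplicit false

namespace Cfsg.Agent.BHZ.Spor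

open Cfsg

universe u v

theorem cover_of_rowCyc' {p : ℕ} [Fact p.Prime] {S : Type v} [Group S] {n e : ℕ} (hn : HasCyclicSchurMultiplier S n)
    (hne : n = e * p) (h : RowCyc p e S) : Cover.{u} p S := by
  rintro G _ _ hG ⟨f⟩ D hD
  obtain ⟨φ, hs, hk, he⟩ := cover_aux hn hG f
  refine comm_of_map_cyclic φ hk (h _ (hD.quotOne φ hs hk fun z hz hr => ?_))
  refine eq_one_of_reg (p := p) (reg_of_mem_zpowers hr (Subgroup.npow_mem_zpowers z e)) (k := 1) ?_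
  rw [pow_one, ← pow_mul, ← hne]
  exact he z hz

/-- the rows -/
structure Rows : Prop where
  m12_3 : ∀ (S : Type) [Group S] [Finite S], Spor.IsoM12 S → RowAb 3 2 S
  m22_3 : ∀ (S : Type) [Group S] [Finite S], Spor.IsoM22 S → RowCyc 3 4 S
  m24_3 : ∀ (S : Type) [Group S] [Finite S], Spor.IsoM24 S → RowAb 3 1 S
  j2_3 : ∀ (S : Type) [Group S] [Finite S], Spor.IsoJ2 S → RowAb 3 2 S
  j3_3 : ∀ (S : Type) [Group S] [Finite S], Spor.IsoJ3 S → RowCyc 3 1 S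
  j4_3 : ∀ (S : Type) [Group S] [Finite S], Spor.IsoJ4 S → RowAb 3 1 S
  j4_11 : ∀ (S : Type) [Group S] [Finite S], Spor.IsoJ4 S → RowAb 11 1 S
  co1_3 : ∀ (S : Type) [Group S] [Finite S], Spor.IsoCo1 S → RowAb 3 2 S
  co1_5 : ∀ (S : Type) [Group S] [Finite S], Spor.IsoCo1 S → RowAb 5 2 S
  co2_3 : ∀ (S : Type) [Group S] [Finite S], Spor.IsoCo2 S → RowAb 3 1 S
  co2_5 : ∀ (S : Type) [Group S] [Finite S], Spor.IsoCo2 S → RowAb 5 1 S
  co3_3 : ∀ (S : Type) [Group S] [Finite S], Spor.IsoCo3 S → RowAb 3 1 S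
  co3_5 : ∀ (S : Type) [Group S] [Finite S], Spor.IsoCo3 S → RowAb 5 1 S
  mcl_3 : ∀ (S : Type) [Group S] [Finite S], Spor.IsoMcL S → RowCyc 3 1 S
  mcl_5 : ∀ (S : Type) [Group S] [Finite S], Spor.IsoMcL S → RowAb 5 3 S
  hs_5 : ∀ (S : Type) [Group S] [Finite S], Spor.IsoHS S → RowAb 5 2 S
  suz_3 : ∀ (S : Type) [Group S] [Finite S], Spor.IsoSuz S → RowCyc 3 2 S
  he_3 : ∀ (S : Type) [Group S] [Finite S], Spor.IsoHe S → RowAb 3 1 S
  he_7 : ∀ (S : Type) [Group S] [Finite S], Spor.IsoHe S → RowAb 7 1 S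
  ru_3 : ∀ (S : Type) [Group S] [Finite S], Spor.IsoRu S → RowAb 3 2 S
  ru_5 : ∀ (S : Type) [Group S] [Finite S], Spor.IsoRu S → RowAb 5 2 S
  on_3 : ∀ (S : Type) [Group S] [Finite S], Spor.IsoON S → RowCyc 3 1 S
  on_7 : ∀ (S : Type) [Group S] [Finite S], Spor.IsoON S → RowAb 7 3 S
  ly_3 : ∀ (S : Type) [Group S] [Finite S], Spor.IsoLy S → RowAb 3 1 S
  ly_5 : ∀ (S : Type) [Group S] [Finite S], Spor.IsoLy S → RowAb 5 1 S
  fi22_3 : ∀ (S : Type) [Group S] [Finite S], Spor.IsoFi22 S → RowCyc 3 2 S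
  fi23_3 : ∀ (S : Type) [Group S] [Finite S], Spor.IsoFi23 S → RowAb 3 1 S
  fi24_3 : ∀ (S : Type) [Group S] [Finite S], Spor.IsoFi24' S → RowCyc 3 1 S
  fi24_7 : ∀ (S : Type) [Group S] [Finite S], Spor.IsoFi24' S → RowAb 7 3 S
  hn_3 : ∀ (S : Type) [Group S] [Finite S], Spor.IsoHN S → RowAb 3 1 S
  hn_5 : ∀ (S : Type) [Group S] [Finite S], Spor.IsoHN S → RowAb 5 1 S
  th_3 : ∀ (S : Type) [Group S] [Finite S], Spor.IsoTh S → RowAb 3 1 S
  th_5 : ∀ (S : Type) [Group S] [Finite S], Spor.IsoTh S → RowAb 5 1 S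
  b_3 : ∀ (S : Type) [Group S] [Finite S], Spor.IsoB S → RowAb 3 2 S
  b_5 : ∀ (S : Type) [Group S] [Finite S], Spor.IsoB S → RowAb 5 2 S
  m_3 : ∀ (S : Type) [Group S] [Finite S], Spor.IsoM S → RowAb 3 1 S
  m_5 : ∀ (S : Type) [Group S] [Finite S], Spor.IsoM S → RowAb 5 1 S
  m_7 : ∀ (S : Type) [Group S] [Finite S], Spor.IsoM S → RowAb 7 1 S
  m_13 : ∀ (S : Type) [Group S] [Finite S], Spor.IsoM S → RowAb 13 1 S
  tits_3 : ∀ (S : Type) [Group S] [Finite S], Lie.IsoTits S → RowAb 3 1 S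

end Cfsg.Agent.BHZ.Spor
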