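import Mathlib
import Cfsg.Agent.BHZ.Spor.Iface
import Cfsg.Agent.H709.PB.Deg
import Cfsg.Agent.S0953
import Cfsg.Agent.Blocks.ExistsModular
import Cfsg.Agent.H712.GmnNN
import Cfsg.Agent.H123.SporSimple
import Cfsg.Agent.NotCT.Orders

/-!
# S4806, sporadic rows (helper25): one block of full defect; `NN` for the sporadic groups
-/

set_option autoImplicit false
set_option linter.unusedSectionVars false

namespace Cfsg.Agent.BHZ.Spor

open Cfsg Subgroup Cfsg.Agent.H709.PB Cfsg.Agent.H711.Crit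

universe u v

variable {p m : ℕ} [hp : Fact p.Prime] {S : Type u} [Group S] [Finite S]

/-- if the principal block is the only block of full defect, the centralizer of a Sylow subgroup is a `p`-group -/
theorem regTriv_of_nb (h : NB p 1 S) (P : Sylow p S) : RegTriv p (P : Subgroup S) := by
  obtain ⟨M, hM⟩ := Blocks.ExistsModular.exists_isPModular hp.out
  have hMp : M.IsPrime := hM.2.1.isPrime
  have h1 := S0953.result p M hM P
  have h2 : Subsingleton {B : Set (IrrCharacter S) // IsPBlock M B ∧ IsDefectGroup p M B (P : Subgroup S)} := by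
    have key : ∀ B : Set (IrrCharacter S), IsPBlock M B → IsDefectGroup p M B (P : Subgroup S) →
        B = principalBlock M S := by
      intro B hB hD
      obtain ⟨χ, hχ, hd⟩ := S0953.exists_degree_of_isDefectGroup hM P hB hD
      have h3 : χ ∈ principalBlock M S := by
        by_contra h0
        exact hd (by simpa using h M hM χ h0)
      rw [Blocks.Basic.isPBlock_eq_blockOf hB hχ]
      exact (Blocks.Basic.blockOf_eq_iff.2 h3).symm
    exact ⟨fun a b => Subtype.ext ((key _ a.2.1 a.2.2).trans (key _ b.2.1 b.2.2).symm)⟩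
  have h3 := Finite.card_le_one_iff_subsingleton.2 h2
  rw [h1, Finite.card_le_one_iff_subsingleton] at h3
  intro r hr1 hr2
  have hrC : r ∈ centralizer ((P : Subgroup S) : Set S) := mem_centralizer_iff.2 fun d hd => hr1 d hd
  let r' : normalizer ((P : Subgroup S) : Set S) := ⟨r, centralizer_le_normalizer _ hrC⟩
  have key : ∀ x : normalizer ((P : Subgroup S) : Set S), ¬ p ∣ orderOf x →
      (x : S) ∈ centralizer ((P : Subgroup S) : Set S) → ∀ n : normalizer ((P : Subgroup S) : Set S),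
      ConjClasses.mk n = ConjClasses.mk x → ¬ p ∣ orderOf n ∧ (n : S) ∈ centralizer ((P : Subgroup S) : Set S) := by
    intro x hx1 hx2 n hn
    obtain ⟨c, rfl⟩ := isConj_iff.1 (ConjClasses.mk_eq_mk_iff_isConj.1 hn).symm
    refine ⟨by rwa [show orderOf (c * x * c⁻¹) = orderOf x from (MulAut.conj c).orderOf_eq x], ?_⟩
    refine mem_centralizer_iff.2 fun d hd => ?_
    have h4 : (c : S)⁻¹ * d * c ∈ (P : Subgroup S) := (mem_normalizer_iff''.1 c.2 d).1 hd
    have h5 := mem_centralizer_iff.1 hx2 _ h4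
    change d * (c * x * (c : S)⁻¹) = c * x * (c : S)⁻¹ * d
    calc d * (c * x * (c : S)⁻¹) = c * ((c : S)⁻¹ * d * c * x) * (c : S)⁻¹ := by group
      _ = c * x * (c : S)⁻¹ * d := by rw [h5]; group
  have h6 := h3.elim ⟨ConjClasses.mk r', key r' (by rwa [← orderOf_coe]) hrC⟩
    ⟨ConjClasses.mk 1, key 1 (by rw [orderOf_one, Nat.dvd_one]; exact hp.out.one_lt.ne') (one_mem _)⟩
  have h7 := ConjClasses.mk_eq_mk_iff_isConj.1 (congrArg Subtype.val h6)
  rw [isConj_one_left] at h7
  exact congrArg Subtype.val h7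

/-- Sylow subgroups of order at most `p³` with `p`-group centralizers -/
theorem rowAb_of_regTriv (hS : NN p S) (h4 : ¬ p ^ 4 ∣ Nat.card S) (h : ∀ P : Sylow p S, RegTriv p (P : Subgroup S)) :
    RowAb p m S := by
  intro D hD
  by_contra hna
  obtain ⟨P, hP⟩ := hD.pg.exists_le_sylow
  have h3 : p ^ 3 ∣ Nat.card D := by
    by_contra h0
    exact hna (comm_of_not_cube_dvd hD.pg h0)
  obtain ⟨n, hn⟩ := P.isPGroup'.exists_card_eq
  have hn3 : n ≤ 3 := by
    by_contra h0
    exact h4 ((pow_dvd_pow p (by omega)).trans (hn ▸ card_subgroup_dvd_card (P : Subgroup S)))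
  have h5 : D = P := eq_of_le_of_card_ge hP (by
    rw [hn]
    exact (Nat.pow_le_pow_right hp.out.pos hn3).trans (Nat.le_of_dvd Nat.card_pos h3))
  exact hD.false_of_regTriv hS (h5 ▸ h P)

theorem rowAb_of_nb (hS : NN p S) (h4 : ¬ p ^ 4 ∣ Nat.card S) (h : NB p 1 S) : RowAb p m S :=
  rowAb_of_regTriv hS h4 (regTriv_of_nb h)

theorem rowCyc_of_regTriv (hS : NN p S) (h3 : ¬ p ^ 3 ∣ Nat.card S) (h : ∀ P : Sylow p S, RegTriv p (P : Subgroup S)) :
    RowCyc p m S := by
  intro D hD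
  by_contra hna
  obtain ⟨P, hP⟩ := hD.pg.exists_le_sylow
  have h2 : p ^ 2 ∣ Nat.card D := by
    by_contra h0
    exact hna (cyclic_of_not_sq_dvd hD.pg h0)
  obtain ⟨n, hn⟩ := P.isPGroup'.exists_card_eq
  have hn3 : n ≤ 2 := by
    by_contra h0
    exact h3 ((pow_dvd_pow p (by omega)).trans (hn ▸ card_subgroup_dvd_card (P : Subgroup S)))
  have h5 : D = P := eq_of_le_of_card_ge hP (by
    rw [hn]
    exact (Nat.pow_le_pow_right hp.out.pos hn3).trans (Nat.le_of_dvd Nat.card_pos h2))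
  exact hD.false_of_regTriv hS (h5 ▸ h P)

omit [Finite S] in
theorem not_prime_of_four {n : ℕ} (h : 4 ∣ n) : ¬ n.Prime := by
  intro hn
  have h2 := (Nat.prime_dvd_prime_iff_eq Nat.prime_two hn).1 ((by norm_num : 2 ∣ 4).trans h)
  subst h2
  norm_num at h

theorem nn_five (hS : IsSimpleGroup S) (h5 : 5 ≤ p) {n : ℕ} (hn : Nat.card S = n) (h4 : 4 ∣ n) (hd : p ∣ n) : NN p S :=
  H712.GmnNN.nn_of_five h5 (hn ▸ hd) (hn ▸ not_prime_of_four h4)

theorem nn_three (hS : IsSimpleGroup S) {n : ℕ} (hn : Nat.card S = n) (h4 : 4 ∣ n) (hd : 3 ∣ n) (h81 : ¬ 81 ∣ n) :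
    NN 3 S :=
  H712.GmnNN.nn_of_three (hn ▸ hd) (hn ▸ h81) (hn ▸ not_prime_of_four h4)

end Cfsg.Agent.BHZ.Spor
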