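import Mathlib
import Cfsg.Agent.BHZ.Spor.NBTools

/-!
# S4806, sporadic rows (helper25): small tools
-/

set_option autoImplicit false
set_option linter.unusedSectionVars false

namespace Cfsg.Agent.BHZ.Spor

open Cfsg Subgroup
open scoped commutatorElement

universe u v

variable {p m : ℕ} {S : Type u} [Group S]

theorem card_cent_of_conj {x y : S} (h : IsConj x y) :
    Nat.card (centralizer ({x} : Set S)) = Nat.card (centralizer ({y} : Set S)) := by
  obtain ⟨c, rfl⟩ := isConj_iff.1 h
  refine Nat.card_congr ⟨fun z => ⟨c * z * c⁻¹, ?_⟩, fun z => ⟨c⁻¹ * z * c, ?_⟩, fun z => Subtype.ext (by simp [mul_assoc]),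
    fun z => Subtype.ext (by simp [mul_assoc])⟩
  · have := (show Commute (z : S) x from mem_centralizer_singleton_iff.1 z.2).map (MulAut.conj c)
    exact mem_centralizer_singleton_iff.2 this
  · have := (show Commute (z : S) (c * x * c⁻¹) from mem_centralizer_singleton_iff.1 z.2).map (MulAut.conj c⁻¹)
    refine mem_centralizer_singleton_iff.2 ?_
    simpa [mul_assoc] using this.eq

theorem card_class_eq_index (t : S) : Nat.card {g : S // IsConj t g} = (centralizer ({t} : Set S)).index := by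
  let _ : MulAction S S := MulAction.compHom S (MulAut.conj : S →* MulAut S)
  have h1 : centralizer ({t} : Set S) = MulAction.stabilizer S t := by
    ext g
    rw [mem_centralizer_singleton_iff, MulAction.mem_stabilizer_iff]
    change _ ↔ g * t * g⁻¹ = t
    rw [mul_inv_eq_iff_eq_mul]
  rw [h1, MulAction.index_stabilizer, ← Nat.card_coe_set_eq]
  exact Nat.card_congr (Equiv.subtypeEquivRight fun g => isConj_iff)

/-- the transfer of `Constr` along an isomorphism -/
theorem Constr.map {T : Type v} [Group T] (e : S ≃* T) {y : S} (h : Constr p y) : Constr p (e y) := by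
  obtain ⟨U, hU, hn, hr⟩ := h
  refine ⟨U.map e.toMonoidHom, hU.map _, fun x hx => ?_, fun r hr1 hr2 => ?_⟩
  · obtain ⟨x, rfl⟩ := e.surjective x
    rintro _ ⟨u, hu, rfl⟩
    exact ⟨_, hn x (e.injective (by rw [map_mul, map_mul]; exact hx)) u hu, by simp⟩
  · obtain ⟨r, rfl⟩ := e.surjective r
    rw [hr r (fun d hd => e.injective (by rw [map_mul, map_mul]; exact hr1 _ ⟨d, hd, rfl⟩))
      (by rwa [← e.orderOf_eq]), map_one]

/-- `Constr` from a normal `p`-subgroup of the centralizer whose centralizer is a `p`-group -/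
theorem Constr.of_normal [Fact p.Prime] {y : S} (hy : ∃ k : ℕ, y ^ p ^ k = 1) [Finite S]
    (N : Subgroup (centralizer ({y} : Set S))) (hN : N.Normal) (hp : IsPGroup p N)
    (hC : ∀ r : centralizer ({y} : Set S), (∀ n ∈ N, Commute n r) → ¬ p ∣ orderOf r → r = 1) : Constr p y := by
  obtain ⟨k, hk⟩ := hy
  refine ⟨zpowers y ⊔ N.map (centralizer ({y} : Set S)).subtype, isPGroup_sup (isPGroup_zpowers hk) (hp.map _) ?_,
    fun x hx => ?_, fun r hr1 hr2 => ?_⟩
  · rintro a ha _ ⟨n, hn, rfl⟩
    exact ⟨_, hN.conj_mem n hn ⟨a, mem_centralizer_singleton_iff.2 (commute_of_mem_zpowers (Commute.refl y) ha)⟩, rfl⟩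
  · have h3 : (zpowers y ⊔ N.map (centralizer ({y} : Set S)).subtype).map (MulAut.conj x).toMonoidHom ≤
        zpowers y ⊔ N.map (centralizer ({y} : Set S)).subtype := by
      rw [Subgroup.map_sup]
      refine sup_le_sup ?_ ?_
      · rintro _ ⟨w, hw, rfl⟩
        have h4 : (MulAut.conj x).toMonoidHom w = w := by
          change x * w * x⁻¹ = w
          rw [← (commute_of_mem_zpowers hx hw).eq, mul_inv_cancel_right]
        rw [h4]; exact hw
      · rintro _ ⟨_, ⟨n, hn, rfl⟩, rfl⟩
        exact ⟨_, hN.conj_mem n hn ⟨x, mem_centralizer_singleton_iff.2 hx.symm⟩, rfl⟩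
    exact fun w hw => h3 ⟨w, hw, rfl⟩
  · have h1 : r ∈ centralizer ({y} : Set S) :=
      mem_centralizer_singleton_iff.2 (hr1 y (mem_sup_left (mem_zpowers y))).symm
    have h2 := hC ⟨r, h1⟩ (fun n hn => Subtype.ext (hr1 n (mem_sup_right ⟨n, hn, rfl⟩))) (by rwa [← orderOf_coe])
    exact congrArg Subtype.val h2

theorem Constr.of_centric [Fact p.Prime] {y : S} (hy : ∃ k : ℕ, y ^ p ^ k = 1) [Finite S]
    (N : Subgroup (centralizer ({y} : Set S))) (hN : N.Normal) (hp : IsPGroup p N)
    (hC : centralizer (N : Set (centralizer ({y} : Set S))) ≤ N) : Constr p y :=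
  Constr.of_normal hy N hN hp fun r h1 h2 => by
    obtain ⟨k, hk⟩ := pelt_of_mem hp (hC (mem_centralizer_iff.2 fun n hn => h1 n hn))
    exact eq_one_of_reg h2 hk

/-- `Constr` from a `p`-subgroup normalized by the centralizer, with `p`-group centralizer -/
theorem Constr.of_isPGroup [Fact p.Prime] {y : S} (U : Subgroup S) (hU : IsPGroup p U)
    (hn : ∀ x : S, Commute y x → ∀ u ∈ U, x * u * x⁻¹ ∈ U) (hC : IsPGroup p (centralizer (U : Set S))) : Constr p y :=
  ⟨U, hU, hn, fun r h1 h2 => by
    obtain ⟨k, hk⟩ := pelt_of_mem hC (mem_centralizer_iff.2 fun n hn => h1 n hn)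
    exact eq_one_of_reg h2 hk⟩

/-- the centralizer of `y` is a `p`-group -/
theorem Constr.of_self [Fact p.Prime] {y : S} (hy : ∃ k : ℕ, y ^ p ^ k = 1)
    (hC : IsPGroup p (centralizer ({y} : Set S))) : Constr p y := by
  obtain ⟨k, hk⟩ := hy
  refine ⟨zpowers y, isPGroup_zpowers hk, fun x hx u hu => ?_, fun r h1 h2 => ?_⟩
  · rw [← (commute_of_mem_zpowers hx hu).eq, mul_inv_cancel_right]
    exact hu
  · obtain ⟨j, hj⟩ := pelt_of_mem hC (mem_centralizer_singleton_iff.2 (h1 y (mem_zpowers y)).symm)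
    exact eq_one_of_reg h2 hj

/-- `y` is not in the commutator subgroup of its centralizer if a homomorphism to an abelian group moves it -/
theorem not_deep_of_hom {y : S} {A : Type v} [CommGroup A] (f : centralizer ({y} : Set S) →* A)
    (hf : f ⟨y, mem_centralizer_singleton_iff.2 rfl⟩ ≠ 1) :
    y ∉ ⁅centralizer ({y} : Set S), centralizer ({y} : Set S)⁆ := by
  intro h
  rw [← map_subtype_commutator] at h
  obtain ⟨w, hw, hwy⟩ := h
  have h1 : w = ⟨y, mem_centralizer_singleton_iff.2 rfl⟩ := Subtype.ext hwy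
  exact hf (h1 ▸ Abelianization.commutator_subset_ker f hw)

/-- `C(y) = ⟨y⟩ L` with `y ∉ L` -/
theorem not_deep_of_sup {y : S} (L : Subgroup S) (hy : y ∉ L)
    (h : ∀ x : S, Commute y x → ∃ a ∈ zpowers y, ∃ l ∈ L, x = a * l) :
    y ∉ ⁅centralizer ({y} : Set S), centralizer ({y} : Set S)⁆ := by
  intro h0
  refine hy ((commutator_le.2 fun a ha b hb => ?_) h0)
  have ha' : Commute y a := (mem_centralizer_singleton_iff.1 ha).symm
  have hb' : Commute y b := (mem_centralizer_singleton_iff.1 hb).symm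
  obtain ⟨c, hc, l, hl, rfl⟩ := h a ha'
  obtain ⟨d, hd, k, hk, rfl⟩ := h b hb'
  have hyc : Commute y c := (commute_of_mem_zpowers (Commute.refl y) hc).symm
  have hyd : Commute y d := (commute_of_mem_zpowers (Commute.refl y) hd).symm
  have hyl : Commute y l := by simpa using hyc.inv_right.mul_right ha'
  have hyk : Commute y k := by simpa using hyd.inv_right.mul_right hb'
  have h1 : Commute c l := commute_of_mem_zpowers hyl hc
  have h2 : Commute c k := commute_of_mem_zpowers hyk hc
  have h3 : Commute d l := commute_of_mem_zpowers hyl hd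
  have h4 : Commute d k := commute_of_mem_zpowers hyk hd
  have h5 : Commute c d := commute_of_mem_zpowers hyd hc
  have h6 : ⁅c * l, d * k⁆ = ⁅l, k⁆ := by
    simp only [commutatorElement_def, mul_inv_rev]
    have e1 : Commute c (l * (d * k) * l⁻¹) := (h1.mul_right (h5.mul_right h2)).mul_right h1.inv_right
    have e2 : Commute d (k * l⁻¹ * k⁻¹) := (h4.mul_right h3.inv_right).mul_right h4.inv_right
    calc c * l * (d * k) * (l⁻¹ * c⁻¹) * (k⁻¹ * d⁻¹) = (c * (l * (d * k) * l⁻¹) * c⁻¹) * (k⁻¹ * d⁻¹) := by group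
      _ = l * (d * (k * l⁻¹ * k⁻¹) * d⁻¹) := by rw [e1.eq]; group
      _ = l * k * l⁻¹ * k⁻¹ := by rw [e2.eq]; group
  rw [h6, commutatorElement_def]
  exact L.mul_mem (L.mul_mem (L.mul_mem hl hk) (L.inv_mem hl)) (L.inv_mem hk)

end Cfsg.Agent.BHZ.Spor
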