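import Mathlib
import Cfsg.Agent.BHZ.Spor.Tools
import Cfsg.Agent.BHZ.Spor.Desc

/-!
# S4806, sporadic rows (helper84): small tools
-/

set_option autoImplicit false
set_option linter.unusedSectionVars false

namespace Cfsg.Agent.BHZ.Spor

open Cfsg Subgroup
open scoped commutatorElement

universe u v

variable {p m : ℕ} {S : Type u} [Group S]

/-- `C(y) = A L` with `L` normalized by `C(y)`, `A` abelian and `y ∉ L` -/
theorem not_deep_of_norm {y : S} (L A : Subgroup S) (hy : y ∉ L)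
    (hn : ∀ x : S, Commute y x → ∀ l ∈ L, x * l * x⁻¹ ∈ L) (hA : ∀ a ∈ A, ∀ b ∈ A, Commute a b)
    (hAy : ∀ a ∈ A, Commute y a) (h : ∀ x : S, Commute y x → ∃ a ∈ A, ∃ l ∈ L, x = a * l) :
    y ∉ ⁅centralizer ({y} : Set S), centralizer ({y} : Set S)⁆ := by
  intro h0
  refine hy ((commutator_le.2 fun a ha b hb => ?_) h0)
  obtain ⟨c, hc, l, hl, rfl⟩ := h a (mem_centralizer_singleton_iff.1 ha).symm
  obtain ⟨d, hd, k, hk, rfl⟩ := h b (mem_centralizer_singleton_iff.1 hb).symm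
  have h1 : ⁅c * l, d * k⁆ = (c * l * c⁻¹) * ((c * d) * (k * l⁻¹) * (c * d)⁻¹) * (d * k⁻¹ * d⁻¹) := by
    have h2 := (hA c hc d hd).eq
    simp only [commutatorElement_def, mul_inv_rev]
    calc c * l * (d * k) * (l⁻¹ * c⁻¹) * (k⁻¹ * d⁻¹)
        = c * l * c⁻¹ * ((c * d) * (k * l⁻¹) * (d⁻¹ * c⁻¹)) * ((c * d) * c⁻¹ * k⁻¹ * d⁻¹) := by group
      _ = _ := by rw [show c * d * c⁻¹ = d by rw [h2, mul_inv_cancel_right]]
  rw [h1]
  exact L.mul_mem (L.mul_mem (hn c (hAy c hc) l hl)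
    (hn _ ((hAy c hc).mul_right (hAy d hd)) _ (L.mul_mem hk (L.inv_mem hl)))) (hn d (hAy d hd) _ (L.inv_mem hk))

end Cfsg.Agent.BHZ.Spor
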