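import Mathlib
import Cfsg.Agent.BHZ.Spor.DTools
import Cfsg.Agent.Lib.GenFitting
import Cfsg.Agent.SignalizersComponents.LayerBasic

/-!
# S4806, sporadic rows (helper84): `p`-subgroups normalized by a centralizer
-/

set_option autoImplicit false
set_option linter.unusedSectionVars false

namespace Cfsg.Agent.BHZ.Spor

open Cfsg Subgroup
open scoped commutatorElement

universe u v

variable {p m : ℕ} {S : Type u} [Group S]

/-- a `p`-subgroup normalized by `C(y)` -/
def NormP (p : ℕ) {S : Type u} [Group S] (y : S) (U : Subgroup S) : Prop :=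
  IsPGroup p U ∧ ∀ x : S, Commute y x → ∀ u ∈ U, x * u * x⁻¹ ∈ U

theorem NormP.constr {y : S} {U : Subgroup S} (h : NormP p y U) (hr : RegTriv p U) : Constr p y := ⟨U, h.1, h.2, hr⟩

theorem NormP.zp {y : S} (hy : ∃ k : ℕ, y ^ p ^ k = 1) : NormP p y (zpowers y) := by
  obtain ⟨k, hk⟩ := hy
  refine ⟨isPGroup_zpowers hk, fun x hx u hu => ?_⟩
  rw [← (commute_of_mem_zpowers hx hu).eq, mul_inv_cancel_right]
  exact hu

theorem NormP.of_normal {y : S} (H : Subgroup S) (hH : ∀ x, Commute y x → x ∈ H) (N : Subgroup H) (hN : N.Normal)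
    (hp : IsPGroup p N) : NormP p y (N.map H.subtype) := by
  refine ⟨hp.map _, fun x hx => ?_⟩
  rintro _ ⟨n, hn, rfl⟩
  exact ⟨_, hN.conj_mem n hn ⟨x, hH x hx⟩, rfl⟩

theorem NormP.sup [Finite S] {y : S} {U V : Subgroup S} (hU : NormP p y U) (hV : NormP p y V)
    (h : ∀ a ∈ U, ∀ b ∈ V, a * b * a⁻¹ ∈ V) : NormP p y (U ⊔ V) := by
  refine ⟨isPGroup_sup hU.1 hV.1 h, fun x hx => ?_⟩
  have h3 : (U ⊔ V).map (MulAut.conj x).toMonoidHom ≤ U ⊔ V := by
    rw [Subgroup.map_sup]
    refine sup_le_sup ?_ ?_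
    · rintro _ ⟨w, hw, rfl⟩
      exact hU.2 x hx w hw
    · rintro _ ⟨w, hw, rfl⟩
      exact hV.2 x hx w hw
  exact fun w hw => h3 ⟨w, hw, rfl⟩

theorem NormP.zp_sup [Finite S] {y : S} {V : Subgroup S} (hy : ∃ k : ℕ, y ^ p ^ k = 1) (hV : NormP p y V) :
    NormP p y (zpowers y ⊔ V) :=
  (NormP.zp hy).sup hV fun a ha => hV.2 a (commute_of_mem_zpowers (Commute.refl y) ha).symm

theorem NormP.le {y : S} {U D : Subgroup S} [Fact p.Prime] (h : NormP p y U) (hD : Loc p m D) (hy : y ∈ D)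
    (hyD : ∀ d ∈ D, Commute y d) : U ≤ D := hD.le_of_cent hy hyD h.1 h.2

theorem NormP.constr' [Finite S] {y : S} {V : Subgroup S} (hy : ∃ k : ℕ, y ^ p ^ k = 1) (hV : NormP p y V)
    (h : ∀ r : S, Commute y r → (∀ v ∈ V, Commute v r) → ¬ p ∣ orderOf r → r = 1) : Constr p y :=
  (NormP.zp_sup hy hV).constr fun r h1 h2 =>
    h r (h1 y (mem_sup_left (mem_zpowers y))) (fun v hv => h1 v (mem_sup_right hv)) h2

theorem mem_normalizer_of_commute [Finite S] {y x : S} (h : Commute y x) :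
    x ∈ normalizer ((zpowers y : Subgroup S) : Set S) :=
  mem_normalizer_fintype fun n hn => by
    rw [← (commute_of_mem_zpowers h hn).eq, mul_inv_cancel_right]
    exact hn

/-- `Constr` from an overgroup `H` of `C(y)` -/
theorem Constr.of_over [Finite S] {y : S} (hy : ∃ k : ℕ, y ^ p ^ k = 1) (H : Subgroup S)
    (hH : ∀ x, Commute y x → x ∈ H) (N : Subgroup H) (hN : N.Normal) (hp : IsPGroup p N)
    (hC : ∀ r : H, Commute y r → (∀ n ∈ N, Commute n r) → ¬ p ∣ orderOf r → r = 1) : Constr p y :=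
  (NormP.of_normal H hH N hN hp).constr' hy fun r h1 h2 h3 => congrArg Subtype.val
    (hC ⟨r, hH r h1⟩ h1 (fun n hn => Subtype.ext (h2 n ⟨n, hn, rfl⟩)) (by rwa [← orderOf_coe]))

/-- `F*(H)` is a `p`-group for an overgroup `H` of `C(y)` -/
theorem Constr.of_genFitting [Fact p.Prime] [Finite S] {y : S} (hy : ∃ k : ℕ, y ^ p ^ k = 1) (H : Subgroup S)
    (hH : ∀ x, Commute y x → x ∈ H) (hp : IsPGroup p (generalizedFittingSubgroup H)) : Constr p y :=
  Constr.of_over hy H hH _ (SignalizersComponents.LayerBasic.generalizedFittingSubgroup_normal H) hp fun r _ h1 h2 => by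
    obtain ⟨k, hk⟩ := pelt_of_mem hp
      (Lib.GenFitting.centralizer_genFitting_le (mem_centralizer_iff.2 fun n hn => h1 n hn))
    exact eq_one_of_reg h2 hk

theorem Constr.inv {y : S} (h : Constr p y) : Constr p y⁻¹ := h.of_zpowers ⟨-1, by simp⟩

/-- membership in the commutator subgroup of the centralizer is a property of the class -/
theorem deep_map {T : Type v} [Group T] (e : S ≃* T) {y : S}
    (h : y ∈ ⁅centralizer ({y} : Set S), centralizer ({y} : Set S)⁆) :
    e y ∈ ⁅centralizer ({e y} : Set T), centralizer ({e y} : Set T)⁆ := by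
  have h1 : (centralizer ({y} : Set S)).map e.toMonoidHom ≤ centralizer ({e y} : Set T) := by
    rintro _ ⟨x, hx, rfl⟩
    exact mem_centralizer_singleton_iff.2
      ((show Commute x y from mem_centralizer_singleton_iff.1 hx).map e).eq
  refine commutator_mono h1 h1 ?_
  rw [← map_commutator]
  exact ⟨y, h, rfl⟩

theorem deep_conj {y z : S} (hz : IsConj y z) (h : y ∈ ⁅centralizer ({y} : Set S), centralizer ({y} : Set S)⁆) :
    z ∈ ⁅centralizer ({z} : Set S), centralizer ({z} : Set S)⁆ := by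
  obtain ⟨c, rfl⟩ := isConj_iff.1 hz
  exact deep_map (MulAut.conj c) h

theorem deep_inv {y : S} (h : y ∈ ⁅centralizer ({y} : Set S), centralizer ({y} : Set S)⁆) :
    y⁻¹ ∈ ⁅centralizer ({y⁻¹} : Set S), centralizer ({y⁻¹} : Set S)⁆ := by
  have h1 : centralizer ({y} : Set S) ≤ centralizer ({y⁻¹} : Set S) := fun x hx =>
    mem_centralizer_singleton_iff.2 (show Commute x y from mem_centralizer_singleton_iff.1 hx).inv_right.eq
  exact commutator_mono h1 h1 (inv_mem h)

end Cfsg.Agent.BHZ.Spor
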