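import Mathlib
import Cfsg.Agent.BHZ.Spor.DNorm
import Cfsg.Agent.LThreeMB.Quo

/-!
# S4806, sporadic rows (helper25): more small tools
-/

set_option autoImplicit false
set_option linter.unusedSectionVars false

namespace Cfsg.Agent.BHZ.Spor

open Cfsg Subgroup
open scoped commutatorElement

universe u v

variable {p m : ℕ} {S : Type u} [Group S]

/-- `C(y)/⟨y⟩` is perfect with a multiplier of exponent `n`, and `y ^ n ≠ 1` -/
theorem not_deep_of_mult {y : S} {T : Type v} [Group T] {n : ℕ} (hn : HasCyclicSchurMultiplier T n)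
    (hT : commutator T = ⊤) (φ : centralizer ({y} : Set S) →* T) (hs : Function.Surjective φ)
    (hk : ∀ c, φ c = 1 ↔ (c : S) ∈ zpowers y) (hy : y ^ n ≠ 1) :
    y ∉ ⁅centralizer ({y} : Set S), centralizer ({y} : Set S)⁆ := by
  intro h
  rw [← map_subtype_commutator] at h
  obtain ⟨w, hw, hwy'⟩ := h
  have hwy : (w : S) = y := hwy'
  have hker : φ.ker ≤ commutator (centralizer ({y} : Set S)) := fun c hc => by
    obtain ⟨i, hi⟩ := (hk c).1 hc
    have h1 : c = w ^ i := Subtype.ext (by rw [SubgroupClass.coe_zpow, ← hi]; exact congrArg (· ^ i) hwy.symm)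
    rw [h1]
    exact zpow_mem hw i
  have hP : commutator (centralizer ({y} : Set S)) = ⊤ := by
    refine eq_top_iff.2 fun c _ => ?_
    have h1 : φ c ∈ (commutator (centralizer ({y} : Set S))).map φ := by
      rw [commutator_def, map_commutator, ← MonoidHom.range_eq_map, MonoidHom.range_eq_top.2 hs, ← commutator_def, hT]
      trivial
    obtain ⟨d, hd, hdc⟩ := h1
    have h2 : d⁻¹ * c ∈ φ.ker := by rw [MonoidHom.mem_ker, map_mul, map_inv, hdc, inv_mul_cancel]
    simpa using mul_mem hd (hker h2)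
  have hc : φ.ker ≤ center _ := fun c hc => mem_center_iff.2 fun g => Subtype.ext
    (commute_of_mem_zpowers (mem_centralizer_singleton_iff.1 g.2).symm ((hk c).1 hc)).symm
  obtain ⟨k, rfl⟩ := H95.StemCover.card_ker_dvd_cyclic hn hP φ hs hc
  have hwk : w ∈ φ.ker := (hk w).2 (by rw [hwy]; exact mem_zpowers _)
  have h2 : (⟨w, hwk⟩ : φ.ker) ^ (Nat.card φ.ker * k) = 1 := by rw [pow_mul, pow_card_eq_one', one_pow]
  have h3 : (w : S) ^ (Nat.card φ.ker * k) = 1 := congrArg (fun x : φ.ker => ((x : centralizer ({y} : Set S)) : S)) h2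
  exact hy (by rwa [hwy] at h3)

theorem mem_Zx_iff {y : S} (c : centralizer ({y} : Set S)) : c ∈ LThreeMB.Zx y ↔ (c : S) ∈ zpowers y := by
  constructor
  · rintro ⟨i, rfl⟩
    exact ⟨i, rfl⟩
  · rintro ⟨i, hi⟩
    exact ⟨i, Subtype.ext hi⟩

/-- the map `C(y) → T` for `C(y)/⟨y⟩ ≅ T` -/
theorem exists_hom_of_XX {y : S} {T : Type v} [Group T] (e : LThreeMB.XX y ≃* T) :
    ∃ φ : centralizer ({y} : Set S) →* T, Function.Surjective φ ∧ ∀ c, φ c = 1 ↔ (c : S) ∈ zpowers y :=
  ⟨e.toMonoidHom.comp (QuotientGroup.mk' _), e.surjective.comp (QuotientGroup.mk'_surjective _), fun c => by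
    change e (QuotientGroup.mk c) = 1 ↔ _
    rw [map_eq_one_iff _ e.injective, QuotientGroup.eq_one_iff, mem_Zx_iff]⟩

theorem not_deep_of_XX {y : S} {T : Type v} [Group T] {n : ℕ} (hn : HasCyclicSchurMultiplier T n)
    (hT : commutator T = ⊤) (e : LThreeMB.XX y ≃* T) (hy : y ^ n ≠ 1) :
    y ∉ ⁅centralizer ({y} : Set S), centralizer ({y} : Set S)⁆ := by
  obtain ⟨φ, hs, hk⟩ := exists_hom_of_XX e
  exact not_deep_of_mult hn hT φ hs hk hy

theorem commutator_eq_top_of_simple {T : Type v} [Group T] (hs : IsSimpleGroup T) {n : ℕ} (hn : Nat.card T = n)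
    (h : ¬ n.Prime) : commutator T = ⊤ := by
  refine (hs.eq_bot_or_eq_top_of_normal _ inferInstance).resolve_left fun h0 => h ?_
  have h1 : IsMulCommutative T := ⟨⟨fun a b => by
    have h2 : ⁅a, b⁆ ∈ commutator T := commutator_mem_commutator (mem_top a) (mem_top b)
    rwa [h0, mem_bot, commutatorElement_eq_one_iff_mul_comm] at h2⟩⟩
  rw [← hn]
  let _ : CommGroup T := { (inferInstance : Group T) with mul_comm := h1.is_comm.comm }
  exact IsSimpleGroup.prime_card

/-- lifting along a central extension with kernel of order prime to `p` : deep elements -/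
theorem deep_lift [Fact p.Prime] {T : Type v} [Group T] (φ : S →* T) (hs : Function.Surjective φ)
    (hc : φ.ker ≤ center S) {e : ℕ} (he : ∀ n, φ n = 1 → n ^ e = 1) (hpe : ¬ p ∣ e) {a : S} (ha : a ^ p = 1)
    (h : φ a ∈ ⁅centralizer ({φ a} : Set T), centralizer ({φ a} : Set T)⁆) :
    a ∈ ⁅centralizer ({a} : Set S), centralizer ({a} : Set S)⁆ := by
  have hco : Nat.Coprime p e := (Nat.Prime.coprime_iff_not_dvd Fact.out).2 hpe
  have h1 : centralizer ({φ a} : Set T) ≤ (centralizer ({a} : Set S)).map φ := fun c hc' => by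
    obtain ⟨c, rfl⟩ := hs c
    have h2 : Commute (φ a) (φ c) := (mem_centralizer_singleton_iff.1 hc').symm
    refine ⟨c, mem_centralizer_singleton_iff.2 (Commute.symm ?_), rfl⟩
    exact commute_of_pows hc h2 (by rw [← comm_pow_left hc h2, ha]; simp) (he _ (map_comm_eq_one h2)) hco
  have h2 := commutator_mono h1 h1 h
  rw [← map_commutator] at h2
  obtain ⟨d, hd, hda⟩ := h2
  have hd' : d ∈ centralizer ({a} : Set S) := (commutator_le.2 fun x hx y hy => by
    rw [commutatorElement_def]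
    exact mul_mem (mul_mem (mul_mem hx hy) (inv_mem hx)) (inv_mem hy)) hd
  have h3 : φ (d * a⁻¹) = 1 := by rw [map_mul, map_inv, hda, mul_inv_cancel]
  have h4 : d ^ e = a ^ e := by
    have h5 := he _ h3
    rwa [(show Commute d a from mem_centralizer_singleton_iff.1 hd').inv_right.mul_pow, inv_pow,
      mul_inv_eq_one] at h5
  obtain ⟨j, hj⟩ := exists_pow_eq_self_of_coprime (x := a) (n := e)
    (Nat.Coprime.coprime_dvd_right (orderOf_dvd_of_pow_eq_one ha) hco.symm)
  have h6 := pow_mem (pow_mem hd e) j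
  rwa [h4, hj] at h6

end Cfsg.Agent.BHZ.Spor
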