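import Mathlib
import Cfsg.Agent.BHZ.Spor.ToolsB
import Cfsg.Agent.H393.BF.Row
import Cfsg.Agent.H182.RG.BFiveCases
import Cfsg.Agent.S2056

/-!
# S4806, sporadic rows (helper25): `B`, `p = 5`
-/

set_option autoImplicit false
set_option maxRecDepth 100000

namespace Cfsg.Agent.BHZ.Spor.B5

open Subgroup Cfsg Cfsg.Agent.Lib Cfsg.Agent.BpSpor
open Cfsg.Agent.MonsterU Cfsg.Agent.MFive
open Cfsg.Agent.LThreeMB (fr Zx XX zD toCC toCC_inj toXX self conj_Q)
open Cfsg.Agent.MonsterU.Ch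
open Cfsg.Agent.MonsterU.Lam2 (L2)
open Cfsg.Spor (Co1)
open scoped commutatorElement

universe u v

theorem mem_zpowers_of_prime {G : Type u} [Group G] {p : ℕ} (hp : p.Prime) {x : G} (hx : x ^ p = 1) {i : ℕ}
    (hi : x ^ i ≠ 1) : x ∈ zpowers (x ^ i) := by
  rw [mem_zpowers_pow_iff]
  rcases (Nat.dvd_prime hp).1 (orderOf_dvd_of_pow_eq_one hx) with h | h
  · rw [h, Nat.gcd_one_right]
  · rw [h]
    refine Nat.coprime_comm.1 ((Nat.Prime.coprime_iff_not_dvd hp).2 ?_)
    rintro ⟨k, rfl⟩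
    exact hi (by rw [pow_mul, hx, one_pow])

section chart

variable {G : Type u} [Group G] {Q : Subgroup G} {z : G} {eta : G → L2}
  {pi : Subgroup.centralizer ({z} : Set G) →* Co1}

/-- the involutions of `C(x)` not conjugate to `z` form one class of `C(x)` -/
theorem conj_inv [Finite G] (h : Chart Q z eta pi) (htr : TrNe 5 z pi) (hpr : HasPair 5 z pi) (hcl : WClassOf 5 1)
    {x : Subgroup.centralizer ({z} : Set G)} (hx : orderOf x = 5) (hfr : fr (pi x) = 1)
    (hJ : Spor.IsoJ2 (XX (pi x))) {k : G} (hkx : k * (x : G) = x * k) (hkk : k * k = z) :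
    ∃ T₀ : ↥(centralizer ({(x : G)} : Set G)), ∀ t : ↥(centralizer ({(x : G)} : Set G)), t * t = 1 → t ≠ 1 →
      (∀ d : G, d * t * d⁻¹ ≠ z) → IsConj T₀ t := by
  have h5 : Fact (Nat.Prime 5) := ⟨Nat.prime_five⟩
  obtain ⟨f1, f2, f3, f4⟩ := M5.j2_facts hJ
  obtain ⟨N, hN⟩ := M5.exists_rad h (by decide) hx hfr (fun d hd hc => isolated h htr hx hfr d hd hc) f1 f2
  have hkz : k * z = z * k := by rw [← hkk, mul_assoc]
  let kD : ↥(centralizer ({zD x} : Set ↥(centralizer ({(x : G)} : Set G)))) :=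
    ⟨⟨k, mem_centralizer_singleton_iff.2 hkx⟩, mem_centralizer_singleton_iff.2 (Subtype.ext hkz)⟩
  have hkD : (kD : ↥(centralizer ({(x : G)} : Set G))) * kD = zD x := Subtype.ext hkk
  have hzz : z * z = 1 := h.large.z_sq
  obtain ⟨u, g₀, huz, hux, hune, hg₀⟩ := B5.exists_u h hpr hcl hx hfr
  have huu : u * u = 1 := by
    rw [← hg₀]
    calc g₀ * z * g₀⁻¹ * (g₀ * z * g₀⁻¹) = g₀ * (z * z) * g₀⁻¹ := by group
      _ = 1 := by rw [hzz]; group
  have hu1 : u ≠ 1 := by
    intro h1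
    apply h.large.z_ne
    calc z = g₀⁻¹ * (g₀ * z * g₀⁻¹) * g₀ := by group
      _ = 1 := by rw [hg₀, h1]; group
  let w : ↥(centralizer ({zD x} : Set ↥(centralizer ({(x : G)} : Set G)))) :=
    ⟨⟨u, mem_centralizer_singleton_iff.2 hux⟩, mem_centralizer_singleton_iff.2 (Subtype.ext huz)⟩
  refine ⟨w * zD x, fun tD htD ht1 hnt => ?_⟩
  obtain ⟨g, hg⟩ := B5.exists_comm hN htD
  have hsz : (g⁻¹ * tD * g) * zD x = zD x * (g⁻¹ * tD * g) := by
    calc (g⁻¹ * tD * g) * zD x = g⁻¹ * (tD * (g * zD x * g⁻¹)) * g := by group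
      _ = g⁻¹ * ((g * zD x * g⁻¹) * tD) * g := by rw [hg]
      _ = _ := by group
  let s : ↥(centralizer ({zD x} : Set ↥(centralizer ({(x : G)} : Set G)))) :=
    ⟨g⁻¹ * tD * g, mem_centralizer_singleton_iff.2 hsz⟩
  have hss : (s : ↥(centralizer ({(x : G)} : Set G))) * s = 1 := by
    show g⁻¹ * tD * g * (g⁻¹ * tD * g) = 1
    calc g⁻¹ * tD * g * (g⁻¹ * tD * g) = g⁻¹ * (tD * tD) * g := by group
      _ = 1 := by rw [htD]; group
  have hts : ∀ d : ↥(centralizer ({(x : G)} : Set G)), ∀ y : ↥(centralizer ({(x : G)} : Set G)),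
      d * y * d⁻¹ = s → (g * d : ↥(centralizer ({(x : G)} : Set G))) * y * (g * d)⁻¹ = tD := by
    intro d y hd
    have h1 : (g * d) * y * (g * d)⁻¹ = g * (d * y * d⁻¹) * g⁻¹ := by group
    rw [h1, hd]
    show g * (g⁻¹ * tD * g) * g⁻¹ = tD
    group
  have hnt' : ∀ d : ↥(centralizer ({(x : G)} : Set G)), ∀ y : ↥(centralizer ({(x : G)} : Set G)),
      (∃ b : G, b * z * b⁻¹ = (y : G)) → d * y * d⁻¹ ≠ s := by
    rintro d y ⟨b, hb⟩ hd
    have h1 := congrArg Subtype.val (hts d y hd)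
    have h2 : ((g * d : ↥(centralizer ({(x : G)} : Set G))) : G) * (y : G) *
        ((g * d : ↥(centralizer ({(x : G)} : Set G))) : G)⁻¹ = tD := h1
    refine hnt ((((g * d : ↥(centralizer ({(x : G)} : Set G))) : G) * b)⁻¹) ?_
    rw [← h2, ← hb]
    group
  have hs1 : (s : ↥(centralizer ({(x : G)} : Set G))) ≠ 1 := by
    intro h1
    have h3 : g⁻¹ * tD * g = 1 := h1
    refine ht1 ?_
    calc tD = g * (g⁻¹ * tD * g) * g⁻¹ := by group
      _ = 1 := by rw [h3]; group
  have hsz' : (s : ↥(centralizer ({(x : G)} : Set G))) ≠ zD x := by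
    intro h1
    exact hnt' 1 (zD x) ⟨1, by show 1 * z * 1⁻¹ = z; group⟩ (by rw [h1]; group)
  have hww : (w : ↥(centralizer ({(x : G)} : Set G))) * w = 1 := Subtype.ext huu
  have hw1 : (w : ↥(centralizer ({(x : G)} : Set G))) ≠ 1 := fun h1 => hu1 (congrArg Subtype.val h1)
  have hwz : (w : ↥(centralizer ({(x : G)} : Set G))) ≠ zD x := fun h1 => hune (congrArg Subtype.val h1)
  have hfin : Finite (XX (pi x)) := Finite.of_surjective _ hN.surj
  obtain ⟨t0, u0, Q0, v0, ρ0, Dt0⟩ := Cfsg.Agent.KFacts.J2.Facts.exists_dat_of hJ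
  have hcw : IsConj t0 (toXX pi x w) := hN.isConj_f f3 (by decide) Dt0 hkD (Subtype.ext hww) hw1 hwz
  have hcs : IsConj t0 (toXX pi x s) := hN.isConj_f f3 (by decide) Dt0 hkD (Subtype.ext hss) hs1 hsz'
  rcases B5.conj_of_f (by decide) hN hww hss (hcw.symm.trans hcs) with ⟨d, hd⟩ | ⟨d, hd⟩
  · exact absurd hd (hnt' d w ⟨g₀, hg₀⟩)
  · exact isConj_iff.2 ⟨g * d, hts d _ hd⟩

end chart

/-- from `C(x) ∩ C(t)` to `C(t) / ⟨t⟩` -/
theorem constr_quot {G : Type u} [Group G] [Finite G] {Y : Type v} [Group Y] {p : ℕ} [hp : Fact p.Prime] (hp2 : p ≠ 2)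
    {x : G} (hx : orderOf x = p) {T : ↥(centralizer ({x} : Set G))} (hTT : T * T = 1) (hT1 : T ≠ 1)
    (q : ↥(centralizer ({(T : G)} : Set G)) →* Y) (hq : Function.Surjective q)
    (hk : ∀ c, q c = 1 → (c : G) = 1 ∨ (c : G) = T)
    (hk' : ∀ c : ↥(centralizer ({(T : G)} : Set G)), (c : G) = T → q c = 1)
    {R : Subgroup ↥(centralizer ({T} : Set ↥(centralizer ({x} : Set G))))} (hR : R.Normal) (hRp : IsPGroup p ↥R)
    (hRs : Group.IsSolvable ↥(centralizer (R : Set ↥(centralizer ({T} : Set ↥(centralizer ({x} : Set G)))))))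
    (hV : ∀ V : Subgroup ↥(centralizer ({T} : Set ↥(centralizer ({x} : Set G)))), V.Normal →
      (Nat.card ↥V).Coprime p → ∀ y ∈ V, (y : ↥(centralizer ({x} : Set G))) = 1 ∨
        (y : ↥(centralizer ({x} : Set G))) = T)
    (x' : ↥(centralizer ({(T : G)} : Set G))) (hx' : (x' : G) = x) : Constr p (q x') := by
  have hfin : Finite Y := Finite.of_surjective q hq
  have hTx : (T : G) * x = x * T := mem_centralizer_singleton_iff.1 T.2
  have hTT' : (T : G) * T = 1 := congrArg Subtype.val hTT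
  have hT1' : (T : G) ≠ 1 := fun h => hT1 (Subtype.ext h)
  obtain ⟨m, hm⟩ : Odd p := hp.out.odd_of_ne_two hp2
  have hTp : (T : G) ^ p = T := by rw [hm, pow_succ, pow_mul, pow_two, hTT', one_pow, one_mul]
  have hxp : x ^ p = 1 := by rw [← hx, pow_orderOf_eq_one]
  have hcomm : ∀ c : ↥(centralizer ({(T : G)} : Set G)), q c * q x' = q x' * q c → (c : G) * x = x * c := by
    intro c hc
    have h1 : q (c * x' * c⁻¹ * x'⁻¹) = 1 := by
      rw [map_mul, map_mul, map_mul, map_inv, map_inv, hc]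
      group
    have h2 : (c : G) * x' * (c : G)⁻¹ * (x' : G)⁻¹ = 1 ∨ (c : G) * x' * (c : G)⁻¹ * (x' : G)⁻¹ = T := hk _ h1
    rw [hx'] at h2
    rcases h2 with h2 | h2
    · calc (c : G) * x = (c : G) * x * (c : G)⁻¹ * x⁻¹ * (x * c) := by group
        _ = x * c := by rw [h2, one_mul]
    · exfalso
      have h3 : (c : G) * x * (c : G)⁻¹ = T * x := mul_inv_eq_iff_eq_mul.1 h2
      have h4 : ((c : G) * x * (c : G)⁻¹) ^ p = 1 := by rw [conj_pow, hxp]; group
      have h5 : Commute (T : G) x := hTx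
      rw [h3, h5.mul_pow, hxp, mul_one, hTp] at h4
      exact hT1' h4
  have hmem : ∀ c : ↥(centralizer ({T} : Set ↥(centralizer ({x} : Set G)))),
      ((c : ↥(centralizer ({x} : Set G))) : G) ∈ centralizer ({(T : G)} : Set G) := fun c =>
    mem_centralizer_singleton_iff.2 (congrArg Subtype.val (mem_centralizer_singleton_iff.1 c.2))
  let i : ↥(centralizer ({T} : Set ↥(centralizer ({x} : Set G)))) →* ↥(centralizer ({(T : G)} : Set G)) :=
    ((centralizer ({x} : Set G)).subtype.comp (Subgroup.subtype _)).codRestrict _ hmem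
  have hi : ∀ c, (i c : G) = ((c : ↥(centralizer ({x} : Set G))) : G) := fun c => rfl
  have hix : ∀ c, i c * x' = x' * i c := by
    intro c
    apply Subtype.ext
    show (i c : G) * x' = x' * i c
    rw [hi, hx']
    exact mem_centralizer_singleton_iff.1 (c : ↥(centralizer ({x} : Set G))).2
  let g : ↥(centralizer ({T} : Set ↥(centralizer ({x} : Set G)))) →* ↥(centralizer ({q x'} : Set Y)) :=
    (q.comp i).codRestrict _ fun c => mem_centralizer_singleton_iff.2 (by
      show q (i c) * q x' = q x' * q (i c)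
      rw [← map_mul, hix, map_mul])
  have hg1 : ∀ c, g c = 1 ↔ (c : ↥(centralizer ({x} : Set G))) = 1 ∨ (c : ↥(centralizer ({x} : Set G))) = T := by
    intro c
    have h1 : g c = 1 ↔ q (i c) = 1 := Subtype.ext_iff
    rw [h1]
    constructor
    · intro h2
      exact (hk _ h2).imp (fun h3 => Subtype.ext h3) fun h3 => Subtype.ext h3
    · rintro (h2 | h2)
      · rw [show c = 1 from Subtype.ext h2, map_one, map_one]
      · exact hk' _ (congrArg Subtype.val h2)
  have hgs : Function.Surjective g := by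
    rintro ⟨b, hb⟩
    obtain ⟨c, rfl⟩ := hq b
    have h1 := hcomm c (mem_centralizer_singleton_iff.1 hb)
    exact ⟨⟨⟨c, mem_centralizer_singleton_iff.2 h1⟩, mem_centralizer_singleton_iff.2
      (Subtype.ext (mem_centralizer_singleton_iff.1 c.2))⟩, rfl⟩
  refine Constr.of_centric ⟨1, ?_⟩ _ (Lib.Cores.pCore_normal p) (Lib.Cores.pCore_isPGroup p) ?_
  · have h1 : x' ^ p = 1 := Subtype.ext (by rw [Subgroup.coe_pow, hx', hxp]; rfl)
    rw [pow_one, ← map_pow, h1, map_one]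
  · refine H393.BF.constr_of_surj g hgs ?_
      (fun V hVn hVc y hy => MonoidHom.mem_ker.2 ((hg1 y).2 (hV V hVn hVc y hy))) hR hRp hRs
    have h1 : IsPGroup 2 ↥g.ker := by
      intro a
      refine ⟨1, ?_⟩
      rw [pow_one, pow_two]
      apply Subtype.ext
      apply Subtype.ext
      rcases (hg1 a).1 a.2 with h2 | h2
      · show ((a : ↥(centralizer ({T} : Set ↥(centralizer ({x} : Set G))))) : ↥(centralizer ({x} : Set G))) *
          ((a : ↥(centralizer ({T} : Set ↥(centralizer ({x} : Set G))))) : ↥(centralizer ({x} : Set G))) = 1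
        rw [h2, one_mul]
      · show ((a : ↥(centralizer ({T} : Set ↥(centralizer ({x} : Set G))))) : ↥(centralizer ({x} : Set G))) *
          ((a : ↥(centralizer ({T} : Set ↥(centralizer ({x} : Set G))))) : ↥(centralizer ({x} : Set G))) = 1
        rw [h2, hTT]
    obtain ⟨n, hn⟩ := IsPGroup.iff_card.1 h1
    rw [hn]
    exact Nat.Coprime.pow_left _ ((Nat.coprime_primes Nat.prime_two hp.out).2 hp2.symm)

end Cfsg.Agent.BHZ.Spor.B5

namespace Cfsg.Agent.BHZ.Spor.B5

open Cfsg Cfsg.Agent.MonsterX Cfsg.Agent.MonsterX.InstData Cfsg.Agent.MonsterX.MainPack Cfsg.Agent.MonsterU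
open Cfsg.Agent.MonsterP Cfsg.Agent.MonsterN
open Cfsg.Agent.LThreeMB (KChart.Cent KChart.pi KChart.chart fr XX)
open Cfsg.Agent.CpAutBFive
open Subgroup (centralizer mem_centralizer_singleton_iff center mem_inf zpowers)
open scoped commutatorElement

/-- all elements of fixed rank 0 are conjugate into `⟨x₀⟩` -/
theorem conj_zero {x x₀ : centralizer ({KDone.K.z} : Set ↥InstData.M.G)} (hx : orderOf x = 5) (hx₀ : orderOf x₀ = 5)
    (hfr : fr (KChart.pi MFive.Row.hc x) = 1) (hfr₀ : fr (KChart.pi MFive.Row.hc x₀) = 1) :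
    ∃ (b : ↥InstData.M.G) (i : ℕ), b * x * b⁻¹ = (x₀ : ↥InstData.M.G) ^ i := by
  have hfin : Finite ↥InstData.M.G := MThirteen.Row.finite
  have h := KChart.chart KDone.lft Cfsg.Agent.MFive.Row.hc
  have hp : Nat.Prime 5 := Nat.prime_five
  have ho : Odd 5 := by decide
  obtain ⟨c, i, hc⟩ := CoFive.Ranks.wclassOf 1 _ _ (MFive.orderOf_pi h hp ho hx) (MFive.orderOf_pi h hp ho hx₀) hfr hfr₀
  obtain ⟨b, hb⟩ := MFive.exists_conj_of_conj h hp ho (y := x₀ ^ i) (by rw [← hx, pow_orderOf_eq_one])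
    (by rw [← pow_mul, mul_comm, pow_mul, ← hx₀, pow_orderOf_eq_one, one_pow]) (by rw [hc, map_pow])
  exact ⟨b, i, congrArg Subtype.val hb⟩

theorem not_deep_hn {G : Type} [Group G] {a : G} (ha : a ≠ 1) (h : Spor.IsoHN (XX a)) :
    a ∉ ⁅centralizer ({a} : Set G), centralizer ({a} : Set G)⁆ := by
  obtain ⟨e⟩ := h
  exact not_deep_of_XX S2056.result (commutator_eq_top_of_simple S1701.result.1 S2056.card_HN (by norm_num)) e
    (by rwa [pow_one])

end Cfsg.Agent.BHZ.Spor.B5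

namespace Cfsg.Agent.BHZ.Spor

open Cfsg Cfsg.Agent.MonsterX Cfsg.Agent.MonsterX.InstData Cfsg.Agent.MonsterX.MainPack Cfsg.Agent.MonsterU
open Cfsg.Agent.MonsterP Cfsg.Agent.MonsterN
open Cfsg.Agent.LThreeMB (KChart.Cent KChart.pi KChart.chart fr XX)
open Cfsg.Agent.CpAutBFive
open Subgroup (centralizer mem_centralizer_singleton_iff center mem_inf zpowers)
open scoped commutatorElement

theorem b_5 : ∀ (S : Type) [Group S] [Finite S], Spor.IsoB S → RowAb 5 2 S := by
  intro S _ _ hB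
  have h5 : Fact (Nat.Prime 5) := ⟨Nat.prime_five⟩
  have hs : IsSimpleGroup S := H123.SporSimple.spor_simple (by unfold IsSporadicGroup; tauto)
  refine rowAb_of_deep (nn_five hs (by norm_num) (NotCT.Orders.b hB) (by norm_num) (by norm_num)) fun y hy hd => ?_
  have hfin : Finite ↥InstData.M.G := MThirteen.Row.finite
  obtain ⟨t, ht, h2, e, a, ha, hay, hcase⟩ := H182.RG.BFive.cases_five hB hy
  let q : ↥(centralizer ({t} : Set ↥InstData.M.G)) →* S := e.toMonoidHom.comp (QuotientGroup.mk' _)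
  have hq : Function.Surjective q := e.surjective.comp (QuotientGroup.mk'_surjective _)
  have hqk : ∀ c, q c = 1 ↔ c ∈ center ↥(centralizer ({t} : Set ↥InstData.M.G)) := fun c => by
    change e (QuotientGroup.mk c) = 1 ↔ _
    rw [map_eq_one_iff _ e.injective, QuotientGroup.eq_one_iff]
  have hto := MThirteen.Row.ta_order ht
  have hqa : q a = y := hay
  have ha5 : a ^ 5 = 1 := by rw [← ha, pow_orderOf_eq_one]
  have ha1 : (a : ↥InstData.M.G) ≠ 1 := fun h0 => by
    rw [show a = 1 from Subtype.ext h0, orderOf_one] at ha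
    norm_num at ha
  have htc : (⟨t, mem_centralizer_singleton_iff.2 rfl⟩ : ↥(centralizer ({t} : Set ↥InstData.M.G))) ∈
      center ↥(centralizer ({t} : Set ↥InstData.M.G)) :=
    Subgroup.mem_center_iff.2 fun g => Subtype.ext (mem_centralizer_singleton_iff.1 g.2)
  have ht1 : t ≠ 1 := fun h0 => by
    rw [h0, orderOf_one] at hto
    norm_num at hto
  have htt : t * t = 1 := by rw [← pow_two, ← hto, pow_orderOf_eq_one]
  have hcen : ∀ c ∈ center ↥(centralizer ({t} : Set ↥InstData.M.G)),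
      (c : ↥InstData.M.G) = 1 ∨ (c : ↥InstData.M.G) = t := fun c hc => by
    obtain ⟨w, -, hw⟩ := (Nat.card_eq_two_iff' (1 : center ↥(centralizer ({t} : Set ↥InstData.M.G)))).1 h2
    by_cases h0 : (c : ↥InstData.M.G) = 1
    · exact Or.inl h0
    · have h3 := (hw ⟨c, hc⟩ fun h4 => h0 (congrArg (fun v => ((v : center _) : ↥InstData.M.G)) h4)).trans
        (hw ⟨_, htc⟩ fun h4 => ht1 (congrArg (fun v => ((v : center _) : ↥InstData.M.G)) h4)).symm
      exact Or.inr (congrArg (fun v => ((v : center _) : ↥InstData.M.G)) h3)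
  rcases hcase with hH | ⟨x, k₁, i₁, hx, hfr, hk₁⟩
  · exfalso
    have h3 := deep_lift (p := 5) q hq (fun c hc => (hqk c).1 hc) (e := 2) (fun n hn => Subtype.ext (by
      change (n : ↥InstData.M.G) ^ 2 = 1
      rcases hcen n ((hqk n).1 hn) with h4 | h4 <;> rw [h4]
      · exact one_pow 2
      · rw [pow_two, htt])) (by norm_num) ha5 (by rwa [hqa])
    refine B5.not_deep_hn ha1 hH ?_
    have h4 : (centralizer ({a} : Set ↥(centralizer ({t} : Set ↥InstData.M.G)))).map (Subgroup.subtype _) ≤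
        centralizer ({(a : ↥InstData.M.G)} : Set ↥InstData.M.G) := by
      rintro _ ⟨c, hc, rfl⟩
      exact mem_centralizer_singleton_iff.2 (congrArg Subtype.val (mem_centralizer_singleton_iff.1 hc))
    refine Subgroup.commutator_mono h4 h4 ?_
    rw [← Subgroup.map_commutator]
    exact ⟨a, h3, rfl⟩
  · have hJ : CpAutBFive.Closed.HJ := fun _ hs h => Cfsg.Agent.MFive.JTwo.isoJ2 hs h
    have h := KChart.chart KDone.lft Cfsg.Agent.MFive.Row.hc
    obtain ⟨x₀, k, hx₀, hfr₀, hk, hkk⟩ := BpSpor.M5.exists_k BpSpor.M5.hA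
    have hJx := hJ _ (Cfsg.Agent.MFive.orderOf_pi h Nat.prime_five (by decide) hx₀) hfr₀
    have hD := BpSpor.M5.dvd_zero h BpSpor.M5.trNe (CpAutBFive.Closed.coFive hJ) CpAutBFive.Closed.hnEight
      BpSpor.M5.hasPair (CoFive.Ranks.wclassOf _) CoFive.Sylow.exists_four hx₀ hfr₀
    obtain ⟨T, hTT, hT1, hTn, R, hR, hRp, hRs, hV⟩ := H393.BF.zero h BpSpor.M5.trNe BpSpor.M5.hasPair
      (CoFive.Ranks.wclassOf _) hx₀ hfr₀ hJx hD hk hkk
    obtain ⟨T₀, hT₀⟩ := B5.conj_inv h BpSpor.M5.trNe BpSpor.M5.hasPair (CoFive.Ranks.wclassOf _) hx₀ hfr₀ hJx hk hkk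
    obtain ⟨b, i₂, hb⟩ := B5.conj_zero hx hx₀ hfr hfr₀
    obtain ⟨c, i, hc⟩ : ∃ (c : ↥InstData.M.G) (i : ℕ), c * a * c⁻¹ = (x₀ : ↥InstData.M.G) ^ i :=
      ⟨b * k₁, i₂ * i₁, by rw [pow_mul, ← hb, conj_pow, ← hk₁]; group⟩
    have hx5 : (x₀ : ↥InstData.M.G) ^ 5 = 1 := by
      rw [← hx₀, ← Subgroup.orderOf_coe, pow_orderOf_eq_one]
    have hxi : (x₀ : ↥InstData.M.G) ∈ zpowers ((x₀ : ↥InstData.M.G) ^ i) :=
      B5.mem_zpowers_of_prime Nat.prime_five hx5 (by rw [← hc]; exact fun h0 => ha1 (conj_eq_one_iff.1 h0))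
    have hat : Commute (a : ↥InstData.M.G) t := mem_centralizer_singleton_iff.1 a.2
    have h3 : Commute (x₀ : ↥InstData.M.G) (c * t * c⁻¹) := by
      refine commute_of_mem_zpowers ?_ hxi
      rw [← hc]
      exact hat.map (MulAut.conj c)
    have h4 := (hT₀ T hTT hT1 hTn).symm.trans (hT₀ ⟨c * t * c⁻¹, mem_centralizer_singleton_iff.2 h3.symm⟩
      (Subtype.ext (by
        change c * t * c⁻¹ * (c * t * c⁻¹) = 1
        rw [conj_mul, htt, mul_one, mul_inv_cancel]))
      (fun h0 => ht1 (conj_eq_one_iff.1 (congrArg Subtype.val h0)))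
      fun d hd => MThirteen.Row.ta_ne ht (d * c) (by rw [← hd]; group))
    obtain ⟨d, hd⟩ := isConj_iff.1 h4
    have hd' : (d : ↥InstData.M.G) * T * (d : ↥InstData.M.G)⁻¹ = c * t * c⁻¹ := congrArg Subtype.val hd
    have hdx : (d : ↥InstData.M.G) * x₀ = x₀ * d := mem_centralizer_singleton_iff.1 d.2
    obtain ⟨g, hg, hgx⟩ : ∃ g : ↥InstData.M.G, g * T * g⁻¹ = t ∧ g * (x₀ : ↥InstData.M.G) ^ i * g⁻¹ = a := by
      refine ⟨c⁻¹ * d, ?_, ?_⟩
      · calc c⁻¹ * d * T * (c⁻¹ * d)⁻¹ = c⁻¹ * ((d : ↥InstData.M.G) * T * (d : ↥InstData.M.G)⁻¹) * c := by group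
          _ = t := by rw [hd']; group
      · calc c⁻¹ * d * (x₀ : ↥InstData.M.G) ^ i * (c⁻¹ * d)⁻¹
            = c⁻¹ * ((d : ↥InstData.M.G) * (x₀ : ↥InstData.M.G) ^ i * (d : ↥InstData.M.G)⁻¹) * c := by group
          _ = a := by
            rw [((show Commute (d : ↥InstData.M.G) x₀ from hdx).pow_right i).eq, mul_inv_cancel_right, ← hc]; group
    have hmem : ∀ c : ↥(centralizer ({(T : ↥InstData.M.G)} : Set ↥InstData.M.G)), g * (c : ↥InstData.M.G) * g⁻¹ ∈
        centralizer ({t} : Set ↥InstData.M.G) := fun c => by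
      have h1 : Commute (c : ↥InstData.M.G) T := mem_centralizer_singleton_iff.1 c.2
      rw [mem_centralizer_singleton_iff, ← hg]
      exact h1.map (MulAut.conj g)
    let j : ↥(centralizer ({(T : ↥InstData.M.G)} : Set ↥InstData.M.G)) →* ↥(centralizer ({t} : Set ↥InstData.M.G)) :=
      ((MulAut.conj g).toMonoidHom.comp (Subgroup.subtype _)).codRestrict _ hmem
    have hj : ∀ c, (j c : ↥InstData.M.G) = g * c * g⁻¹ := fun c => rfl
    let x' : ↥(centralizer ({(T : ↥InstData.M.G)} : Set ↥InstData.M.G)) :=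
      ⟨x₀, mem_centralizer_singleton_iff.2 (mem_centralizer_singleton_iff.1 T.2).symm⟩
    have h6 := B5.constr_quot (by decide) (x := (x₀ : ↥InstData.M.G)) (by rw [Subgroup.orderOf_coe, hx₀]) hTT hT1
      (q.comp j) (fun w => by
        obtain ⟨c, rfl⟩ := hq w
        refine ⟨⟨g⁻¹ * c * g, ?_⟩, congrArg q (Subtype.ext (by rw [hj]; group))⟩
        have h1 : (c : ↥InstData.M.G) * t = t * c := mem_centralizer_singleton_iff.1 c.2
        refine mem_centralizer_singleton_iff.2 ?_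
        calc g⁻¹ * (c : ↥InstData.M.G) * g * T = g⁻¹ * (c * (g * T * g⁻¹)) * g := by group
          _ = g⁻¹ * ((g * T * g⁻¹) * c) * g := by rw [hg, h1]
          _ = _ := by group)
      (fun c hc => by
        refine (hcen _ ((hqk _).1 hc)).imp (fun h1 => conj_eq_one_iff.1 h1) fun h1 => ?_
        rw [hj] at h1
        exact mul_left_cancel (mul_right_cancel (h1.trans hg.symm)))
      (fun c hc => (hqk _).2 (by
        rwa [show j c = ⟨t, mem_centralizer_singleton_iff.2 rfl⟩ from Subtype.ext (by rw [hj, hc, hg])]))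
      hR hRp hRs hV x' rfl
    refine h6.of_zpowers ?_
    have h7 : y = (q.comp j) x' ^ i := by
      rw [← hqa, ← map_pow]
      exact congrArg q (Subtype.ext (by rw [hj, ← hgx]; rfl))
    rw [h7]
    refine B5.mem_zpowers_of_prime Nat.prime_five ?_ ?_
    · rw [← map_pow, show x' ^ 5 = 1 from Subtype.ext hx5, map_one]
    · rw [← h7]
      rintro rfl
      rw [orderOf_one] at hy
      norm_num at hy

end Cfsg.Agent.BHZ.Spor
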