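import Mathlib
import Cfsg.Agent.BHZ.Spor.Iface
import Cfsg.Agent.NotCT.Orders
import Cfsg.Agent.S2034
import Cfsg.Agent.S2035
import Cfsg.Agent.S2036
import Cfsg.Agent.S2037
import Cfsg.Agent.S2038
import Cfsg.Agent.S2039
import Cfsg.Agent.S2040
import Cfsg.Agent.S2041
import Cfsg.Agent.S2042
import Cfsg.Agent.S2043
import Cfsg.Agent.S2044
import Cfsg.Agent.S2045
import Cfsg.Agent.S2046
import Cfsg.Agent.S2047
import Cfsg.Agent.S2048
import Cfsg.Agent.S2049
import Cfsg.Agent.S2050
import Cfsg.Agent.S2051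
import Cfsg.Agent.S2052
import Cfsg.Agent.S2053
import Cfsg.Agent.S2054
import Cfsg.Agent.S2055
import Cfsg.Agent.S2056
import Cfsg.Agent.S2057
import Cfsg.Agent.S2058
import Cfsg.Agent.S2059
import Cfsg.Agent.S2115

/-!
# The sporadic rows of S4806 (helper25): assembly
-/

set_option autoImplicit false
set_option linter.unusedVariables false

namespace Cfsg.Agent.BHZ.Spor

open Cfsg Subgroup

universe u v

variable {p : ℕ} [hp : Fact p.Prime]

omit hp in
theorem Cover.congr {S : Type v} [Group S] {T : Type*} [Group T] (h : Cover.{u} p T) (e : S ≃* T) : Cover.{u} p S :=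
  fun G _ _ hG ⟨f⟩ D hD => h G hG ⟨f.trans e⟩ D hD

/-- a prime whose cube divides `a ^ k * c` -/
theorem cube_step {a k c : ℕ} (ha : a.Prime) (hne : p ≠ a) (h : p ^ 3 ∣ a ^ k * c) : p ^ 3 ∣ c :=
  (Nat.Coprime.pow 3 k ((Nat.coprime_primes hp.out ha).2 hne)).dvd_of_dvd_mul_left h

theorem cube_step' {a k c : ℕ} (ha : a.Prime) (hk : k < 3) (hc : ¬ a ∣ c) (h : p ^ 3 ∣ a ^ k * c) : p ^ 3 ∣ c := by
  by_cases hne : p = a
  · subst hne
    have h1 : p ^ 3 ∣ p ^ k :=
      (Nat.Coprime.pow_left 3 ((Nat.Prime.coprime_iff_not_dvd ha).2 hc)).dvd_of_dvd_mul_right h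
    have h2 := (Nat.pow_dvd_pow_iff_le_right ha.one_lt).1 h1
    omega
  · exact cube_step ha hne h

theorem cube_one (h : p ^ 3 ∣ 1) : False := by
  have := Nat.dvd_one.1 ((dvd_pow_self p (by norm_num)).trans h)
  exact hp.out.one_lt.ne' this

theorem not_dvd_two_pow (hp2 : p ≠ 2) (k : ℕ) : ¬ p ∣ 2 ^ k := fun h =>
  hp2 ((Nat.prime_dvd_prime_iff_eq hp.out Nat.prime_two).1 (hp.out.dvd_of_dvd_pow h))

theorem not_dvd_six (hp2 : p ≠ 2) (hp3 : p ≠ 3) (k : ℕ) : ¬ p ∣ 2 ^ k * 3 := fun h =>
  ((Nat.Prime.dvd_mul hp.out).1 h).elim (not_dvd_two_pow hp2 k)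
    fun h => hp3 ((Nat.prime_dvd_prime_iff_eq hp.out Nat.prime_three).1 h)

theorem finite_of_card {S : Type*} {n : ℕ} (h : Nat.card S = n) (hn : n ≠ 0) : Finite S :=
  Nat.finite_of_card_ne_zero (h ▸ hn)

theorem cover_m11 (R : Rows) (hp2 : p ≠ 2) {S : Type v} [Group S] (h : Spor.IsoM11 S) : Cover.{u} p S := by
  obtain ⟨e⟩ := h
  have hi : Spor.IsoM11 Spor.M11 := ⟨MulEquiv.refl _⟩
  have hc := NotCT.Orders.m11 hi
  have hf := finite_of_card hc (by norm_num)
  refine Cover.congr ?_ e
  refine cover_of_rowAb S2034.result (not_dvd_two_pow hp2 0) (rowAb_of_card fun h0 => ?_)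
  rw [hc, show (7920 : ℕ) = 2 ^ 4 * (3 ^ 2 * (5 ^ 1 * (11 ^ 1 * (1)))) by norm_num] at h0
  exact cube_one (cube_step' (by norm_num) (by norm_num) (by norm_num) (cube_step' (by norm_num) (by norm_num) (by norm_num) (cube_step' (by norm_num) (by norm_num) (by norm_num) (cube_step (by norm_num) hp2 h0))))

theorem cover_m12 (R : Rows) (hp2 : p ≠ 2) {S : Type v} [Group S] (h : Spor.IsoM12 S) : Cover.{u} p S := by
  obtain ⟨e⟩ := h
  have hi : Spor.IsoM12 Spor.M12 := ⟨MulEquiv.refl _⟩
  have hc := NotCT.Orders.m12 hi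
  have hf := finite_of_card hc (by norm_num)
  refine Cover.congr ?_ e
  by_cases h3 : p = 3
  · subst h3
    exact cover_of_rowAb S2035.result (by norm_num) (R.m12_3 _ hi)
  refine cover_of_rowAb S2035.result (not_dvd_two_pow hp2 1) (rowAb_of_card fun h0 => ?_)
  rw [hc, show (95040 : ℕ) = 2 ^ 6 * (3 ^ 3 * (5 ^ 1 * (11 ^ 1 * (1)))) by norm_num] at h0
  exact cube_one (cube_step' (by norm_num) (by norm_num) (by norm_num) (cube_step' (by norm_num) (by norm_num) (by norm_num) (cube_step (by norm_num) h3 (cube_step (by norm_num) hp2 h0))))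

theorem cover_m22 (R : Rows) (hp2 : p ≠ 2) {S : Type v} [Group S] (h : Spor.IsoM22 S) : Cover.{u} p S := by
  obtain ⟨e⟩ := h
  have hi : Spor.IsoM22 Spor.M22 := ⟨MulEquiv.refl _⟩
  have hc := NotCT.Orders.m22 hi
  have hf := finite_of_card hc (by norm_num)
  refine Cover.congr ?_ e
  by_cases h3 : p = 3
  · subst h3
    exact cover_of_rowCyc' S2036.result (by norm_num) (R.m22_3 _ hi)
  refine cover_of_rowAb S2036.result (not_dvd_six hp2 h3 2) (rowAb_of_card fun h0 => ?_)
  rw [hc, show (443520 : ℕ) = 2 ^ 7 * (3 ^ 2 * (5 ^ 1 * (7 ^ 1 * (11 ^ 1 * (1))))) by norm_num] at h0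
  exact cube_one (cube_step' (by norm_num) (by norm_num) (by norm_num) (cube_step' (by norm_num) (by norm_num) (by norm_num) (cube_step' (by norm_num) (by norm_num) (by norm_num) (cube_step (by norm_num) h3 (cube_step (by norm_num) hp2 h0)))))

theorem cover_m23 (R : Rows) (hp2 : p ≠ 2) {S : Type v} [Group S] (h : Spor.IsoM23 S) : Cover.{u} p S := by
  obtain ⟨e⟩ := h
  have hi : Spor.IsoM23 Spor.M23 := ⟨MulEquiv.refl _⟩
  have hc := NotCT.Orders.m23 hi
  have hf := finite_of_card hc (by norm_num)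
  refine Cover.congr ?_ e
  refine cover_of_rowAb S2037.result (not_dvd_two_pow hp2 0) (rowAb_of_card fun h0 => ?_)
  rw [hc, show (10200960 : ℕ) = 2 ^ 7 * (3 ^ 2 * (5 ^ 1 * (7 ^ 1 * (11 ^ 1 * (23 ^ 1 * (1)))))) by norm_num] at h0
  exact cube_one (cube_step' (by norm_num) (by norm_num) (by norm_num) (cube_step' (by norm_num) (by norm_num) (by norm_num) (cube_step' (by norm_num) (by norm_num) (by norm_num) (cube_step' (by norm_num) (by norm_num) (by norm_num) (cube_step' (by norm_num) (by norm_num) (by norm_num) (cube_step (by norm_num) hp2 h0))))))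

theorem cover_m24 (R : Rows) (hp2 : p ≠ 2) {S : Type v} [Group S] (h : Spor.IsoM24 S) : Cover.{u} p S := by
  obtain ⟨e⟩ := h
  have hi : Spor.IsoM24 M24 := ⟨MulEquiv.refl _⟩
  have hc := NotCT.Orders.m24 hi
  have hf := finite_of_card hc (by norm_num)
  refine Cover.congr ?_ e
  by_cases h3 : p = 3
  · subst h3
    exact cover_of_rowAb S2038.result (by norm_num) (R.m24_3 _ hi)
  refine cover_of_rowAb S2038.result (not_dvd_two_pow hp2 0) (rowAb_of_card fun h0 => ?_)
  rw [hc, show (244823040 : ℕ) = 2 ^ 10 * (3 ^ 3 * (5 ^ 1 * (7 ^ 1 * (11 ^ 1 * (23 ^ 1 * (1)))))) by norm_num] at h0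
  exact cube_one (cube_step' (by norm_num) (by norm_num) (by norm_num) (cube_step' (by norm_num) (by norm_num) (by norm_num) (cube_step' (by norm_num) (by norm_num) (by norm_num) (cube_step' (by norm_num) (by norm_num) (by norm_num) (cube_step (by norm_num) h3 (cube_step (by norm_num) hp2 h0))))))

theorem cover_j1 (R : Rows) (hp2 : p ≠ 2) {S : Type v} [Group S] (h : Spor.IsoJ1 S) : Cover.{u} p S := by
  obtain ⟨e⟩ := h
  have hi : Spor.IsoJ1 Spor.J1 := ⟨MulEquiv.refl _⟩
  have hc := NotCT.Orders.j1 hi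
  have hf := finite_of_card hc (by norm_num)
  refine Cover.congr ?_ e
  refine cover_of_rowAb S2039.result (not_dvd_two_pow hp2 0) (rowAb_of_card fun h0 => ?_)
  rw [hc, show (175560 : ℕ) = 2 ^ 3 * (3 ^ 1 * (5 ^ 1 * (7 ^ 1 * (11 ^ 1 * (19 ^ 1 * (1)))))) by norm_num] at h0
  exact cube_one (cube_step' (by norm_num) (by norm_num) (by norm_num) (cube_step' (by norm_num) (by norm_num) (by norm_num) (cube_step' (by norm_num) (by norm_num) (by norm_num) (cube_step' (by norm_num) (by norm_num) (by norm_num) (cube_step' (by norm_num) (by norm_num) (by norm_num) (cube_step (by norm_num) hp2 h0))))))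

theorem cover_j2 (R : Rows) (hp2 : p ≠ 2) {S : Type v} [Group S] (h : Spor.IsoJ2 S) : Cover.{u} p S := by
  obtain ⟨e⟩ := h
  have hi : Spor.IsoJ2 Spor.J2 := ⟨MulEquiv.refl _⟩
  have hc := NotCT.Orders.j2 hi
  have hf := finite_of_card hc (by norm_num)
  refine Cover.congr ?_ e
  by_cases h3 : p = 3
  · subst h3
    exact cover_of_rowAb S2040.result (by norm_num) (R.j2_3 _ hi)
  refine cover_of_rowAb S2040.result (not_dvd_two_pow hp2 1) (rowAb_of_card fun h0 => ?_)
  rw [hc, show (604800 : ℕ) = 2 ^ 7 * (3 ^ 3 * (5 ^ 2 * (7 ^ 1 * (1)))) by norm_num] at h0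
  exact cube_one (cube_step' (by norm_num) (by norm_num) (by norm_num) (cube_step' (by norm_num) (by norm_num) (by norm_num) (cube_step (by norm_num) h3 (cube_step (by norm_num) hp2 h0))))

theorem cover_j3 (R : Rows) (hp2 : p ≠ 2) {S : Type v} [Group S] (h : Spor.IsoJ3 S) : Cover.{u} p S := by
  obtain ⟨F, iF, iN, ω, hF, hω, ⟨e⟩⟩ := h
  have hi : Spor.IsoJ3 (Spor.J3 F ω) := ⟨F, iF, iN, ω, hF, hω, ⟨MulEquiv.refl _⟩⟩
  have hc := NotCT.Orders.j3 hi
  have hf := finite_of_card hc (by norm_num)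
  refine Cover.congr ?_ e
  by_cases h3 : p = 3
  · subst h3
    exact cover_of_rowCyc' (S2041.result hF ω hω) (by norm_num) (R.j3_3 _ hi)
  refine cover_of_rowAb (S2041.result hF ω hω) (not_dvd_six hp2 h3 0) (rowAb_of_card fun h0 => ?_)
  rw [hc, show (50232960 : ℕ) = 2 ^ 7 * (3 ^ 5 * (5 ^ 1 * (17 ^ 1 * (19 ^ 1 * (1))))) by norm_num] at h0
  exact cube_one (cube_step' (by norm_num) (by norm_num) (by norm_num) (cube_step' (by norm_num) (by norm_num) (by norm_num) (cube_step' (by norm_num) (by norm_num) (by norm_num) (cube_step (by norm_num) h3 (cube_step (by norm_num) hp2 h0)))))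

theorem cover_j4 (R : Rows) (hp2 : p ≠ 2) {S : Type v} [Group S] (h : Spor.IsoJ4 S) : Cover.{u} p S := by
  obtain ⟨e⟩ := h
  have hi : Spor.IsoJ4 Spor.J4 := ⟨MulEquiv.refl _⟩
  have hc := NotCT.Orders.j4 hi
  have hf := finite_of_card hc (by norm_num)
  refine Cover.congr ?_ e
  by_cases h3 : p = 3
  · subst h3
    exact cover_of_rowAb S2042.result (by norm_num) (R.j4_3 _ hi)
  by_cases h11 : p = 11
  · subst h11
    exact cover_of_rowAb S2042.result (by norm_num) (R.j4_11 _ hi)
  refine cover_of_rowAb S2042.result (not_dvd_two_pow hp2 0) (rowAb_of_card fun h0 => ?_)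
  rw [hc, show (86775571046077562880 : ℕ) = 2 ^ 21 * (3 ^ 3 * (5 ^ 1 * (7 ^ 1 * (11 ^ 3 * (23 ^ 1 * (29 ^ 1 * (31 ^ 1 * (37 ^ 1 * (43 ^ 1 * (1)))))))))) by norm_num] at h0
  exact cube_one (cube_step' (by norm_num) (by norm_num) (by norm_num) (cube_step' (by norm_num) (by norm_num) (by norm_num) (cube_step' (by norm_num) (by norm_num) (by norm_num) (cube_step' (by norm_num) (by norm_num) (by norm_num) (cube_step' (by norm_num) (by norm_num) (by norm_num) (cube_step (by norm_num) h11 (cube_step' (by norm_num) (by norm_num) (by norm_num) (cube_step' (by norm_num) (by norm_num) (by norm_num) (cube_step (by norm_num) h3 (cube_step (by norm_num) hp2 h0))))))))))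

theorem cover_co1 (R : Rows) (hp2 : p ≠ 2) {S : Type v} [Group S] (h : Spor.IsoCo1 S) : Cover.{u} p S := by
  obtain ⟨e⟩ := h
  have hi : Spor.IsoCo1 Spor.Co1 := ⟨MulEquiv.refl _⟩
  have hc := NotCT.Orders.co1 hi
  have hf := finite_of_card hc (by norm_num)
  refine Cover.congr ?_ e
  by_cases h3 : p = 3
  · subst h3
    exact cover_of_rowAb S2043.result (by norm_num) (R.co1_3 _ hi)
  by_cases h5 : p = 5
  · subst h5
    exact cover_of_rowAb S2043.result (by norm_num) (R.co1_5 _ hi)
  refine cover_of_rowAb S2043.result (not_dvd_two_pow hp2 1) (rowAb_of_card fun h0 => ?_)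
  rw [hc, show (4157776806543360000 : ℕ) = 2 ^ 21 * (3 ^ 9 * (5 ^ 4 * (7 ^ 2 * (11 ^ 1 * (13 ^ 1 * (23 ^ 1 * (1))))))) by norm_num] at h0
  exact cube_one (cube_step' (by norm_num) (by norm_num) (by norm_num) (cube_step' (by norm_num) (by norm_num) (by norm_num) (cube_step' (by norm_num) (by norm_num) (by norm_num) (cube_step' (by norm_num) (by norm_num) (by norm_num) (cube_step (by norm_num) h5 (cube_step (by norm_num) h3 (cube_step (by norm_num) hp2 h0)))))))

theorem cover_co2 (R : Rows) (hp2 : p ≠ 2) {S : Type v} [Group S] (h : Spor.IsoCo2 S) : Cover.{u} p S := by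
  obtain ⟨e⟩ := h
  have hi : Spor.IsoCo2 Spor.Co2 := ⟨MulEquiv.refl _⟩
  have hc := NotCT.Orders.co2 hi
  have hf := finite_of_card hc (by norm_num)
  refine Cover.congr ?_ e
  by_cases h3 : p = 3
  · subst h3
    exact cover_of_rowAb S2044.result (by norm_num) (R.co2_3 _ hi)
  by_cases h5 : p = 5
  · subst h5
    exact cover_of_rowAb S2044.result (by norm_num) (R.co2_5 _ hi)
  refine cover_of_rowAb S2044.result (not_dvd_two_pow hp2 0) (rowAb_of_card fun h0 => ?_)
  rw [hc, show (42305421312000 : ℕ) = 2 ^ 18 * (3 ^ 6 * (5 ^ 3 * (7 ^ 1 * (11 ^ 1 * (23 ^ 1 * (1)))))) by norm_num] at h0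
  exact cube_one (cube_step' (by norm_num) (by norm_num) (by norm_num) (cube_step' (by norm_num) (by norm_num) (by norm_num) (cube_step' (by norm_num) (by norm_num) (by norm_num) (cube_step (by norm_num) h5 (cube_step (by norm_num) h3 (cube_step (by norm_num) hp2 h0))))))

theorem cover_co3 (R : Rows) (hp2 : p ≠ 2) {S : Type v} [Group S] (h : Spor.IsoCo3 S) : Cover.{u} p S := by
  obtain ⟨e⟩ := h
  have hi : Spor.IsoCo3 Spor.Co3 := ⟨MulEquiv.refl _⟩
  have hc := NotCT.Orders.co3 hi
  have hf := finite_of_card hc (by norm_num)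
  refine Cover.congr ?_ e
  by_cases h3 : p = 3
  · subst h3
    exact cover_of_rowAb S2045.result (by norm_num) (R.co3_3 _ hi)
  by_cases h5 : p = 5
  · subst h5
    exact cover_of_rowAb S2045.result (by norm_num) (R.co3_5 _ hi)
  refine cover_of_rowAb S2045.result (not_dvd_two_pow hp2 0) (rowAb_of_card fun h0 => ?_)
  rw [hc, show (495766656000 : ℕ) = 2 ^ 10 * (3 ^ 7 * (5 ^ 3 * (7 ^ 1 * (11 ^ 1 * (23 ^ 1 * (1)))))) by norm_num] at h0
  exact cube_one (cube_step' (by norm_num) (by norm_num) (by norm_num) (cube_step' (by norm_num) (by norm_num) (by norm_num) (cube_step' (by norm_num) (by norm_num) (by norm_num) (cube_step (by norm_num) h5 (cube_step (by norm_num) h3 (cube_step (by norm_num) hp2 h0))))))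

theorem cover_mcl (R : Rows) (hp2 : p ≠ 2) {S : Type v} [Group S] (h : Spor.IsoMcL S) : Cover.{u} p S := by
  obtain ⟨e⟩ := h
  have hi : Spor.IsoMcL Spor.McL := ⟨MulEquiv.refl _⟩
  have hc := NotCT.Orders.mcl hi
  have hf := finite_of_card hc (by norm_num)
  refine Cover.congr ?_ e
  by_cases h3 : p = 3
  · subst h3
    exact cover_of_rowCyc' S2047.result (by norm_num) (R.mcl_3 _ hi)
  by_cases h5 : p = 5
  · subst h5
    exact cover_of_rowAb S2047.result (by norm_num) (R.mcl_5 _ hi)
  refine cover_of_rowAb S2047.result (not_dvd_six hp2 h3 0) (rowAb_of_card fun h0 => ?_)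
  rw [hc, show (898128000 : ℕ) = 2 ^ 7 * (3 ^ 6 * (5 ^ 3 * (7 ^ 1 * (11 ^ 1 * (1))))) by norm_num] at h0
  exact cube_one (cube_step' (by norm_num) (by norm_num) (by norm_num) (cube_step' (by norm_num) (by norm_num) (by norm_num) (cube_step (by norm_num) h5 (cube_step (by norm_num) h3 (cube_step (by norm_num) hp2 h0)))))

theorem cover_hs (R : Rows) (hp2 : p ≠ 2) {S : Type v} [Group S] (h : Spor.IsoHS S) : Cover.{u} p S := by
  obtain ⟨e⟩ := h
  have hi : Spor.IsoHS Spor.HS := ⟨MulEquiv.refl _⟩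
  have hc := NotCT.Orders.hs hi
  have hf := finite_of_card hc (by norm_num)
  refine Cover.congr ?_ e
  by_cases h5 : p = 5
  · subst h5
    exact cover_of_rowAb S2046.result (by norm_num) (R.hs_5 _ hi)
  refine cover_of_rowAb S2046.result (not_dvd_two_pow hp2 1) (rowAb_of_card fun h0 => ?_)
  rw [hc, show (44352000 : ℕ) = 2 ^ 9 * (3 ^ 2 * (5 ^ 3 * (7 ^ 1 * (11 ^ 1 * (1))))) by norm_num] at h0
  exact cube_one (cube_step' (by norm_num) (by norm_num) (by norm_num) (cube_step' (by norm_num) (by norm_num) (by norm_num) (cube_step (by norm_num) h5 (cube_step' (by norm_num) (by norm_num) (by norm_num) (cube_step (by norm_num) hp2 h0)))))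

theorem cover_suz (R : Rows) (hp2 : p ≠ 2) {S : Type v} [Group S] (h : Spor.IsoSuz S) : Cover.{u} p S := by
  obtain ⟨e⟩ := h
  have hi : Spor.IsoSuz Spor.Suz := ⟨MulEquiv.refl _⟩
  have hc := NotCT.Orders.suz hi
  have hf := finite_of_card hc (by norm_num)
  refine Cover.congr ?_ e
  by_cases h3 : p = 3
  · subst h3
    exact cover_of_rowCyc' S2048.result (by norm_num) (R.suz_3 _ hi)
  refine cover_of_rowAb S2048.result (not_dvd_six hp2 h3 1) (rowAb_of_card fun h0 => ?_)
  rw [hc, show (448345497600 : ℕ) = 2 ^ 13 * (3 ^ 7 * (5 ^ 2 * (7 ^ 1 * (11 ^ 1 * (13 ^ 1 * (1)))))) by norm_num] at h0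
  exact cube_one (cube_step' (by norm_num) (by norm_num) (by norm_num) (cube_step' (by norm_num) (by norm_num) (by norm_num) (cube_step' (by norm_num) (by norm_num) (by norm_num) (cube_step' (by norm_num) (by norm_num) (by norm_num) (cube_step (by norm_num) h3 (cube_step (by norm_num) hp2 h0))))))

theorem cover_he (R : Rows) (hp2 : p ≠ 2) {S : Type v} [Group S] (h : Spor.IsoHe S) : Cover.{u} p S := by
  obtain ⟨e⟩ := h
  have hi : Spor.IsoHe Spor.He := ⟨MulEquiv.refl _⟩
  have hc := NotCT.Orders.he hi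
  have hf := finite_of_card hc (by norm_num)
  refine Cover.congr ?_ e
  by_cases h3 : p = 3
  · subst h3
    exact cover_of_rowAb S2049.result (by norm_num) (R.he_3 _ hi)
  by_cases h7 : p = 7
  · subst h7
    exact cover_of_rowAb S2049.result (by norm_num) (R.he_7 _ hi)
  refine cover_of_rowAb S2049.result (not_dvd_two_pow hp2 0) (rowAb_of_card fun h0 => ?_)
  rw [hc, show (4030387200 : ℕ) = 2 ^ 10 * (3 ^ 3 * (5 ^ 2 * (7 ^ 3 * (17 ^ 1 * (1))))) by norm_num] at h0
  exact cube_one (cube_step' (by norm_num) (by norm_num) (by norm_num) (cube_step (by norm_num) h7 (cube_step' (by norm_num) (by norm_num) (by norm_num) (cube_step (by norm_num) h3 (cube_step (by norm_num) hp2 h0)))))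

theorem cover_ru (R : Rows) (hp2 : p ≠ 2) {S : Type v} [Group S] (h : Spor.IsoRu S) : Cover.{u} p S := by
  obtain ⟨e⟩ := h
  have hi : Spor.IsoRu Spor.Ru := ⟨MulEquiv.refl _⟩
  have hc := NotCT.Orders.ru hi
  have hf := finite_of_card hc (by norm_num)
  refine Cover.congr ?_ e
  by_cases h3 : p = 3
  · subst h3
    exact cover_of_rowAb S2051.result (by norm_num) (R.ru_3 _ hi)
  by_cases h5 : p = 5
  · subst h5
    exact cover_of_rowAb S2051.result (by norm_num) (R.ru_5 _ hi)
  refine cover_of_rowAb S2051.result (not_dvd_two_pow hp2 1) (rowAb_of_card fun h0 => ?_)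
  rw [hc, show (145926144000 : ℕ) = 2 ^ 14 * (3 ^ 3 * (5 ^ 3 * (7 ^ 1 * (13 ^ 1 * (29 ^ 1 * (1)))))) by norm_num] at h0
  exact cube_one (cube_step' (by norm_num) (by norm_num) (by norm_num) (cube_step' (by norm_num) (by norm_num) (by norm_num) (cube_step' (by norm_num) (by norm_num) (by norm_num) (cube_step (by norm_num) h5 (cube_step (by norm_num) h3 (cube_step (by norm_num) hp2 h0))))))

theorem cover_on (R : Rows) (hp2 : p ≠ 2) {S : Type v} [Group S] (h : Spor.IsoON S) : Cover.{u} p S := by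
  obtain ⟨e⟩ := h
  have hi : Spor.IsoON Spor.ON := ⟨MulEquiv.refl _⟩
  have hc := NotCT.Orders.on hi
  have hf := finite_of_card hc (by norm_num)
  refine Cover.congr ?_ e
  by_cases h3 : p = 3
  · subst h3
    exact cover_of_rowCyc' S2052.result (by norm_num) (R.on_3 _ hi)
  by_cases h7 : p = 7
  · subst h7
    exact cover_of_rowAb S2052.result (by norm_num) (R.on_7 _ hi)
  refine cover_of_rowAb S2052.result (not_dvd_six hp2 h3 0) (rowAb_of_card fun h0 => ?_)
  rw [hc, show (460815505920 : ℕ) = 2 ^ 9 * (3 ^ 4 * (5 ^ 1 * (7 ^ 3 * (11 ^ 1 * (19 ^ 1 * (31 ^ 1 * (1))))))) by norm_num] at h0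
  exact cube_one (cube_step' (by norm_num) (by norm_num) (by norm_num) (cube_step' (by norm_num) (by norm_num) (by norm_num) (cube_step' (by norm_num) (by norm_num) (by norm_num) (cube_step (by norm_num) h7 (cube_step' (by norm_num) (by norm_num) (by norm_num) (cube_step (by norm_num) h3 (cube_step (by norm_num) hp2 h0)))))))

theorem cover_ly (R : Rows) (hp2 : p ≠ 2) {S : Type v} [Group S] (h : Spor.IsoLy S) : Cover.{u} p S := by
  obtain ⟨e⟩ := h
  have hi : Spor.IsoLy Spor.Ly := ⟨MulEquiv.refl _⟩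
  have hc := NotCT.Orders.ly hi
  have hf := finite_of_card hc (by norm_num)
  refine Cover.congr ?_ e
  by_cases h3 : p = 3
  · subst h3
    exact cover_of_rowAb S2050.result (by norm_num) (R.ly_3 _ hi)
  by_cases h5 : p = 5
  · subst h5
    exact cover_of_rowAb S2050.result (by norm_num) (R.ly_5 _ hi)
  refine cover_of_rowAb S2050.result (not_dvd_two_pow hp2 0) (rowAb_of_card fun h0 => ?_)
  rw [hc, show (51765179004000000 : ℕ) = 2 ^ 8 * (3 ^ 7 * (5 ^ 6 * (7 ^ 1 * (11 ^ 1 * (31 ^ 1 * (37 ^ 1 * (67 ^ 1 * (1)))))))) by norm_num] at h0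
  exact cube_one (cube_step' (by norm_num) (by norm_num) (by norm_num) (cube_step' (by norm_num) (by norm_num) (by norm_num) (cube_step' (by norm_num) (by norm_num) (by norm_num) (cube_step' (by norm_num) (by norm_num) (by norm_num) (cube_step' (by norm_num) (by norm_num) (by norm_num) (cube_step (by norm_num) h5 (cube_step (by norm_num) h3 (cube_step (by norm_num) hp2 h0))))))))

theorem cover_fi22 (R : Rows) (hp2 : p ≠ 2) {S : Type v} [Group S] (h : Spor.IsoFi22 S) : Cover.{u} p S := by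
  obtain ⟨e⟩ := h
  have hi : Spor.IsoFi22 Spor.Fi22 := ⟨MulEquiv.refl _⟩
  have hc := NotCT.Orders.fi22 hi
  have hf := finite_of_card hc (by norm_num)
  refine Cover.congr ?_ e
  by_cases h3 : p = 3
  · subst h3
    exact cover_of_rowCyc' S2053.result (by norm_num) (R.fi22_3 _ hi)
  refine cover_of_rowAb S2053.result (not_dvd_six hp2 h3 1) (rowAb_of_card fun h0 => ?_)
  rw [hc, show (64561751654400 : ℕ) = 2 ^ 17 * (3 ^ 9 * (5 ^ 2 * (7 ^ 1 * (11 ^ 1 * (13 ^ 1 * (1)))))) by norm_num] at h0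
  exact cube_one (cube_step' (by norm_num) (by norm_num) (by norm_num) (cube_step' (by norm_num) (by norm_num) (by norm_num) (cube_step' (by norm_num) (by norm_num) (by norm_num) (cube_step' (by norm_num) (by norm_num) (by norm_num) (cube_step (by norm_num) h3 (cube_step (by norm_num) hp2 h0))))))

theorem cover_fi23 (R : Rows) (hp2 : p ≠ 2) {S : Type v} [Group S] (h : Spor.IsoFi23 S) : Cover.{u} p S := by
  obtain ⟨e⟩ := h
  have hi : Spor.IsoFi23 Spor.Fi23 := ⟨MulEquiv.refl _⟩
  have hc := NotCT.Orders.fi23 hi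
  have hf := finite_of_card hc (by norm_num)
  refine Cover.congr ?_ e
  by_cases h3 : p = 3
  · subst h3
    exact cover_of_rowAb S2054.result (by norm_num) (R.fi23_3 _ hi)
  refine cover_of_rowAb S2054.result (not_dvd_two_pow hp2 0) (rowAb_of_card fun h0 => ?_)
  rw [hc, show (4089470473293004800 : ℕ) = 2 ^ 18 * (3 ^ 13 * (5 ^ 2 * (7 ^ 1 * (11 ^ 1 * (13 ^ 1 * (17 ^ 1 * (23 ^ 1 * (1)))))))) by norm_num] at h0
  exact cube_one (cube_step' (by norm_num) (by norm_num) (by norm_num) (cube_step' (by norm_num) (by norm_num) (by norm_num) (cube_step' (by norm_num) (by norm_num) (by norm_num) (cube_step' (by norm_num) (by norm_num) (by norm_num) (cube_step' (by norm_num) (by norm_num) (by norm_num) (cube_step' (by norm_num) (by norm_num) (by norm_num) (cube_step (by norm_num) h3 (cube_step (by norm_num) hp2 h0))))))))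

theorem cover_fi24 (R : Rows) (hp2 : p ≠ 2) {S : Type v} [Group S] (h : Spor.IsoFi24' S) : Cover.{u} p S := by
  obtain ⟨e⟩ := h
  have hi : Spor.IsoFi24' Spor.Fi24' := ⟨MulEquiv.refl _⟩
  have hc := NotCT.Orders.fi24 hi
  have hf := finite_of_card hc (by norm_num)
  refine Cover.congr ?_ e
  by_cases h3 : p = 3
  · subst h3
    exact cover_of_rowCyc' S2055.result (by norm_num) (R.fi24_3 _ hi)
  by_cases h7 : p = 7
  · subst h7
    exact cover_of_rowAb S2055.result (by norm_num) (R.fi24_7 _ hi)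
  refine cover_of_rowAb S2055.result (not_dvd_six hp2 h3 0) (rowAb_of_card fun h0 => ?_)
  rw [hc, show (1255205709190661721292800 : ℕ) = 2 ^ 21 * (3 ^ 16 * (5 ^ 2 * (7 ^ 3 * (11 ^ 1 * (13 ^ 1 * (17 ^ 1 * (23 ^ 1 * (29 ^ 1 * (1))))))))) by norm_num] at h0
  exact cube_one (cube_step' (by norm_num) (by norm_num) (by norm_num) (cube_step' (by norm_num) (by norm_num) (by norm_num) (cube_step' (by norm_num) (by norm_num) (by norm_num) (cube_step' (by norm_num) (by norm_num) (by norm_num) (cube_step' (by norm_num) (by norm_num) (by norm_num) (cube_step (by norm_num) h7 (cube_step' (by norm_num) (by norm_num) (by norm_num) (cube_step (by norm_num) h3 (cube_step (by norm_num) hp2 h0)))))))))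

theorem cover_hn (R : Rows) (hp2 : p ≠ 2) {S : Type v} [Group S] (h : Spor.IsoHN S) : Cover.{u} p S := by
  obtain ⟨e⟩ := h
  have hi : Spor.IsoHN Spor.HN := ⟨MulEquiv.refl _⟩
  have hc := NotCT.Orders.hn hi
  have hf := finite_of_card hc (by norm_num)
  refine Cover.congr ?_ e
  by_cases h3 : p = 3
  · subst h3
    exact cover_of_rowAb S2056.result (by norm_num) (R.hn_3 _ hi)
  by_cases h5 : p = 5
  · subst h5
    exact cover_of_rowAb S2056.result (by norm_num) (R.hn_5 _ hi)
  refine cover_of_rowAb S2056.result (not_dvd_two_pow hp2 0) (rowAb_of_card fun h0 => ?_)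
  rw [hc, show (273030912000000 : ℕ) = 2 ^ 14 * (3 ^ 6 * (5 ^ 6 * (7 ^ 1 * (11 ^ 1 * (19 ^ 1 * (1)))))) by norm_num] at h0
  exact cube_one (cube_step' (by norm_num) (by norm_num) (by norm_num) (cube_step' (by norm_num) (by norm_num) (by norm_num) (cube_step' (by norm_num) (by norm_num) (by norm_num) (cube_step (by norm_num) h5 (cube_step (by norm_num) h3 (cube_step (by norm_num) hp2 h0))))))

theorem cover_th (R : Rows) (hp2 : p ≠ 2) {S : Type v} [Group S] (h : Spor.IsoTh S) : Cover.{u} p S := by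
  obtain ⟨e⟩ := h
  have hi : Spor.IsoTh Spor.Th := ⟨MulEquiv.refl _⟩
  have hc := NotCT.Orders.th hi
  have hf := finite_of_card hc (by norm_num)
  refine Cover.congr ?_ e
  by_cases h3 : p = 3
  · subst h3
    exact cover_of_rowAb S2057.result (by norm_num) (R.th_3 _ hi)
  by_cases h5 : p = 5
  · subst h5
    exact cover_of_rowAb S2057.result (by norm_num) (R.th_5 _ hi)
  refine cover_of_rowAb S2057.result (not_dvd_two_pow hp2 0) (rowAb_of_card fun h0 => ?_)
  rw [hc, show (90745943887872000 : ℕ) = 2 ^ 15 * (3 ^ 10 * (5 ^ 3 * (7 ^ 2 * (13 ^ 1 * (19 ^ 1 * (31 ^ 1 * (1))))))) by norm_num] at h0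
  exact cube_one (cube_step' (by norm_num) (by norm_num) (by norm_num) (cube_step' (by norm_num) (by norm_num) (by norm_num) (cube_step' (by norm_num) (by norm_num) (by norm_num) (cube_step' (by norm_num) (by norm_num) (by norm_num) (cube_step (by norm_num) h5 (cube_step (by norm_num) h3 (cube_step (by norm_num) hp2 h0)))))))

theorem cover_b (R : Rows) (hp2 : p ≠ 2) {S : Type v} [Group S] (h : Spor.IsoB S) : Cover.{u} p S := by
  obtain ⟨e⟩ := h
  have hi : Spor.IsoB Spor.BabyMonster := ⟨MulEquiv.refl _⟩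
  have hc := NotCT.Orders.b hi
  have hf := finite_of_card hc (by norm_num)
  refine Cover.congr ?_ e
  by_cases h3 : p = 3
  · subst h3
    exact cover_of_rowAb S2058.result (by norm_num) (R.b_3 _ hi)
  by_cases h5 : p = 5
  · subst h5
    exact cover_of_rowAb S2058.result (by norm_num) (R.b_5 _ hi)
  refine cover_of_rowAb S2058.result (not_dvd_two_pow hp2 1) (rowAb_of_card fun h0 => ?_)
  rw [hc, show (4154781481226426191177580544000000 : ℕ) = 2 ^ 41 * (3 ^ 13 * (5 ^ 6 * (7 ^ 2 * (11 ^ 1 * (13 ^ 1 * (17 ^ 1 * (19 ^ 1 * (23 ^ 1 * (31 ^ 1 * (47 ^ 1 * (1))))))))))) by norm_num] at h0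
  exact cube_one (cube_step' (by norm_num) (by norm_num) (by norm_num) (cube_step' (by norm_num) (by norm_num) (by norm_num) (cube_step' (by norm_num) (by norm_num) (by norm_num) (cube_step' (by norm_num) (by norm_num) (by norm_num) (cube_step' (by norm_num) (by norm_num) (by norm_num) (cube_step' (by norm_num) (by norm_num) (by norm_num) (cube_step' (by norm_num) (by norm_num) (by norm_num) (cube_step' (by norm_num) (by norm_num) (by norm_num) (cube_step (by norm_num) h5 (cube_step (by norm_num) h3 (cube_step (by norm_num) hp2 h0)))))))))))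

theorem cover_m (R : Rows) (hp2 : p ≠ 2) {S : Type v} [Group S] (h : Spor.IsoM S) : Cover.{u} p S := by
  obtain ⟨e⟩ := h
  have hi : Spor.IsoM Spor.Monster := ⟨MulEquiv.refl _⟩
  have hc := NotCT.Orders.m hi
  have hf := finite_of_card hc (by norm_num)
  refine Cover.congr ?_ e
  by_cases h3 : p = 3
  · subst h3
    exact cover_of_rowAb S2059.result (by norm_num) (R.m_3 _ hi)
  by_cases h5 : p = 5
  · subst h5
    exact cover_of_rowAb S2059.result (by norm_num) (R.m_5 _ hi)
  by_cases h7 : p = 7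
  · subst h7
    exact cover_of_rowAb S2059.result (by norm_num) (R.m_7 _ hi)
  by_cases h13 : p = 13
  · subst h13
    exact cover_of_rowAb S2059.result (by norm_num) (R.m_13 _ hi)
  refine cover_of_rowAb S2059.result (not_dvd_two_pow hp2 0) (rowAb_of_card fun h0 => ?_)
  rw [hc, show (808017424794512875886459904961710757005754368000000000 : ℕ) = 2 ^ 46 * (3 ^ 20 * (5 ^ 9 * (7 ^ 6 * (11 ^ 2 * (13 ^ 3 * (17 ^ 1 * (19 ^ 1 * (23 ^ 1 * (29 ^ 1 * (31 ^ 1 * (41 ^ 1 * (47 ^ 1 * (59 ^ 1 * (71 ^ 1 * (1))))))))))))))) by norm_num] at h0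
  exact cube_one (cube_step' (by norm_num) (by norm_num) (by norm_num) (cube_step' (by norm_num) (by norm_num) (by norm_num) (cube_step' (by norm_num) (by norm_num) (by norm_num) (cube_step' (by norm_num) (by norm_num) (by norm_num) (cube_step' (by norm_num) (by norm_num) (by norm_num) (cube_step' (by norm_num) (by norm_num) (by norm_num) (cube_step' (by norm_num) (by norm_num) (by norm_num) (cube_step' (by norm_num) (by norm_num) (by norm_num) (cube_step' (by norm_num) (by norm_num) (by norm_num) (cube_step (by norm_num) h13 (cube_step' (by norm_num) (by norm_num) (by norm_num) (cube_step (by norm_num) h7 (cube_step (by norm_num) h5 (cube_step (by norm_num) h3 (cube_step (by norm_num) hp2 h0)))))))))))))))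

theorem cover_tits (R : Rows) (hp2 : p ≠ 2) {S : Type v} [Group S] (h : Lie.IsoTits S) : Cover.{u} p S := by
  obtain ⟨e⟩ := h
  have hi : Lie.IsoTits Lie.TitsGroup := ⟨MulEquiv.refl _⟩
  have hc := NotCT.Orders.tits hi
  have hf := finite_of_card hc (by norm_num)
  refine Cover.congr (T := Lie.TitsGroup) ?_ (by exact e)
  by_cases h3 : p = 3
  · subst h3
    exact cover_of_rowAb S2115.result (by norm_num) (R.tits_3 _ hi)
  refine cover_of_rowAb S2115.result (not_dvd_two_pow hp2 0) (rowAb_of_card fun h0 => ?_)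
  rw [hc, show (17971200 : ℕ) = 2 ^ 11 * (3 ^ 3 * (5 ^ 2 * (13 ^ 1 * (1)))) by norm_num] at h0
  exact cube_one (cube_step' (by norm_num) (by norm_num) (by norm_num) (cube_step' (by norm_num) (by norm_num) (by norm_num) (cube_step (by norm_num) h3 (cube_step (by norm_num) hp2 h0))))

theorem cover_spor (R : Rows) (hp2 : p ≠ 2) {S : Type v} [Group S] (h : IsSporadicGroup S) : Cover.{u} p S := by
  rcases h with h | h | h | h | h | h | h | h | h | h | h | h | h | h | h | h | h | h | h | h | h | h | h | h | h | h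
  · exact cover_m11 R hp2 h
  · exact cover_m12 R hp2 h
  · exact cover_m22 R hp2 h
  · exact cover_m23 R hp2 h
  · exact cover_m24 R hp2 h
  · exact cover_j1 R hp2 h
  · exact cover_j2 R hp2 h
  · exact cover_j3 R hp2 h
  · exact cover_j4 R hp2 h
  · exact cover_co1 R hp2 h
  · exact cover_co2 R hp2 h
  · exact cover_co3 R hp2 h
  · exact cover_mcl R hp2 h
  · exact cover_hs R hp2 h
  · exact cover_suz R hp2 h
  · exact cover_he R hp2 h
  · exact cover_ru R hp2 h
  · exact cover_on R hp2 h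
  · exact cover_ly R hp2 h
  · exact cover_fi22 R hp2 h
  · exact cover_fi23 R hp2 h
  · exact cover_fi24 R hp2 h
  · exact cover_hn R hp2 h
  · exact cover_th R hp2 h
  · exact cover_b R hp2 h
  · exact cover_m R hp2 h

/-- **S4806 for the covers of the sporadic groups and of the Tits group**, from the rows -/
theorem comm_of_rows (R : Rows) {G : Type u} [Group G] [Finite G] (hG : IsQuasisimple G) (hp2 : p ≠ 2)
    {M : Ideal AlgInt} (hM : IsPModular p M) {B : Set (IrrCharacter G)} (hB : IsNilpotentBlock p M B) {D : Subgroup G}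
    (hD : IsDefectGroup p M B D) (h : IsSporadicGroup (G ⧸ center G) ∨ Lie.IsoTits (G ⧸ center G)) :
    IsMulCommutative D :=
  (h.elim (cover_spor R hp2) (cover_tits R hp2)) G hG ⟨MulEquiv.refl _⟩ D (loc_of_block hM hB hD)

end Cfsg.Agent.BHZ.Spor
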