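import Mathlib
import Cfsg.Agent.BHZ.Spor.DNorm
import Cfsg.Agent.BHZ.Spor.Desc
import Cfsg.Agent.H834.MainAD
import Cfsg.Agent.H834.XNorm
import Cfsg.Agent.H834.ZInst
import Cfsg.Agent.H835.ClsThree
import Cfsg.Agent.H835.NormFin
import Cfsg.Agent.H711.FiTwoRow

/-!
# S4806, the sporadic row `Fi22`, `p = 3` (helper84)
-/

set_option autoImplicit false
set_option maxRecDepth 100000
set_option exponentiation.threshold 5000

namespace Cfsg.Agent.BHZ.Spor.F22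

open Cfsg Subgroup Cfsg.Agent.H834 Cfsg.Agent.H835 Cfsg.Agent.H836 Cfsg.Agent.LThreeFi22
open Cfsg.Agent.H835.HexMain Cfsg.Agent.H835.HexChk Cfsg.Agent.H835.GLAct
open Cfsg.Agent.KFacts.FiTT (TK)
open Cfsg.Agent.Lib.PermNet Cfsg.Agent.Lib.PermNetOrbit Cfsg.Agent.Lib.PermNetFix
open Cfsg.Spor.Fi22 (Gen)

universe v

theorem fx4 : Nat.beq (pc 12 (fixm [.a, .b, .d, .e])) 36 = true := by decide +kernel

theorem fx4lt : Nat.beq (Nat.shiftRight (fixm [.a, .b, .d, .e]) (Nat.pow 2 12)) 0 = true := by decide +kernel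

theorem fx2 : Nat.beq (pc 12 (fixm [.a, .b])) 126 = true := by decide +kernel

theorem fx2lt : Nat.beq (Nat.shiftRight (fixm [.a, .b]) (Nat.pow 2 12)) 0 = true := by decide +kernel

theorem add3 : ∀ c : ZMod 3, c + c + c = 0 := by decide

theorem wd_inj : ∀ i j : Fin 4, (![6, 4, 3, 0] : Fin 4 → ℕ) j = (![6, 4, 3, 0] : Fin 4 → ℕ) i → j = i := by decide

theorem mat_one : !![(![1, 0] : A2) 0, (![0, 1] : A2) 0; (![1, 0] : A2) 1, (![0, 1] : A2) 1] = 1 := by decide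

section model

variable {G : Type v} [Group G] {D : Set G} (m : Model G D)

theorem constr4 : Constr 3 (m.κ w2) := by
  have hfin := m.finite
  refine ⟨m.A, isPGroup_of_pelt fun d hd => ⟨1, m.elemA.2 d hd⟩,
    fun x hx u hu => m.NX_norm (mem_normalizer_of_commute hx) hu, fun r h1 h2 => ?_⟩
  exact eq_one_of_reg h2 (k := 1) (m.elemA.2 r (m.cent_A fun a ha => (h1 a ha).symm))

theorem z_pow : m.wd ZC.zw ^ 3 = 1 := by
  rw [pow_succ, pow_two]
  exact m.z_cube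

theorem constr3 : Constr 3 (m.wd ZC.zw) := by
  have h3 : Fact (Nat.Prime 3) := ⟨Nat.prime_three⟩
  have hfin := m.finite
  exact Constr.of_genFitting ⟨1, z_pow m⟩ _ (fun x hx => mem_normalizer_of_commute hx)
    (IsPGroup.of_card (m.zdata.main rfl).2.1)

theorem y_pow : (m.t 0 * m.t 2) ^ 3 = 1 := by
  have h0 := m.t_sq (p := 0) (by norm_num)
  have h2 := m.t_sq (p := 2) (by norm_num)
  calc (m.t 0 * m.t 2) ^ 3 = (m.t 0 * m.t 2 * m.t 0) * (m.t 2 * m.t 0 * m.t 2) := by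
        rw [pow_succ, pow_two]; simp only [mul_assoc]
    _ = m.t 2 * (m.t 0 * (m.t 2 * m.t 2) * m.t 0) * m.t 2 := by
        rw [m.braid02]; simp only [mul_assoc]
    _ = 1 := by rw [h2, mul_one, h0, mul_one, h2]

theorem y_ne : m.t 0 * m.t 2 ≠ 1 := by
  intro h
  apply m.t02_ne
  rw [h, eq_inv_of_mul_eq_one_left h, mul_inv_cancel]

theorem y_comm {k : G} (hk : k ∈ m.KF) : Commute (m.t 0 * m.t 2) k :=
  m.S3_comm (mul_mem m.t0_mem m.t2_mem) hk

/-- `C(y) = ⟨y⟩ × K` -/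
theorem form {k : G} (hk : Commute (m.t 0 * m.t 2) k) : ∃ a ∈ zpowers (m.t 0 * m.t 2), a * k ∈ m.KF := by
  have h0 := m.t_sq (p := 0) (by norm_num)
  have h2 := m.t_sq (p := 2) (by norm_num)
  have i0 := m.t_inv (p := 0) (by norm_num)
  have i2 := m.t_inv (p := 2) (by norm_num)
  have key : ∀ l : G, Commute (m.t 0 * m.t 2) l → l * m.t 0 * l⁻¹ = m.t 0 → l ∈ m.KF := by
    intro l h1 h3
    have h4 : Commute (m.t 0) l := (mul_inv_eq_iff_eq_mul.1 h3).symm
    have h5 := h4.inv_left.mul_left h1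
    rw [inv_mul_cancel_left] at h5
    rw [← m.cent_eq, mem_centralizer_iff]
    rintro x (rfl | rfl)
    · exact h4
    · exact h5
  rcases m.class_of_comm (m.t_mem (p := 0) (by norm_num)) (m.t_mem (p := 2) (by norm_num)) m.t02_ne hk.symm.eq with
    h | h | h
  · exact ⟨1, one_mem _, key _ (by rwa [one_mul]) (by rwa [one_mul])⟩
  · refine ⟨_, mem_zpowers _, key _ ((Commute.refl _).mul_right hk) ?_⟩
    calc m.t 0 * m.t 2 * k * m.t 0 * (m.t 0 * m.t 2 * k)⁻¹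
        = m.t 0 * m.t 2 * (k * m.t 0 * k⁻¹) * (m.t 2)⁻¹ * (m.t 0)⁻¹ := by group
      _ = m.t 0 * (m.t 2 * (m.t 0 * m.t 2 * m.t 0)) * m.t 2 * m.t 0 := by
        rw [h, i0, i2]; simp only [mul_assoc]
      _ = m.t 0 * ((m.t 2 * m.t 2) * m.t 0 * (m.t 2 * m.t 2)) * m.t 0 := by
        rw [m.braid02]; simp only [mul_assoc]
      _ = m.t 0 := by rw [h2, one_mul, mul_one, h0, one_mul]
  · refine ⟨_, inv_mem (mem_zpowers _), key _ ((Commute.refl _).inv_right.mul_right hk) ?_⟩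
    calc (m.t 0 * m.t 2)⁻¹ * k * m.t 0 * ((m.t 0 * m.t 2)⁻¹ * k)⁻¹
        = (m.t 2)⁻¹ * ((m.t 0)⁻¹ * (k * m.t 0 * k⁻¹) * m.t 0) * m.t 2 := by group
      _ = m.t 2 * (m.t 0 * m.t 2 * m.t 0) * m.t 2 := by rw [h, i0, i2]
      _ = (m.t 2 * m.t 2) * m.t 0 * (m.t 2 * m.t 2) := by
        rw [m.braid02]; simp only [mul_assoc]
      _ = m.t 0 := by rw [h2, one_mul, mul_one]

theorem nfix_y : m.nfix (m.t 0 * m.t 2) = 126 := by
  have h := m.nfix_word fx2 fx2lt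
  rwa [m.wd_cons, ← m.t_gp, ← m.t_gp] at h

/-- the product of two orthogonal elements of the first class -/
theorem nfix_prod {p q : ℕ} (hp : AD.F.testBit p = true) (hq : AD.F.testBit q = true)
    (h : m.t p * m.t q ≠ m.t q * m.t p) : m.nfix (m.t 0 * m.t 2 * (m.t p * m.t q)) = 36 := by
  have h16 : AD.F.testBit 16 = true := by rw [← tb_eq]; decide +kernel
  have h40 : AD.F.testBit 40 = true := by rw [← tb_eq]; decide +kernel
  have hne : m.t 16 * m.t 40 ≠ m.t 40 * m.t 16 := by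
    intro h
    rw [← m.fix_iff (by norm_num)] at h
    have h1 := (m.testBit_cmk (c := ([], .d)) (q := 40) (by norm_num)).2 h
    rw [← tb_eq] at h1
    revert h1
    decide +kernel
  obtain ⟨k, hk, h1, h2⟩ := m.KF_transN hp hq h16 h40 h hne
  have h3 := m.nfix_word fx4 fx4lt
  rw [m.wd_cons, m.wd_cons .b, m.wd_cons .d, ← m.t_gp, ← m.t_gp, ← m.t_gp, ← m.t_gp] at h3
  rw [← m.nfix_conj k, ← h3]
  congr 1
  have h4 := m.conj_t k (AD.F_lt hp)
  have h5 := m.conj_t k (AD.F_lt hq)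
  rw [h1] at h4
  rw [h2] at h5
  calc k * (m.t 0 * m.t 2 * (m.t p * m.t q)) * k⁻¹
      = k * (m.t 0 * m.t 2) * k⁻¹ * (k * m.t p * k⁻¹ * (k * m.t q * k⁻¹)) := by group
    _ = _ := by
      rw [h4, h5, ← (y_comm m hk).eq, mul_inv_cancel_right, mul_assoc]
      rfl

end model

variable {K : Type v} [Group K] (e : K ≃* Spor.Fi22) (m : Model K (TK e))

theorem constr0 : Constr 3 (m.wd wy) := by
  have h3 : Fact (Nat.Prime 3) := ⟨Nat.prime_three⟩
  have hfin := m.finite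
  have hv := NormFin.vdata e m
  obtain ⟨ρ, hρ⟩ := exists_rho hv (NormFin.Ny e m) (fun n hn => NormFin.of_norm e m (NormFin.Ny_le e m hn))
  have hU := rho_eq hv hρ (n := ⟨_, NormFin.Cy_le_Ny e m (NormMain.wa_mem e m)⟩) (NormFin.rel_a e m).1
    (NormFin.rel_a e m).2
  have hL := rho_eq hv hρ (n := ⟨_, NormFin.Cy_le_Ny e m (NormMain.wl_mem e m)⟩) (NormFin.rel_l e m).1
    (NormFin.rel_l e m).2
  have hC := rho_eq hv hρ (n := ⟨_, NormFin.Cy_le_Ny e m (NormMain.wc_mem e m)⟩) (NormFin.rel_c e m).1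
    (NormFin.rel_c e m).2
  have hD := rho_eq hv hρ (n := ⟨_, NormFin.i_mem e m⟩) (NormFin.rel_i e m).1 (NormFin.rel_i e m).2
  have hK : IsPGroup 3 ρ.ker := by
    refine IsPGroup.of_card (n := 6) ?_
    have c2 := ρ.ker.card_mul_index
    rw [index_ker, MonoidHom.range_eq_top.2 (surj ρ hU hL hC hD), Subgroup.card_top, card_gl,
      NormFin.card_Ny e m] at c2
    omega
  have hH : ∀ x, Commute (m.wd wy) x → x ∈ NormFin.Ny e m := fun x hx => mem_normalizer_of_commute hx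
  have hE : NormP 3 (m.wd wy) (NormFin.V e m) := by
    refine ⟨isPGroup_of_pelt ?_, fun x hx u hu => (mem_normalizer_iff.1 (NormFin.Ny_le e m (hH x hx)) u).1 hu⟩
    rintro _ ⟨a, rfl⟩
    refine ⟨1, ?_⟩
    rw [pow_one, pow_succ, pow_two, ← vec_add hv, ← vec_add hv,
      show a + a + a = 0 from funext fun i => add3 _, vec_zero]
  have hS := (NormP.of_normal _ hH _ inferInstance hK).sup hE (by
    rintro _ ⟨a, -, rfl⟩ b hb
    exact (mem_normalizer_iff.1 (NormFin.Ny_le e m a.2) b).1 hb)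
  refine hS.constr' ⟨1, cube_Y m⟩ fun r h1 h2 h4 => ?_
  have h5 : ρ ⟨r, hH r h1⟩ = 1 := by
    have h6 : ∀ a, r * vec (NormFin.v e m) (NormFin.x e m) a * r⁻¹ = vec (NormFin.v e m) (NormFin.x e m) a :=
      fun a => by rw [← (h2 _ (mem_sup_right ⟨a, rfl⟩)).eq, mul_inv_cancel_right]
    have h7 := rho_eq hv hρ (n := ⟨r, hH r h1⟩) (a := ![1, 0]) (b := ![0, 1])
      (by have := h6 ![1, 0]; rwa [vec_e0] at this ⊢) (by have := h6 ![0, 1]; rwa [vec_e1] at this ⊢)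
    exact Units.ext (h7.trans mat_one)
  obtain ⟨k, hk⟩ := pelt_of_mem hK (show (⟨r, hH r h1⟩ : NormFin.Ny e m) ∈ ρ.ker from h5)
  exact eq_one_of_reg h4 (congrArg Subtype.val hk)

/-- the width -/
noncomputable def W (x : K) : ℕ := commutingWidth (Fx (TK e) x)

theorem same {x : K} (hx : orderOf x = 3) : (W e x = 6 ∨ W e x = 4 ∨ W e x = 3 ∨ W e x = 0) ∧
    ∀ y : K, orderOf y = 3 → W e y = W e x → ∃ g : K, (zpowers y).map (MulAut.conj g).toMonoidHom = zpowers x := by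
  have I := inv_of_iso e
  obtain ⟨Y, h1, -, h3, w0, w1, w2, w3⟩ := ClsThree.three_concl e
  have key : ∀ y : K, orderOf y = 3 → ∃ i, W e y = (![6, 4, 3, 0] : Fin 4 → ℕ) i ∧
      ∃ g : K, (zpowers y).map (MulAut.conj g).toMonoidHom = Y i := by
    intro y hy
    obtain ⟨i, g, hg⟩ := h3 (zpowers y) (by rw [Nat.card_zpowers, hy])
    refine ⟨i, ?_, g, hg⟩
    obtain ⟨z, -, -, -, hz⟩ := Main.exists_gen Nat.prime_three (h1 i)
    rw [hz] at hg
    rw [W, ClsThree.width_of_conj I hg, ← Main.inter_eq, ← hz]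
    fin_cases i
    · exact w0
    · exact w1
    · exact w2
    · exact w3
  obtain ⟨i, hi, g, hg⟩ := key x hx
  refine ⟨?_, fun y hy hw => ?_⟩
  · rw [hi]
    fin_cases i <;> simp
  · obtain ⟨j, hj, k, hk⟩ := key y hy
    have hij : j = i := wd_inj _ _ (hj.symm.trans (hw.trans hi))
    subst hij
    refine ⟨g⁻¹ * k, ?_⟩
    rw [← map_map_conj, hk, ← hg, map_map_conj, inv_mul_cancel, map_one]
    exact Subgroup.map_id _

theorem constr_of {x y g : K} (h : (zpowers y).map (MulAut.conj g).toMonoidHom = zpowers x) (hy : Constr 3 y) :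
    Constr 3 x := by
  rw [map_conj_zpowers] at h
  exact (hy.conj (isConj_iff.2 ⟨g, rfl⟩)).of_zpowers (h ▸ mem_zpowers _)

theorem cls {x : K} (hx : orderOf x = 3) :
    Constr 3 x ∨ ∃ g : K, (zpowers (m.t 0 * m.t 2)).map (MulAut.conj g).toMonoidHom = zpowers x := by
  have h3 : Fact (Nat.Prime 3) := ⟨Nat.prime_three⟩
  have hfin := m.finite
  obtain ⟨h | h | h | h, hs⟩ := same e hx
  · refine Or.inr (hs _ (orderOf_eq_prime (y_pow m) (y_ne m)) ?_)
    rw [h, W, ← Main.inter_eq]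
    exact m.width_eq
  · obtain ⟨m', hm⟩ := m.exists_model_X (X := zpowers x) (by rw [Nat.card_zpowers, hx]) (by rwa [Main.inter_eq])
    exact Or.inl ((constr4 m').of_zpowers (hm ▸ mem_zpowers _))
  · obtain ⟨g, hg⟩ := hs _ (orderOf_eq_prime (z_pow m) m.z_ne) (by
      rw [h, W, ← Main.inter_eq]
      exact m.zdata.width)
    exact Or.inl (constr_of hg (constr3 m))
  · obtain ⟨g, hg⟩ := free_conj e m (y := x) (by rw [← hx, pow_orderOf_eq_one]) fun t ht h1 => by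
      have h2 := le_commutingWidth (D := Fx (TK e) x) (E := {t}) (Set.singleton_subset_iff.2 ⟨ht, h1⟩) (by
        rintro _ rfl _ rfl
        exact Commute.refl _)
      rw [Set.ncard_singleton] at h2
      rw [W] at h
      omega
    refine Or.inl (constr_of (g := g⁻¹) ?_ (constr0 e m))
    rw [← hg, map_map_conj, inv_mul_cancel, map_one]
    exact Subgroup.map_id _

theorem cyc0 (hS : H711.Crit.NN 3 K) : CycAt 3 2 (m.t 0 * m.t 2) := by
  have h3 : Fact (Nat.Prime 3) := ⟨Nat.prime_three⟩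
  have hfin := m.finite
  intro D hD hy hyD
  by_cases h0 : D ⊓ m.KF = ⊥
  · refine isCyclic_iff_le.2 ⟨_, hy, fun d hd => ?_⟩
    obtain ⟨a, ha, hk⟩ := form m (hyD d hd)
    have h1 : a * d ∈ D ⊓ m.KF := ⟨D.mul_mem (zpowers_le.2 hy ha) hd, hk⟩
    rw [h0, mem_bot] at h1
    rw [eq_inv_of_mul_eq_one_right h1]
    exact inv_mem ha
  exfalso
  obtain ⟨z, hz, hz3, hzD⟩ := exists_central hD.pg h0 inf_le_left fun d hd u hu => by
    refine ⟨D.mul_mem (D.mul_mem hd hu.1) (D.inv_mem hd), ?_⟩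
    obtain ⟨a, ha, hk⟩ := form m (hyD d hd)
    have h1 : a * d * u * (a * d)⁻¹ ∈ m.KF := m.KF.mul_mem (m.KF.mul_mem hk hu.2) (m.KF.inv_mem hk)
    have h2 := (commute_of_mem_zpowers (y_comm m h1) ha).eq
    have h4 : d * u * d⁻¹ = a⁻¹ * (a * d * u * (a * d)⁻¹ * a) := by group
    rw [h4, ← h2, inv_mul_cancel_left]
    exact h1
  rcases cls e m hz3 with h | ⟨g, hg⟩
  · exact hD.not_constr hS hz.1 hzD h
  obtain ⟨hp, hq⟩ := m.comm_iff_of_le (g := g) (by rw [hg]; exact zpowers_le.2 hz.2)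
  rw [m.map_X] at hg
  have hne := mt (m.comm_map g (p := 0) (q := 2) (by norm_num) (by norm_num)).1 m.t02_ne
  have hn := nfix_prod m hp hq hne
  have hw : m.t (m.φ g 0) * m.t (m.φ g 2) ∈ zpowers z := hg ▸ mem_zpowers _
  generalize m.t (m.φ g 0) * m.t (m.φ g 2) = w at hn hw
  have hwD : w ∈ D := zpowers_le.2 hz.1 hw
  have hw3 : w ^ 3 = 1 := by
    obtain ⟨n, rfl⟩ := hw
    rw [← zpow_natCast, ← zpow_mul, mul_comm, zpow_mul, zpow_natCast, ← hz3, pow_orderOf_eq_one, one_zpow]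
  have hu3 : (m.t 0 * m.t 2 * w) ^ 3 = 1 := by rw [(hyD w hwD).mul_pow, y_pow m, hw3, mul_one]
  have hu1 : m.t 0 * m.t 2 * w ≠ 1 := by
    intro h
    rw [eq_inv_of_mul_eq_one_right h] at hw
    have h1 : m.t 0 * m.t 2 ∈ m.S3 ⊓ m.KF :=
      ⟨mul_mem m.t0_mem m.t2_mem, m.KF.inv_mem_iff.1 (zpowers_le.2 (show z ∈ m.KF from hz.2) hw)⟩
    rw [m.S3_inf, mem_bot] at h1
    exact y_ne m h1
  rcases cls e m (orderOf_eq_prime hu3 hu1) with h | ⟨k, hk⟩
  · exact hD.not_constr hS (D.mul_mem hy hwD)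
      (fun d hd => (hyD d hd).mul_left (commute_of_mem_zpowers (hzD d hd) hw)) h
  rw [map_conj_zpowers] at hk
  have h1 := nfix_y m
  rw [← m.nfix_conj k] at h1
  rcases Model.zpowers_cases hu3 (hk ▸ mem_zpowers _ : k * (m.t 0 * m.t 2) * k⁻¹ ∈ _) with h | h | h
  · exact y_ne m (conj_eq_one_iff.1 h)
  · rw [h, hn] at h1
    norm_num at h1
  · rw [h, m.nfix_inv, hn] at h1
    norm_num at h1

theorem model : RowCyc 3 2 Spor.Fi22 := by
  have h3 : Fact (Nat.Prime 3) := ⟨Nat.prime_three⟩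
  obtain ⟨m⟩ := H834.Bridge.model_of_iso (MulEquiv.refl Spor.Fi22) (D := TK (MulEquiv.refl _)) rfl
  have hfin := m.finite
  refine rowCyc_of_cycAt fun y hy => ?_
  rcases cls _ m hy with h | ⟨g, hg⟩
  · exact h.cycAt H711.FiTwoRow.nn_fi22
  · rw [map_conj_zpowers] at hg
    exact ((cyc0 _ m H711.FiTwoRow.nn_fi22).conj (isConj_iff.2 ⟨g, rfl⟩)).of_zpowers (hg ▸ mem_zpowers _)

end Cfsg.Agent.BHZ.Spor.F22

namespace Cfsg.Agent.BHZ.Spor

theorem fi22_3 : ∀ (S : Type) [Group S] [Finite S], Cfsg.Spor.IsoFi22 S → RowCyc 3 2 S := by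
  intro S _ _ ⟨e⟩
  have h3 : Fact (Nat.Prime 3) := ⟨Nat.prime_three⟩
  exact F22.model.congr e.symm

end Cfsg.Agent.BHZ.Spor
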