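import Mathlib
import Cfsg.Agent.BHZ.Spor.Desc
import Cfsg.Agent.BHZ.Spor.DNorm
import Cfsg.Agent.Lib.Cores
import Cfsg.Agent.Lib.HallHigman
import Cfsg.Agent.BpLieP.Big

/-!
# S4806, sporadic rows: counting tools (helper4)
-/

set_option autoImplicit false
set_option linter.unusedSectionVars false

namespace Cfsg.Agent.BHZ.Spor

open Cfsg Subgroup
open scoped commutatorElement

universe u v

variable {p m : ℕ} [hp : Fact p.Prime] {S : Type u} [Group S] [Finite S] {D : Subgroup S}

theorem ne_one_of_order {y : S} (hy : orderOf y = p) : y ≠ 1 := by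
  rintro rfl
  rw [orderOf_one] at hy
  exact hp.out.one_lt.ne hy

theorem pelt_of_order {y : S} (hy : orderOf y = p) : ∃ k : ℕ, y ^ p ^ k = 1 :=
  ⟨1, by rw [pow_one, ← hy, pow_orderOf_eq_one]⟩

/-- local characteristic `p` -/
theorem constr_of_locChar (hL : BpLieP.Big.LocChar p S) {y : S} (hy : orderOf y = p) : Constr p y := by
  obtain ⟨k, hk⟩ := pelt_of_order hy
  have h1 := hL (zpowers y) (isPGroup_zpowers hk) (fun h => ne_one_of_order hy (zpowers_eq_bot.1 h))
  refine Constr.of_over ⟨k, hk⟩ _ (fun x hx => mem_normalizer_of_commute hx) _ (Lib.Cores.pCore_normal p)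
    (Lib.Cores.pCore_isPGroup p) fun r _ h2 h3 => ?_
  obtain ⟨j, hj⟩ := pelt_of_mem (Lib.Cores.pCore_isPGroup p) (h1 (mem_centralizer_iff.2 fun n hn => h2 n hn))
  exact eq_one_of_reg h3 hj

theorem Loc.eq_bot_of_locChar (h : Loc p m D) (hL : BpLieP.Big.LocChar p S) (hN : H711.Crit.NN p S) : D = ⊥ := by
  by_contra h0
  obtain ⟨y, hy, hyp, hyD⟩ := exists_central h.pg h0 le_rfl fun d hd u hu =>
    D.mul_mem (D.mul_mem hd hu) (D.inv_mem hd)
  exact h.not_constr hN hy hyD (constr_of_locChar hL hyp)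

/-- if no nontrivial group `D` occurs in `C(y)/⟨y⟩` then `D = ⟨y⟩` -/
theorem cycAt_of_descend {y : S} {T : Type v} [Group T] (φ : centralizer ({y} : Set S) →* T)
    (hs : Function.Surjective φ) (hk : ∀ n, φ n = 1 → (n : S) ∈ zpowers y)
    (hT : ∀ E : Subgroup T, Loc p m E → E = ⊥) : CycAt p m y := by
  intro D h hy hyD
  have h1 := hT _ (h.descend hy hyD φ hs hk)
  refine isCyclic_iff_le.2 ⟨y, hy, fun d hd => ?_⟩
  have h2 : φ ⟨d, mem_centralizer_singleton_iff.2 (hyD d hd).symm⟩ ∈
      (D.subgroupOf (centralizer ({y} : Set S))).map φ := ⟨_, hd, rfl⟩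
  rw [h1, mem_bot] at h2
  exact hk _ h2

/-- the core of a Sylow subgroup of the centralizer -/
theorem exists_normP_of_card {y : S} {a n : ℕ} (hc : Nat.card (centralizer ({y} : Set S)) = p ^ a * n) :
    ∃ U : Subgroup S, NormP p y U ∧ p ^ a * n ∣ Nat.card U * n.factorial := by
  obtain ⟨R, hR⟩ := Sylow.exists_subgroup_card_pow_prime p (G := centralizer ({y} : Set S)) (n := a)
    (by rw [hc]; exact dvd_mul_right _ _)
  have hi : R.index = n := by
    have h1 := R.card_mul_index
    rw [hR, hc] at h1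
    exact Nat.eq_of_mul_eq_mul_left (pow_pos hp.out.pos a) h1
  have hRp : IsPGroup p R := IsPGroup.of_card hR
  refine ⟨R.normalCore.map (centralizer ({y} : Set S)).subtype,
    NormP.of_normal _ (fun x hx => mem_centralizer_singleton_iff.2 hx.symm) _ inferInstance
      (hRp.to_le R.normalCore_le), ?_⟩
  rw [card_map_of_injective (subtype_injective _), ← hc, ← R.normalCore.card_mul_index]
  refine mul_dvd_mul_left _ ?_
  rw [normalCore_eq_ker, index_ker, ← hi, index_eq_card, ← Nat.card_perm]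
  exact card_subgroup_dvd_card _

/-- Sylow's theorem in a subgroup -/
theorem exists_conj_mem {C : Subgroup S} (hD : IsPGroup p D) (hDC : D ≤ C)
    (hmax : ∀ P : Subgroup S, IsPGroup p P → D ≤ P → P ≤ C → P ≤ D) {Y : Subgroup S} (hY : IsPGroup p Y)
    (hYC : Y ≤ C) : ∃ c ∈ C, ∀ y ∈ Y, c * y * c⁻¹ ∈ D := by
  obtain ⟨Q, hQ⟩ := (hD.comap_subtype (K := C)).exists_le_sylow
  obtain ⟨R, hR⟩ := (hY.comap_subtype (K := C)).exists_le_sylow
  obtain ⟨c, hc⟩ := MulAction.exists_smul_eq C R Q
  have h1 : (Q : Subgroup C).map C.subtype ≤ D := hmax _ (Q.isPGroup'.map _)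
    (fun d hd => ⟨⟨d, hDC hd⟩, hQ hd, rfl⟩) (map_subtype_le _)
  refine ⟨c, c.2, fun y hy => h1 ⟨c * ⟨y, hYC hy⟩ * c⁻¹, ?_, rfl⟩⟩
  rw [← hc, Sylow.coe_subgroup_smul]
  exact Subgroup.smul_mem_pointwise_smul _ (MulAut.conj c) _ (hR hy)

theorem max_of_card {C : Subgroup S} {k : ℕ} (hk : p ^ k ∣ Nat.card D) (hC : ¬ p ^ (k + 1) ∣ Nat.card C)
    (P : Subgroup S) (hP : IsPGroup p P) (hDP : D ≤ P) (hPC : P ≤ C) : P ≤ D := by
  obtain ⟨n, hn⟩ := hP.exists_card_eq
  have h1 : n ≤ k := by
    by_contra h0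
    exact hC ((pow_dvd_pow p (by omega)).trans (hn ▸ card_dvd_of_le hPC))
  refine (eq_of_le_of_card_ge hDP ?_).ge
  rw [hn]
  exact (Nat.pow_le_pow_right hp.out.pos h1).trans (Nat.le_of_dvd Nat.card_pos hk)

theorem sq_dvd_of_not_cyclic (hD : IsPGroup p D) (h : ¬ IsCyclic D) : p ^ 2 ∣ Nat.card D := by
  by_contra h0
  exact h (cyclic_of_not_sq_dvd hD h0)

theorem cube_dvd_of_not_comm (hD : IsPGroup p D) (h : ¬ IsMulCommutative D) : p ^ 3 ∣ Nat.card D := by
  by_contra h0
  exact h (comm_of_not_cube_dvd hD h0)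

/-- a solvable centralizer whose `p'`-part is small -/
theorem constr_of_solvable {y : S} (hy : ∃ k : ℕ, y ^ p ^ k = 1) (hs : Group.IsSolvable (centralizer ({y} : Set S)))
    {a k n : ℕ} (hc : Nat.card (centralizer ({y} : Set S)) = p ^ (a + k) * n) (hn : ¬ p ∣ n) (hk : n ≤ p ^ (k + 1))
    (ht : ∀ t : S, (orderOf t).Prime → orderOf t ≠ p → Commute y t → ¬ p ^ a ∣ Nat.card (centralizer ({t} : Set S))) :
    Constr p y := by
  refine Constr.of_centric hy _ (Lib.Cores.pCore_normal p) (Lib.Cores.pCore_isPGroup p)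
    (Lib.HallHigman.centralizer_pCore_le_of_solvable p ?_)
  by_contra h0
  have hN := Lib.Cores.pPrimeCore_normal (G := centralizer ({y} : Set S)) p
  have hco := Lib.Cores.pPrimeCore_coprime (G := centralizer ({y} : Set S)) p
  generalize pPrimeCore p (centralizer ({y} : Set S)) = N at h0 hN hco
  obtain ⟨q, hq, hqN⟩ := Nat.exists_prime_and_dvd (n := Nat.card N) (fun h => h0 (card_eq_one.1 h))
  have : Fact q.Prime := ⟨hq⟩
  obtain ⟨t, htq⟩ := exists_prime_orderOf_dvd_card' (G := N) q hqN
  have htq' : orderOf ((t : centralizer ({y} : Set S)) : S) = q := by rw [orderOf_coe, orderOf_coe, htq]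
  have hqp : q ≠ p := by
    rintro rfl
    exact hq.one_lt.ne' (Nat.eq_one_of_dvd_coprimes hco hqN dvd_rfl)
  have hNn : Nat.card N ∣ n := by
    have h1 := card_subgroup_dvd_card N
    rw [hc] at h1
    exact (hco.pow_right _).dvd_of_dvd_mul_left h1
  have hn0 : 0 < n := Nat.pos_of_ne_zero (by rintro rfl; exact hn (dvd_zero p))
  -- the class of `t`
  have hi : (centralizer ({(t : centralizer ({y} : Set S))} : Set (centralizer ({y} : Set S)))).index < Nat.card N := by
    rw [← card_class_eq_index]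
    let f : Option {g : centralizer ({y} : Set S) // IsConj (t : centralizer ({y} : Set S)) g} → N := fun o =>
      match o with
      | none => 1
      | some g => ⟨g.1, by
          obtain ⟨c, hc'⟩ := isConj_iff.1 g.2
          rw [← hc']
          exact hN.conj_mem _ t.2 c⟩
    have hf : Function.Injective f := by
      have h1 : ∀ g, f (some g) ≠ 1 := fun g h => by
        have h2 : g.1 = 1 := congrArg Subtype.val h
        have h3 := g.2
        rw [h2, isConj_one_left] at h3
        have h4 : t = 1 := Subtype.ext h3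
        rw [h4, orderOf_one] at htq
        exact hq.one_lt.ne htq
      rintro (_ | a) (_ | b) h
      · rfl
      · exact (h1 b h.symm).elim
      · exact (h1 a h).elim
      · have h2 : a.1 = b.1 := congrArg (fun w : N => w.1) h
        exact congrArg some (Subtype.ext h2)
    have h2 := Nat.card_le_card_of_injective f hf
    rw [Finite.card_option] at h2
    omega
  refine ht _ (htq' ▸ hq) (htq' ▸ hqp) (mem_centralizer_singleton_iff.1 (t : centralizer ({y} : Set S)).2).symm ?_
  have h3 : Nat.card (centralizer ({(t : centralizer ({y} : Set S))} : Set (centralizer ({y} : Set S)))) ∣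
      Nat.card (centralizer ({((t : centralizer ({y} : Set S)) : S)} : Set S)) := by
    rw [← card_map_of_injective (subtype_injective (centralizer ({y} : Set S)))]
    refine card_dvd_of_le ?_
    rintro _ ⟨x, hx, rfl⟩
    exact mem_centralizer_singleton_iff.2 (congrArg Subtype.val (mem_centralizer_singleton_iff.1 hx))
  refine Dvd.dvd.trans ?_ h3
  have h4 := (centralizer ({(t : centralizer ({y} : Set S))} : Set (centralizer ({y} : Set S)))).card_mul_index
  have h5 := (centralizer ({(t : centralizer ({y} : Set S))} : Set (centralizer ({y} : Set S)))).index_ne_zero_of_finite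
  generalize (centralizer ({(t : centralizer ({y} : Set S))} : Set (centralizer ({y} : Set S)))).index = i at h4 h5 hi
  generalize Nat.card (centralizer ({(t : centralizer ({y} : Set S))} : Set (centralizer ({y} : Set S)))) = c at h4
  obtain ⟨j, i', hi', rfl⟩ := Nat.exists_eq_pow_mul_and_not_dvd h5 p hp.out.one_lt.ne'
  have hj : j ≤ k := by
    by_contra h6
    have h7 : p ^ (k + 1) ≤ p ^ j * i' :=
      (Nat.pow_le_pow_right hp.out.pos (by omega)).trans (Nat.le_mul_of_pos_right _ (Nat.pos_of_ne_zero (by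
        rintro rfl; exact hi' (dvd_zero p))))
    have h8 := Nat.le_of_dvd hn0 hNn
    omega
  have h6 : p ^ a * p ^ j ∣ c * i' * p ^ j := by
    have h7 : c * i' * p ^ j = p ^ (a + k) * n := by rw [← hc, ← h4]; ring
    rw [h7, ← pow_add]
    exact (pow_dvd_pow p (by omega)).trans (dvd_mul_right _ _)
  have h7 := Nat.dvd_of_mul_dvd_mul_right (pow_pos hp.out.pos j) h6
  exact (Nat.Coprime.pow_left a ((Nat.Prime.coprime_iff_not_dvd hp.out).2 hi')).dvd_of_dvd_mul_right h7

end Cfsg.Agent.BHZ.Spor
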