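import Mathlib
import Cfsg.Agent.BHZ.Spor.CTools
import Cfsg.Agent.H138.HT.Alt

/-!
# S4806, sporadic rows: the centralizer `3² × A₆` (helper4)
-/

set_option autoImplicit false
set_option linter.unusedSectionVars false

namespace Cfsg.Agent.BHZ.Spor

open Cfsg Subgroup
open scoped commutatorElement

universe u

variable {m : ℕ} {S : Type u} [Group S] [Finite S] {E K D : Subgroup S}

/-- the local structure `C(x) = E × K`, `K ≅ A₆`, with at least five conjugates of `x` in `E` under `N(E)` -/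
structure Nine (E K : Subgroup S) : Prop where
  card : Nat.card E = 9
  iso : Nonempty (K ≃* alternatingGroup (Fin 6))
  cent : ∀ x ∈ E, x ≠ 1 → centralizer ({x} : Set S) = E ⊔ K
  trans : ∀ x ∈ E, x ≠ 1 → ∀ y ∈ E, y ≠ 1 → ∃ n ∈ normalizer (E : Set S), n * x * n⁻¹ = y

theorem Nine.comm (h : Nine E K) {x c : S} (hx : x ∈ E) (hc : c ∈ E ⊔ K) : Commute x c := by
  by_cases h1 : x = 1
  · rw [h1]
    exact Commute.one_left c
  · rw [← h.cent x hx h1] at hc
    exact (mem_centralizer_singleton_iff.1 hc).symm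

theorem Nine.pg (h : Nine E K) : IsPGroup 3 E := IsPGroup.of_card (n := 2) h.card

theorem Nine.split (h : Nine E K) {c : S} (hc : c ∈ E ⊔ K) : ∃ a ∈ E, ∃ k ∈ K, c = a * k := by
  let H : Subgroup S :=
    { carrier := {c | ∃ a ∈ E, ∃ k ∈ K, c = a * k}
      one_mem' := ⟨1, one_mem _, 1, one_mem _, (one_mul 1).symm⟩
      mul_mem' := by
        rintro _ _ ⟨a, ha, k, hk, rfl⟩ ⟨b, hb, l, hl, rfl⟩
        refine ⟨a * b, mul_mem ha hb, k * l, mul_mem hk hl, ?_⟩
        calc a * k * (b * l) = a * (k * b) * l := by group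
          _ = a * (b * k) * l := by rw [(h.comm hb (mem_sup_right hk)).eq]
          _ = _ := by group
      inv_mem' := by
        rintro _ ⟨a, ha, k, hk, rfl⟩
        refine ⟨a⁻¹, inv_mem ha, k⁻¹, inv_mem hk, ?_⟩
        rw [(h.comm ha (mem_sup_right hk)).eq, mul_inv_rev] }
  have h1 : E ⊔ K ≤ H := sup_le (fun a ha => ⟨a, ha, 1, one_mem _, (mul_one a).symm⟩)
    fun k hk => ⟨1, one_mem _, k, hk, (one_mul k).symm⟩
  exact h1 hc

theorem Nine.perf (h : Nine E K) : K ≤ ⁅K, K⁆ := by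
  obtain ⟨e⟩ := h.iso
  intro k hk
  rw [← map_subtype_commutator]
  refine ⟨⟨k, hk⟩, ?_, rfl⟩
  have h1 : (commutator (alternatingGroup (Fin 6))).map e.symm.toMonoidHom ≤ commutator K := by
    rw [commutator_def, map_commutator]
    exact commutator_mono le_top le_top
  refine h1 ⟨e ⟨k, hk⟩, ?_, e.symm_apply_apply _⟩
  rw [commutator_alternatingGroup_eq_top (by simp)]
  trivial

theorem Nine.der (h : Nine E K) : ⁅E ⊔ K, E ⊔ K⁆ = K := by
  refine le_antisymm (commutator_le.2 fun c hc d hd => ?_) (h.perf.trans (commutator_mono le_sup_right le_sup_right))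
  obtain ⟨a, ha, k, hk, rfl⟩ := h.split hc
  obtain ⟨b, hb, l, hl, rfl⟩ := h.split hd
  have h1 : ⁅a * k, b * l⁆ = ⁅k, l⁆ := by
    have h2 := h.comm ha (mul_mem (mul_mem (mem_sup_right hk) hd) (inv_mem (mem_sup_right hk)))
    have h3 := h.comm hb (mem_sup_right hk)
    have h4 := h.comm hb (mem_sup_right (mul_mem (mul_mem (mul_mem hk hl) (inv_mem hk)) (inv_mem hl)))
    calc ⁅a * k, b * l⁆ = a * (k * (b * l) * k⁻¹) * a⁻¹ * (b * l)⁻¹ := by rw [commutatorElement_def]; group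
      _ = (k * b) * l * k⁻¹ * l⁻¹ * b⁻¹ := by rw [h2.eq]; group
      _ = b * (k * l * k⁻¹ * l⁻¹) * b⁻¹ := by rw [← h3.eq]; group
      _ = ⁅k, l⁆ := by rw [h4.eq, commutatorElement_def]; group
  rw [h1, commutatorElement_def]
  exact mul_mem (mul_mem (mul_mem hk hl) (inv_mem hk)) (inv_mem hl)

theorem Nine.reg (h : Nine E K) {c : S} (hc : c ∈ E ⊔ K) (hr : ¬ 3 ∣ orderOf c) : c ∈ K := by
  obtain ⟨a, ha, k, hk, rfl⟩ := h.split hc
  have h1 : a ^ 9 = 1 := by
    have h2 := pow_card_eq_one' (x := (⟨a, ha⟩ : E))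
    rw [h.card] at h2
    exact congrArg Subtype.val h2
  have h2 : (a * k) ^ 9 ∈ K := by
    rw [(h.comm ha (mem_sup_right hk)).mul_pow, h1, one_mul]
    exact pow_mem hk 9
  have h3 : (9 : ℕ).Coprime (orderOf (a * k)) :=
    Nat.Coprime.pow_left 2 ((Nat.Prime.coprime_iff_not_dvd Nat.prime_three).2 hr)
  obtain ⟨n, hn⟩ := exists_pow_eq_self_of_coprime h3
  rw [← hn]
  exact pow_mem h2 n

theorem Nine.exists_ne (h : Nine E K) : ∃ x ∈ E, x ≠ 1 := by
  by_contra h0
  push Not at h0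
  have h1 := h.card
  rw [(eq_bot_iff_forall E).2 h0, card_bot] at h1
  norm_num at h1

theorem Nine.norm_le (h : Nine E K) : normalizer (E : Set S) ≤ normalizer (K : Set S) := by
  intro n hn
  obtain ⟨x, hx, hx1⟩ := h.exists_ne
  have h1 : (E ⊔ K).map (MulAut.conj n).toMonoidHom ≤ E ⊔ K := by
    rintro _ ⟨c, hc, rfl⟩
    rw [← h.cent x hx hx1, mem_centralizer_singleton_iff]
    have h2 := (h.comm ((mem_normalizer_iff.1 (inv_mem hn) x).1 hx) hc).map (MulAut.conj n)
    simpa [mul_assoc] using h2.symm.eq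
  refine mem_normalizer_fintype fun k hk => ?_
  rw [← h.der] at hk ⊢
  have h2 : ⁅E ⊔ K, E ⊔ K⁆.map (MulAut.conj n).toMonoidHom ≤ ⁅E ⊔ K, E ⊔ K⁆ := by
    rw [map_commutator]
    exact commutator_mono h1 h1
  exact h2 ⟨k, hk, rfl⟩

/-- an element of `N(E)` centralizing `K` and not `E` -/
theorem Nine.exists_mover (h : Nine E K) :
    ∃ n ∈ normalizer (E : Set S), (∀ k ∈ K, Commute n k) ∧ n ∉ E ⊔ K := by
  by_contra h0
  push Not at h0
  obtain ⟨e⟩ := h.iso
  obtain ⟨x, hx, hx1⟩ := h.exists_ne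
  let ψ : normalizer (E : Set S) →* MulAut K := K.normalizerMonoidHom.comp (inclusion h.norm_le)
  have hψ : ∀ (n : normalizer (E : Set S)) (k : K), (ψ n k : S) = n * k * (n : S)⁻¹ := fun n k => rfl
  let C : Subgroup (normalizer (E : Set S)) := (E ⊔ K).subgroupOf _
  have hker : ψ.ker ≤ C := fun n hn => h0 n n.2 fun k hk => by
    have h1 := hψ n ⟨k, hk⟩
    rw [MonoidHom.mem_ker.1 hn] at h1
    exact mul_inv_eq_iff_eq_mul.1 h1.symm
  have hfin : Finite (MulAut K) := Finite.of_injective (fun σ => (σ : K → K)) DFunLike.coe_injective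
  have h1 : Nat.card (MulAut K) ≤ 1440 := by
    rw [Nat.card_congr (MulAut.congr e).toEquiv]
    exact H138.HT.card_aut_six
  have h2 : 360 ≤ Nat.card (C.map ψ) := by
    have hK : Nat.card K = 360 := by
      rw [Nat.card_congr e.toEquiv, nat_card_alternatingGroup, Nat.card_fin]
      decide
    have hKN : ∀ k ∈ K, k ∈ normalizer (E : Set S) := fun k hk => mem_normalizer_fintype fun a ha => by
      rw [← (h.comm ha (mem_sup_right hk)).eq, mul_inv_cancel_right]
      exact ha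
    rw [← hK]
    refine Nat.card_le_card_of_injective
      (fun k : K => (⟨ψ ⟨k, hKN k k.2⟩, ⟨k, hKN k k.2⟩, mem_sup_right k.2, rfl⟩ : C.map ψ)) fun k l hkl => ?_
    have h3 : ψ ⟨k, hKN k k.2⟩ = ψ ⟨l, hKN l l.2⟩ := congrArg Subtype.val hkl
    have h4 : e (l⁻¹ * k) ∈ center (alternatingGroup (Fin 6)) := mem_center_iff.2 fun g => by
      obtain ⟨g, rfl⟩ := e.surjective g
      rw [← map_mul, ← map_mul]
      congr 1
      apply Subtype.ext
      have h5 : (k : S) * g * (k : S)⁻¹ = l * g * (l : S)⁻¹ := by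
        rw [← hψ ⟨k, hKN k k.2⟩ g, h3, hψ]
      change (g : S) * ((l : S)⁻¹ * k) = (l : S)⁻¹ * k * g
      calc (g : S) * ((l : S)⁻¹ * k) = (l : S)⁻¹ * (l * g * (l : S)⁻¹) * k := by group
        _ = _ := by rw [← h5]; group
    rw [alternatingGroup.center_eq_bot (by simp), mem_bot, map_eq_one_iff _ e.injective, inv_mul_eq_one] at h4
    exact h4.symm
  have h3 : 8 ≤ C.index := by
    choose f hf1 hf2 using fun y : {y : E // y ≠ 1} => h.trans x hx hx1 y.1 y.1.2 fun h5 => y.2 (Subtype.ext h5)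
    have h4 : Nat.card {y : E // y ≠ 1} = 8 := by
      classical
      have := Fintype.ofFinite E
      rw [Nat.card_eq_fintype_card, Fintype.card_subtype_compl, Fintype.card_subtype_eq, ← Nat.card_eq_fintype_card,
        h.card]
    rw [← h4, index_eq_card]
    refine Nat.card_le_card_of_injective (fun y => ((⟨f y, hf1 y⟩ : normalizer (E : Set S)) : _ ⧸ C)) fun y z hyz => ?_
    have h5 : (f y)⁻¹ * f z ∈ E ⊔ K :=
      (QuotientGroup.eq (s := C) (a := ⟨f y, hf1 y⟩) (b := ⟨f z, hf1 z⟩)).1 hyz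
    have h6 := (h.comm hx h5).eq
    refine Subtype.ext (Subtype.ext ?_)
    rw [← hf2 y, ← hf2 z]
    calc f y * x * (f y)⁻¹ = f y * (x * ((f y)⁻¹ * f z)) * (f z)⁻¹ := by group
      _ = _ := by rw [h6]; group
  have h4 := (C.map ψ).card_mul_index
  rw [index_map, sup_eq_left.2 hker] at h4
  have h5 := Nat.pos_of_ne_zero (ψ.range.index_ne_zero_of_finite)
  have h6 : 360 * (8 * 1) ≤ Nat.card (C.map ψ) * (C.index * ψ.range.index) :=
    Nat.mul_le_mul h2 (Nat.mul_le_mul h3 h5)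
  omega

theorem Nine.false_of_le (h : Nine E K) (hD : Loc 3 m D) (hle : E ≤ D) : False := by
  have h3 : Fact (Nat.Prime 3) := ⟨Nat.prime_three⟩
  obtain ⟨x, hx, hx1⟩ := h.exists_ne
  obtain ⟨n, hn, hnK, hnC⟩ := h.exists_mover
  obtain ⟨a, b, ha, hb, rfl, ⟨k, hk⟩, hbr⟩ := exists_parts (p := 3) n
  have haN := zpowers_le.2 hn ha
  have hbN := zpowers_le.2 hn hb
  have hN : ∀ c ∈ normalizer (E : Set S), ∀ u ∈ E, c * u * c⁻¹ ∈ E := fun c hc u hu => (mem_normalizer_iff.1 hc u).1 hu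
  have hA : zpowers a ⊔ E ≤ normalizer (E : Set S) := sup_le (zpowers_le.2 haN) le_normalizer
  obtain ⟨y, hy, hy3, hya⟩ := exists_central (isPGroup_sup (isPGroup_zpowers hk) h.pg
    fun c hc => hN c (zpowers_le.2 haN hc)) (N := E) (fun h0 => hx1 (by rwa [h0, mem_bot] at hx)) le_sup_right
    fun d hd => hN d (hA hd)
  refine hnC (mul_mem ?_ ?_)
  · rw [← h.cent y hy (ne_one_of_order hy3)]
    exact mem_centralizer_singleton_iff.2 (hya a (mem_sup_left (mem_zpowers a))).symm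
  · rw [← h.cent x hx hx1]
    refine mem_centralizer_singleton_iff.2 (hD.fus E hle b (hN b hbN) hbr (fun r hr1 hr2 => ?_) x hx).symm
    refine Tr.of_mem_commutator (K := K) (fun k hk => commute_of_mem_zpowers (hnK k hk) hb) (h.perf (h.reg ?_ hr2))
    rw [← h.cent x hx hx1]
    exact mem_centralizer_singleton_iff.2 (hr1 x hx).symm

theorem Nine.cycAt (h : Nine E K) {y : S} (hy : y ∈ E) (hy1 : y ≠ 1) : CycAt 3 m y := by
  intro D hD h1 h2
  refine (h.false_of_le hD (hD.le_of_cent h1 h2 h.pg fun c hc u hu => ?_)).elim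
  have h3 : c ∈ E ⊔ K := by
    rw [← h.cent y hy hy1]
    exact mem_centralizer_singleton_iff.2 hc.symm
  rw [← (h.comm hu h3).eq, mul_inv_cancel_right]
  exact hu

end Cfsg.Agent.BHZ.Spor
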