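import Mathlib
import Cfsg.Agent.BHZ.Spor.Nine
import Cfsg.Agent.TID.Suz.Grp
import Cfsg.Agent.H811.SuzCov
import Cfsg.Agent.H811.PsuH
import Cfsg.Agent.H400.LieLocal
import Cfsg.Agent.H711.LieNN
import Cfsg.Agent.H711.SuzRow
import Cfsg.Agent.H709.OnPSU
import Cfsg.Agent.KFacts.SuzSheet
import Cfsg.Agent.S0144

/-!
# S4806, the sporadic row `Suz`, `p = 3` (helper4)
-/

set_option autoImplicit false
set_option maxRecDepth 100000

namespace Cfsg.Agent.BHZ.Spor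

open Cfsg Subgroup

/-- no nontrivial group `D` in `PSU₄(3)` -/
theorem eq_bot_psu43 {m : ℕ} {F : Type} [Field F] [Fintype F] (hF : Fintype.card F = 9) {T : Type*} [Group T] [Finite T]
    (e : T ≃* PSU 4 F 3) (E : Subgroup T) (h : Loc 3 m E) : E = ⊥ := by
  have h3 : Fact (Nat.Prime 3) := ⟨Nat.prime_three⟩
  have hc : CharP F 3 := by
    obtain ⟨p, hp⟩ := CharP.exists F
    obtain ⟨n, hpp, hn⟩ := FiniteField.card F p
    have h1 : p ∣ 3 ^ 2 := by
      rw [show 3 ^ 2 = Fintype.card F from hF.symm, hn]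
      exact dvd_pow_self p n.ne_zero
    rwa [(Nat.prime_dvd_prime_iff_eq hpp Nat.prime_three).1 (hpp.dvd_of_dvd_pow h1)] at hp
  exact h.eq_bot_of_locChar (H400.LieLocal.local_char_of_lie
    (Or.inr (Or.inr (Or.inl ⟨F, inferInstance, inferInstance, hc, 4, 3, hF, by norm_num, by norm_num, ⟨e⟩⟩)))
    fun h0 => absurd h0.1 (by norm_num))
    ((H711.LieNN.nn_psu4 hF (H709.OnPSU.center_PSU (q := 3) hF (by norm_num) (by norm_num))).congr e.symm)

namespace Suz3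

open Cfsg.Spor Cfsg.Agent.TID.Suz Cfsg.Agent.H714.S8.SuzFam Cfsg.Agent.H123.Cls.SuzDat
open Cfsg.Agent.SuzThree.ThreeWr (y0)
open Cfsg.Agent.SuzThree.CentA (z0)
open Cfsg.Agent.KFacts.SuzLFour (e0 e0_comm)
open Cfsg.Agent.PreUniq.Spor.SuzP (E E_le_L)
open Cfsg.Agent.CpAutSuz.Classes (exists_conj_inv conj_of_z0 conj_of_e0 z1 t1)

theorem nine : Nine E K0 := ⟨loc9.card, loc9.iso, loc9.cent, loc9.trans⟩

theorem exists_x : ∃ x ∈ E, x ≠ 1 ∧ orderOf x = 3 ∧ fam x = 6 := by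
  have := finite_Suz
  have h3 : Fact (Nat.Prime 3) := ⟨Nat.prime_three⟩
  obtain ⟨x, hx, hx1⟩ := nine.exists_ne
  have h := orderOf_eq_prime (CpAutSuz.ThreeC.cube_E hx) hx1
  exact ⟨x, hx, hx1, h, fam_of_card h (CpAutSuz.ThreeC.card_centralizer hx hx1)⟩

theorem fam_y0 : fam y0 = 36 := by
  have := finite_Suz
  obtain ⟨g, hg, -⟩ := H811.SuzCov.cov
  have h7 := LThreeCo1Twelve.Ord.seven.trans (card_dvd_of_surjective g hg)
  have h1 := cent_mul y0
  rcases fam_three CpAutSuz.Local.orderOf_y0 with h | h | h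
  · rw [h, show SZ.getD 4 0 = 12812800 from rfl] at h1
    omega
  · rw [h, show SZ.getD 6 0 = 138378240 from rfl] at h1
    omega
  · exact h

theorem cyc_y0 {m : ℕ} : CycAt 3 m y0 := by
  have := finite_Suz
  have h3 : Fact (Nat.Prime 3) := ⟨Nat.prime_three⟩
  obtain ⟨g, hg, hk⟩ := H811.SuzCov.cov
  obtain ⟨F, _, _, hF, ⟨e⟩⟩ := H811.PsuH.psu
  have : Finite LThreeCo1Twelve.Gam.H := Finite.of_surjective g hg
  exact cycAt_of_descend g hg (fun n hn => (hk n).1 hn) (eq_bot_psu43 hF e)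

theorem conj_z1 {y : Suz} (h : fam y = 4) : IsConj z1 y := by
  have := finite_Suz
  have h3 : Fact (Nat.Prime 3) := ⟨Nat.prime_three⟩
  have h2 : Fact (Nat.Prime 2) := ⟨Nat.prime_two⟩
  have hy : orderOf y = 3 := by
    refine orderOf_eq_prime (fam_eq_one.1 ?_) fun h0 => ?_
    · rw [fam_cu, h]
      rfl
    · rw [h0, fam_one] at h
      norm_num at h
  have h1 := cent_mul y
  rw [h, show SZ.getD 4 0 = 12812800 from rfl] at h1
  obtain ⟨t, ht⟩ := exists_prime_orderOf_dvd_card' (G := centralizer ({y} : Set Suz)) 2 (by omega)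
  have hc : Commute (t : Suz) y := mem_centralizer_singleton_iff.1 t.2
  rw [← orderOf_coe] at ht
  have key : ∀ g s : Suz, g * s * g⁻¹ = t → g⁻¹ * y * g⁻¹⁻¹ * s = s * (g⁻¹ * y * g⁻¹⁻¹) := fun g s hg => by
    have h4 := (hc.map (MulAut.conj g⁻¹)).symm.eq
    rw [← hg] at h4
    simpa [mul_assoc] using h4
  rcases exists_conj_inv ht with ⟨g, hg⟩ | ⟨g, hg⟩
  · rcases conj_of_z0 (((MulAut.conj g⁻¹).orderOf_eq y).trans hy) (key g _ hg) with ⟨c, hc'⟩ | ⟨c, hc'⟩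
    · exfalso
      have h4 := fam_y0
      rw [← hc', fam_cj, MulAut.conj_apply, fam_cj, h] at h4
      norm_num at h4
    · exact ((isConj_iff.2 ⟨g⁻¹, rfl⟩).trans (isConj_iff.2 ⟨c, hc'⟩)).symm
  · exfalso
    obtain ⟨c, hc'⟩ := conj_of_e0 (((MulAut.conj g⁻¹).orderOf_eq y).trans hy) (key g _ hg)
    obtain ⟨x, hx, -, hx3, hx6⟩ := exists_x
    obtain ⟨d, hd⟩ := conj_of_e0 hx3 (e0_comm x (E_le_L hx)).symm
    have h4 := fam_cj d x
    rw [hd, ← hc', fam_cj, MulAut.conj_apply, fam_cj, h, hx6] at h4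
    norm_num at h4

theorem card_four {y : Suz} (h : fam y = 4) : Nat.card (centralizer ({y} : Set Suz)) = 3 ^ (5 + 2) * 16 := by
  have h1 := cls_mul y
  have h2 : {w : Suz | IsConj y w} = {w : Suz | fam w = 4} := by
    ext w
    exact ⟨fun hw => (fam_isConj hw).trans h, fun hw => (conj_z1 h).symm.trans (conj_z1 hw)⟩
  rw [h2, fam_ncard, show SZ.getD 4 0 = 12812800 from rfl] at h1
  omega

theorem constr_four {y : Suz} (hy : orderOf y = 3) (h : fam y = 4) : Constr 3 y := by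
  have := finite_Suz
  have h3 : Fact (Nat.Prime 3) := ⟨Nat.prime_three⟩
  refine constr_of_solvable (pelt_of_order hy) (S0144.result 3 2 7 4 Nat.prime_three Nat.prime_two (card_four h))
    (card_four h) (by norm_num) (by norm_num) fun t h1 h2 h4 => ?_
  have h5 : orderOf t ∣ 3 ^ (5 + 2) * 2 ^ 4 := by
    have h6 := orderOf_dvd_natCard (⟨t, mem_centralizer_singleton_iff.2 h4.symm⟩ : centralizer ({y} : Set Suz))
    rwa [card_four h, ← orderOf_coe] at h6
  have h6 : orderOf t = 2 := by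
    rcases (Nat.Prime.dvd_mul h1).1 h5 with h6 | h6
    · exact absurd ((Nat.prime_dvd_prime_iff_eq h1 Nat.prime_three).1 (h1.dvd_of_dvd_pow h6)) h2
    · exact (Nat.prime_dvd_prime_iff_eq h1 Nat.prime_two).1 (h1.dvd_of_dvd_pow h6)
  rcases exists_conj_inv h6 with ⟨g, hg⟩ | ⟨g, hg⟩
  · rw [← card_cent_of_conj (isConj_iff.2 ⟨g, hg⟩)]
    have h7 : Nat.card (centralizer ({z0} : Set Suz)) = 3317760 := KFacts.SuzCent.card_C1
    rw [h7]
    norm_num
  · rw [← card_cent_of_conj (isConj_iff.2 ⟨g, hg⟩)]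
    have h7 : Nat.card (centralizer ({e0} : Set Suz)) = 161280 := KFacts.SuzTwoB.card_CE
    rw [h7]
    norm_num

theorem model {m : ℕ} : RowCyc 3 m Suz := by
  have := finite_Suz
  have h3 : Fact (Nat.Prime 3) := ⟨Nat.prime_three⟩
  refine rowCyc_of_cycAt fun y hy => ?_
  rcases fam_three hy with h | h | h
  · exact (constr_four hy h).cycAt H711.SuzRow.nn_suz
  · obtain ⟨x, hx, hx1, -, hx6⟩ := exists_x
    obtain ⟨σ, hσ, -⟩ := fam_gal x y (hx6.trans h.symm)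
    rw [← hσ]
    exact (nine.cycAt hx hx1).congr σ
  · obtain ⟨σ, hσ, -⟩ := fam_gal y0 y (fam_y0.trans h.symm)
    rw [← hσ]
    exact cyc_y0.congr σ

end Suz3

theorem suz_3_gen {m : ℕ} (S : Type) [Group S] [Finite S] (h : Spor.IsoSuz S) : RowCyc 3 m S := by
  obtain ⟨e⟩ := h
  have h3 : Fact (Nat.Prime 3) := ⟨Nat.prime_three⟩
  exact Suz3.model.congr e.symm

theorem suz_3 : ∀ (S : Type) [Group S] [Finite S], Spor.IsoSuz S → RowCyc 3 2 S :=
  fun S _ _ h => suz_3_gen S h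

end Cfsg.Agent.BHZ.Spor
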