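import Mathlib
import Cfsg.Agent.BHZ.Spor.CTools
import Cfsg.Agent.BHZ.Spor.Tools
import Cfsg.Agent.LThreeCo1Six.NoComp

/-!
# S4806, sporadic rows: `3`-constraint from a normal `{2, 3}`-subgroup (helper4)
-/

set_option autoImplicit false
set_option linter.unusedSectionVars false

namespace Cfsg.Agent.BHZ.Spor

open Cfsg Subgroup

universe u

variable {H : Type u} [Group H] [Finite H]

/-- the elements of a normal `{2, 3}`-subgroup centralizing `O₃(H)` -/
theorem mem_core_of_two_three (h2 : pCore 2 H = ⊥) {N : Subgroup H} (hN : N.Normal)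
    (h5 : ∀ n ∈ N, (orderOf n).Prime → orderOf n < 5) {n : H} (hn : n ∈ N) (hc : ∀ u ∈ pCore 3 H, Commute u n) :
    n ∈ pCore 3 H := by
  have h3 : Fact (Nat.Prime 3) := ⟨Nat.prime_three⟩
  have h2' : Fact (Nat.Prime 2) := ⟨Nat.prime_two⟩
  have h5' : ∀ r : ℕ, r.Prime → 5 ≤ r → ∀ y : N, orderOf y ≠ r := fun r hr h y hy => by
    have h1 : orderOf (y : H) = r := by rw [orderOf_coe, hy]
    have := h5 y y.2 (h1 ▸ hr)
    omega
  have hs := LThreeCo1Six.Abs.isSolvable_of_primes h5'
  have hb : pPrimeCore 3 N = ⊥ := by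
    have hch := Lib.Cores.pPrimeCore_characteristic (G := N) 3
    have hco := Lib.Cores.pPrimeCore_coprime (G := N) 3
    have hp : IsPGroup 2 (pPrimeCore 3 N) := by
      refine IsPGroup.of_card (Nat.eq_prime_pow_of_unique_prime_dvd Nat.card_pos.ne' fun {q} hq hd => ?_)
      have : Fact q.Prime := ⟨hq⟩
      obtain ⟨w, hw⟩ := exists_prime_orderOf_dvd_card' q hd
      have h6 : q < 5 := by
        by_contra h0
        exact h5' q hq (by omega) w (by rw [orderOf_coe, hw])
      have h7 : q ≠ 3 := by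
        rintro rfl
        exact absurd (Nat.eq_one_of_dvd_coprimes hco hd dvd_rfl) (by norm_num)
      interval_cases q <;> first | rfl | omega | exact absurd hq (by norm_num)
    have h8 : (pPrimeCore 3 N).map N.subtype ≤ pCore 2 H := Lib.Cores.le_pCore inferInstance (hp.map _)
    rwa [h2, le_bot_iff, map_eq_bot_iff_of_injective _ (subtype_injective N)] at h8
  have hle : (pCore 3 N).map N.subtype ≤ pCore 3 H := by
    have hch := Lib.Cores.pCore_characteristic (G := N) 3
    exact Lib.Cores.le_pCore inferInstance ((Lib.Cores.pCore_isPGroup 3).map _)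
  exact hle ⟨⟨n, hn⟩, Lib.HallHigman.centralizer_pCore_le_of_solvable 3 hb
    (mem_centralizer_iff.2 fun u hu => Subtype.ext (hc u (hle ⟨u, hu, rfl⟩))), rfl⟩

/-- `O₂(H) = 1`, and a normal subgroup `N` such that `N` and `C(N)` are `{2, 3}`-groups -/
theorem reg_eq_one_of_two_three (h2 : pCore 2 H = ⊥) {N : Subgroup H} (hN : N.Normal)
    (h5 : ∀ n ∈ N, (orderOf n).Prime → orderOf n < 5)
    (h5' : ∀ r : H, (∀ n ∈ N, Commute n r) → (orderOf r).Prime → orderOf r < 5) (r : H)
    (hc : ∀ u ∈ pCore 3 H, Commute u r) (hr : ¬ 3 ∣ orderOf r) : r = 1 := by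
  have h3 : Fact (Nat.Prime 3) := ⟨Nat.prime_three⟩
  have hU := Lib.Cores.pCore_normal (G := H) 3
  have h1 : ∀ n ∈ N, Commute n r := fun n hn => by
    have hcN : r * n * r⁻¹ * n⁻¹ ∈ N := N.mul_mem (hN.conj_mem n hn r) (N.inv_mem hn)
    have hcU := mem_core_of_two_three h2 hN h5 hcN fun u hu => by
      have h4 := hc _ (hU.conj_mem u hu n⁻¹)
      have h6 : Commute u (n * r⁻¹ * n⁻¹) := by
        have := h4.inv_right.map (MulAut.conj n)
        simpa [mul_assoc] using this
      have := (hc u hu).mul_right h6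
      simpa [mul_assoc] using this
    have h4 := hc _ hcU
    generalize hc' : r * n * r⁻¹ * n⁻¹ = c at h4 hcU
    have h6 : ∀ k : ℕ, r ^ k * n = c ^ k * n * r ^ k := fun k => by
      induction k with
      | zero => simp
      | succ k ih =>
        calc r ^ (k + 1) * n = r * (r ^ k * n) := by rw [pow_succ', mul_assoc]
          _ = (r * c ^ k) * n * r ^ k := by rw [ih]; group
          _ = c ^ k * (r * n * r⁻¹ * n⁻¹) * n * (r * r ^ k) := by rw [← (h4.pow_left k).eq]; group
          _ = c ^ (k + 1) * n * r ^ (k + 1) := by rw [hc', pow_succ, pow_succ' r]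
    have h7 := h6 (orderOf r)
    rw [pow_orderOf_eq_one, one_mul, mul_one] at h7
    obtain ⟨k, hk⟩ := pelt_of_mem (Lib.Cores.pCore_isPGroup 3) hcU
    have h8 : c = 1 := eq_one_of_reg (p := 3) (not_dvd_of_pow hr (by simpa using h7.symm)) hk
    rw [h8, mul_inv_eq_one, mul_inv_eq_iff_eq_mul] at hc'
    exact hc'.symm
  obtain ⟨k, hk⟩ := pelt_of_mem (Lib.Cores.pCore_isPGroup 3) (mem_core_of_two_three h2
    (N := centralizer (N : Set H)) inferInstance (fun w hw => h5' w fun n hn => mem_centralizer_iff.1 hw n hn)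
    (mem_centralizer_iff.2 h1) hc)
  exact eq_one_of_reg hr hk

theorem constr_of_two_three {y : H} (hy : orderOf y = 3) (h2 : pCore 2 (centralizer ({y} : Set H)) = ⊥)
    {N : Subgroup (centralizer ({y} : Set H))} (hN : N.Normal)
    (h5 : ∀ n ∈ N, (orderOf n).Prime → orderOf n < 5)
    (h5' : ∀ r, (∀ n ∈ N, Commute n r) → (orderOf r).Prime → orderOf r < 5) : Constr 3 y :=
  have h3 : Fact (Nat.Prime 3) := ⟨Nat.prime_three⟩
  Constr.of_normal (pelt_of_order hy) _ (Lib.Cores.pCore_normal 3) (Lib.Cores.pCore_isPGroup 3)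
    (reg_eq_one_of_two_three h2 hN h5 h5')

end Cfsg.Agent.BHZ.Spor
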