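import Mathlib
import Cfsg.Agent.BHZ.Spor.Cons23
import Cfsg.Agent.BHZ.Spor.ToolsB
import Cfsg.Agent.BHZ.Spor.RowSuz3
import Cfsg.Agent.TID.SO.LeechA
import Cfsg.Agent.LThreeMB.CoOneFin
import Cfsg.Agent.H898.WkCo1
import Cfsg.Agent.H711.RowsA
import Cfsg.Agent.S0892

/-!
# S4806, the sporadic row `Co1`, `p = 3` (helper4)
-/

set_option autoImplicit false

namespace Cfsg.Agent.BHZ.Spor

open Cfsg Subgroup
open scoped commutatorElement

namespace Co13

open Cfsg.Spor (Co1)
open Cfsg.Agent.LThreeMB (fr XX Zx)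
open Cfsg.Agent.LThreeMB.CoOneFin (coOne)
open Cfsg.Agent.PreUniqCo.Rows (exists_lift commute_lift center_sq)
open Module Cfsg.Agent.SigZeroCo2.Rank Cfsg.Agent.SigZeroCo2.Lin

theorem ab_zero [Finite Co1] {y : Co1} (hy : orderOf y = 3) (h : fr y = 1) : AbAt 3 2 y := by
  have h3 : Fact (Nat.Prime 3) := ⟨Nat.prime_three⟩
  obtain ⟨φ, hs, hk⟩ := exists_hom_of_XX (MulEquiv.refl (XX y))
  exact abAt_of_descend φ hs (fun n hn => (hk n).1 hn) (suz_3_gen _ (coOne.suz y hy h))

theorem not_deep_eight [Finite Co1] {y : Co1} (hy : orderOf y = 3) (e : XX y ≃* alternatingGroup (Fin 9)) :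
    y ∉ ⁅centralizer ({y} : Set Co1), centralizer ({y} : Set Co1)⁆ := by
  intro h
  rw [← map_subtype_commutator] at h
  obtain ⟨w, hw, hwy⟩ := h
  have h1 : w = LThreeMB.self y := Subtype.ext hwy
  have h2 := S0892.result 9 (by norm_num) (by norm_num) (by norm_num) (Zx y)
    (zpowers_le.2 (mem_center_iff.2 fun g => Subtype.ext (mem_centralizer_singleton_iff.1 g.2)))
    (zpowers_le.2 (h1 ▸ hw)) e
  rw [Zx, Nat.card_zpowers, ← orderOf_coe] at h2
  change orderOf y ≤ 2 at h2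
  omega

open Cfsg.Agent.LThreeCo1Twelve in
theorem ab_twelve [Finite Co1] : AbAt 3 2 Cent.s := by
  have h3 : Fact (Nat.Prime 3) := ⟨Nat.prime_three⟩
  intro D hD hs hsD
  have hx3 : Cent.x ^ 3 ^ 1 = 1 := by rw [pow_one, pow_succ', pow_two]; exact Cent.x3
  have hx : Cent.x ∈ D := hD.le_of_cent hs hsD (isPGroup_zpowers hx3) (fun c hc u hu => by
    obtain ⟨k, rfl⟩ := hu
    change c * Cent.x ^ k * c⁻¹ ∈ _
    rw [← conj_zpow]
    rcases Cent.cases hc.symm with h | h <;> rw [h]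
    · exact zpow_mem (mem_zpowers _) k
    · exact zpow_mem (inv_mem (mem_zpowers _)) k) (mem_zpowers _)
  have hxD : ∀ d ∈ D, Commute Cent.x d := fun d hd => by
    obtain ⟨k, hk⟩ := hD.pelt hd
    have h1 : Commute (d ^ 2) Cent.x := by
      rw [pow_two, Commute, SemiconjBy, ← mul_inv_eq_iff_eq_mul, mul_inv_rev]
      calc d * d * Cent.x * (d⁻¹ * d⁻¹) = d * (d * Cent.x * d⁻¹) * d⁻¹ := by group
        _ = Cent.x := by
          rcases Cent.cases (hsD d hd).symm with h | h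
          · rw [h, h]
          · rw [h, ← conj_inv, h, inv_inv]
    have h2 : d ∈ zpowers (d ^ 2) := mem_zpowers_pow_iff.2 (Nat.Coprime.coprime_dvd_right
      (orderOf_dvd_of_pow_eq_one hk) (Nat.Coprime.pow_right k (by norm_num)))
    exact (commute_of_mem_zpowers h1 h2).symm
  have h0 : LThreeCo1.FourCo1.X 0 = (QuotientGroup.mk (LThreeCo1.Rel.e 1) : Co1) := by
    rw [Gam.X0_eq, Ord.re (i := 1) rfl]
    rfl
  refine ab_zero LThreeMB.NegRoot.order_one LThreeMB.NegRoot.fr_one D hD ?_ fun d hd => ?_ <;> rw [← h0, Cent.X0_def]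
  · exact mul_mem (mul_mem hs hx) (mul_mem hs hx)
  · exact ((hsD d hd).mul_left (hxD d hd)).mul_left ((hsD d hd).mul_left (hxD d hd))

theorem ord_of_dim {g : Co0} (h3 : g ^ 3 = 1) (hd : finrank ℚ (fix (rep g)) = 12) : orderOf g = 3 := by
  have : Fact (Nat.Prime 3) := ⟨Nat.prime_three⟩
  refine orderOf_eq_prime h3 fun h => ?_
  rw [h, map_one] at hd
  have h2 : fix (1 : Module.End ℚ Sp) = ⊤ := eq_top_iff.2 fun v _ => mem_fix.2 rfl
  rw [h2, finrank_top, Module.finrank_fintype_fun_eq_card] at hd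
  have h3 : Fintype.card GolayPt = 24 := rfl
  omega

open Cfsg.Agent.LThreeCo1Six Cfsg.Agent.LThreeCo1Six.Data in
theorem constr_six [Finite Co1] : Constr 3 (QuotientGroup.mk x : Co1) := by
  have h3 : Fact (Nat.Prime 3) := ⟨Nat.prime_three⟩
  have hx := TID.SO.order_mk (by norm_num) Main.orderOf_x
  let φ : centralizer ({x} : Set Co0) →* centralizer ({(QuotientGroup.mk x : Co1)} : Set Co1) :=
    ((QuotientGroup.mk' (center Co0)).comp (Subgroup.subtype _)).codRestrict _ fun g =>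
      mem_centralizer_singleton_iff.2 ((show Commute (g : Co0) x from mem_centralizer_singleton_iff.1 g.2).map
        (QuotientGroup.mk' (center Co0)))
  have hφ : ∀ g, (φ g : Co1) = QuotientGroup.mk (g : Co0) := fun g => rfl
  have hs : Function.Surjective φ := fun c => by
    obtain ⟨g, hg⟩ := QuotientGroup.mk_surjective (c : Co1)
    have h1 : Commute g x := commute_lift (n := 3) (by decide) Main.orderOf_x (by
      rw [hg]; exact mem_centralizer_singleton_iff.1 c.2)
    exact ⟨⟨g, mem_centralizer_singleton_iff.2 h1⟩, Subtype.ext hg⟩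
  refine constr_of_two_three hx (H898.WkCo1.three hx) ((Main.NN_normal x).map φ hs) ?_ fun r hr hp => ?_
  · rintro _ ⟨g, hg, rfl⟩ hp
    by_contra h0
    have hF : Fact (orderOf (φ g)).Prime := ⟨hp⟩
    have h1 : ((g ^ 2 : centralizer ({x} : Set Co0)) : Co0) ^ orderOf (φ g) = 1 := by
      rw [coe_pow, ← pow_mul, mul_comm, pow_mul]
      refine center_sq ((QuotientGroup.eq_one_iff _).1 ?_)
      rw [← coe_pow, ← hφ, map_pow, pow_orderOf_eq_one]
      rfl
    refine Ker.not_trivial x3 dx reg (mem_centralizer_singleton_iff.1 (g ^ 2).2).symm hp (by omega)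
      (orderOf_eq_prime h1 fun h => ?_) ((Main.NN x).pow_mem hg 2)
    have h2 : φ g ^ 2 = 1 := by rw [← map_pow, show g ^ 2 = 1 from Subtype.ext h, map_one]
    have := Nat.le_of_dvd (by norm_num) (orderOf_dvd_of_pow_eq_one h2)
    omega
  · by_contra h0
    have hodd : Odd (orderOf r) := hp.odd_of_ne_two (by omega)
    obtain ⟨r', h1, h2⟩ := exists_lift (r : Co1) hodd (orderOf_coe r)
    have h4 : ∀ g : centralizer ({x} : Set Co0), g ∈ Main.NN x → Commute (g : Co0) r' := fun g hg =>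
      commute_lift hodd h2 (by rw [h1]; exact congrArg Subtype.val (hr _ ⟨g, hg, rfl⟩).eq)
    have h5 := PreUniqCo.LatCo.exists_free PreUniqCo.Facts.facts hp (by omega) (ord_of_dim s3 ds) (ord_of_dim t3 dt)
      (ord_of_dim (by rw [st.mul_pow, s3, t3, one_mul]) dst)
      (ord_of_dim (by rw [(st.pow_right 2).mul_pow, s3, ← pow_mul, mul_comm 2, pow_mul, t3, one_pow, one_mul]) dst2) h2 st
      (h4 ⟨s, mem_centralizer_singleton_iff.2 xs.symm⟩ fs) (h4 ⟨t, mem_centralizer_singleton_iff.2 xt.symm⟩ ft)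
    rw [ds, dt, dst, dst2] at h5
    omega

theorem model [Finite Co1] : RowAb 3 2 Co1 := by
  have h3 : Fact (Nat.Prime 3) := ⟨Nat.prime_three⟩
  have hc : Nat.card Co1 = _ := NotCT.Orders.co1 ⟨MulEquiv.refl _⟩
  have hs : IsSimpleGroup Co1 := H123.SporSimple.spor_simple (by
    have : Spor.IsoCo1 Co1 := ⟨MulEquiv.refl _⟩
    unfold IsSporadicGroup; tauto)
  have hN : H711.Crit.NN 3 Co1 := H711.Crit.NN.of_rowS (H711.RowCount.center_eq_bot (by rw [hc]; norm_num))
    (H711.RowsA.co1 ⟨MulEquiv.refl _⟩)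
  refine rowAb_of_abAt fun y hy hd => ?_
  rcases coOne.ranks y hy with h | h | h | h
  · exact ab_zero hy h
  · exact (constr_six.conj (isConj_iff.2 (coOne.six _ y (TID.SO.order_mk (by norm_num) LThreeCo1Six.Main.orderOf_x) hy
      LThreeCo1.Ranks.fr_c6 h))).abAt hN
  · obtain ⟨t, ht, htf, ⟨e⟩, -⟩ := coOne.nine
    exact (not_deep_eight ht e (deep_conj (isConj_iff.2 (coOne.eight y t hy ht h htf)) hd)).elim
  · refine ab_twelve.conj (isConj_iff.2 ?_)
    rw [← LThreeCo1Twelve.Main.s_eq]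
    exact coOne.twelve _ y LThreeMB.CTwelveFix.order hy LThreeMB.CTwelveFix.fr_g12 h

end Co13

theorem co1_3 : ∀ (S : Type) [Group S] [Finite S], Spor.IsoCo1 S → RowAb 3 2 S := by
  rintro S _ _ ⟨e⟩
  have h3 : Fact (Nat.Prime 3) := ⟨Nat.prime_three⟩
  have := Finite.of_equiv S e.toEquiv
  exact Co13.model.congr e.symm

end Cfsg.Agent.BHZ.Spor
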