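import Mathlib
import Cfsg.Agent.BHZ.Spor.DTools
import Cfsg.Agent.H604.RB.ThreeB
import Cfsg.Agent.H604.RB.Three
import Cfsg.Agent.H711.BabyRow

/-!
# S4806, the sporadic row `B`, `p = 3` (helper84)
-/

set_option autoImplicit false

namespace Cfsg.Agent.BHZ.Spor

open Cfsg Subgroup
open scoped commutatorElement

theorem constr_of_qframe {p : ℕ} [Fact p.Prime] {S : Type} [Group S] {y : S} (hy : orderOf y = p)
    (h : H604.RB.QFrame.QFrame p y) : Constr p y := by
  obtain ⟨Q, -, hQ, hn, -, hc⟩ := h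
  refine ⟨Q, hQ, fun x hx u hu => (mem_normalizer_iff.1 (hn x hx.symm) u).1 hu, fun r h1 h2 => ?_⟩
  exact eq_one_of_reg h2 (k := 1) (pelt_of_mem_zpowers (by rw [pow_one, ← hy, pow_orderOf_eq_one]) (hc r h1))

theorem not_deep_of_fiFrame {S : Type} [Group S] {y : S} (hy : y ≠ 1) (D : H480.Ore.FiFrame y) :
    y ∉ ⁅centralizer ({y} : Set S), centralizer ({y} : Set S)⁆ := by
  have h1 : y ∉ D.j.range := by
    rintro ⟨f, hf⟩
    have h2 := D.eq_one_of_pow (k := 1) (by rw [zpow_one]; exact hf.symm)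
    rw [h2, map_one] at hf
    exact hy hf.symm
  by_cases h : ∃ c : S, c * y = y * c ∧ c ∉ D.S
  · obtain ⟨c, hc, hcS⟩ := h
    have hyc : Commute y c := hc.symm
    refine not_deep_of_norm D.j.range (closure {y, c}) h1 (fun x hx => ?_) (fun a ha b hb => ?_) (fun a ha => ?_)
      fun x hx => ?_
    · rintro _ ⟨f, rfl⟩
      by_cases hxS : x ∈ D.S
      · obtain ⟨k, g, rfl⟩ := hxS
        refine ⟨g * f * g⁻¹, ?_⟩
        have h2 : Commute (D.j (g * f * g⁻¹)) (y ^ k) := (show Commute (D.j _) y from D.comm _).zpow_right k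
        calc D.j (g * f * g⁻¹) = y ^ k * D.j (g * f * g⁻¹) * (y ^ k)⁻¹ := by rw [← h2.eq, mul_inv_cancel_right]
          _ = _ := by rw [map_mul, map_mul, map_inv]; group
      · exact D.conj_range hx.symm hxS f
    · have := isMulCommutative_closure (k := {y, c}) (by
        rintro a (rfl | rfl) b (rfl | rfl)
        exacts [rfl, hyc.eq, hc, rfl])
      exact forall_of_comm this a ha b hb
    · have h2 : closure {y, c} ≤ centralizer ({y} : Set S) := (closure_le _).2 (by
        rintro a (rfl | rfl)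
        exacts [mem_centralizer_singleton_iff.2 rfl, mem_centralizer_singleton_iff.2 hc])
      exact (mem_centralizer_singleton_iff.1 (h2 ha)).symm
    · have hy' : y ∈ closure {y, c} := subset_closure (by simp)
      have hc' : c ∈ closure {y, c} := subset_closure (by simp)
      by_cases hxS : x ∈ D.S
      · obtain ⟨k, g, rfl⟩ := hxS
        exact ⟨_, zpow_mem hy' k, _, ⟨g, rfl⟩, rfl⟩
      · obtain ⟨k, g, hg⟩ := D.cover' hc hx.symm hcS hxS
        exact ⟨c⁻¹ * y ^ k, mul_mem (inv_mem hc') (zpow_mem hy' k), _, ⟨g, rfl⟩, by rw [mul_assoc, ← hg]; group⟩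
  · refine not_deep_of_sup D.j.range h1 fun x hx => ?_
    obtain ⟨k, g, rfl⟩ : x ∈ D.S := by
      by_contra h0
      exact h ⟨x, hx.symm, h0⟩
    exact ⟨_, ⟨k, rfl⟩, _, ⟨g, rfl⟩, rfl⟩

theorem b_3 : ∀ (S : Type) [Group S] [Finite S], Spor.IsoB S → RowAb 3 2 S := by
  intro S _ _ h
  have h3 : Fact (Nat.Prime 3) := ⟨Nat.prime_three⟩
  have hN : H711.Crit.NN 3 S := by
    obtain ⟨e⟩ := h
    exact H711.BabyRow.nn_b.congr e.symm
  refine rowAb_of_deep hN fun y hy hd => ?_
  by_cases h7 : 7 ∣ Nat.card ↥(centralizer ({y} : Set S))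
  · obtain ⟨D⟩ := H604.RB.Three.frame_of_seven h hy h7
    refine (not_deep_of_fiFrame (fun h0 => ?_) D hd).elim
    rw [h0, orderOf_one] at hy
    norm_num at hy
  · exact constr_of_qframe hy (H604.RB.ThreeB.qframe_three h hy h7)

end Cfsg.Agent.BHZ.Spor
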