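import Mathlib
import Cfsg.Agent.BHZ.Spor.Asm
import Cfsg.Agent.BHZ.Nil.Iface

/-!
# S4806 (helper25): the rows `spor` and `tits` of `BHZ.Nil.Rows` from `BHZ.Spor.Rows`
-/

set_option autoImplicit false

namespace Cfsg.Agent.BHZ.Spor

open Cfsg Subgroup

universe u

theorem brow_of_cover {p : ℕ} [Fact p.Prime] {S : Type} [Group S] [IsSimpleGroup S] (hS : ¬ IsMulCommutative S)
    (h : Cover.{u} p S) : Nil.BRow.{u} p S := by
  intro G _ _ σ hG hσ hc M hM B hB D hD
  have hZ : center S = ⊥ := by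
    rcases (inferInstance : (center S).Normal).eq_bot_or_eq_top with h1 | h1
    · exact h1
    · exact absurd ⟨⟨fun a b => (mem_center_iff.1 (h1 ▸ mem_top a) b).symm⟩⟩ hS
  have hk : σ.ker = center G := le_antisymm hc fun z hz => by
    have h1 : σ z ∈ center S := mem_center_iff.2 fun s => by
      obtain ⟨g, rfl⟩ := hσ s
      rw [← map_mul, ← map_mul, mem_center_iff.1 hz g]
    rw [hZ] at h1
    exact h1
  let e : G ⧸ center G ≃* S :=
    (QuotientGroup.quotientMulEquivOfEq hk.symm).trans (QuotientGroup.quotientKerEquivOfSurjective σ hσ)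
  exact h G ⟨⟨hG⟩, e.isSimpleGroup⟩ ⟨e⟩ D (loc_of_block hM hB hD)

theorem rowFor_spor (R : Rows) : Nil.RowFor.{u} (fun _ S _ => IsSporadicGroup S) :=
  fun _ _ hp _ _ _ _ hS h => brow_of_cover hS (cover_spor R hp h)

theorem rowFor_tits (R : Rows) : Nil.RowFor.{u} (fun _ S _ => Lie.IsoTits S) :=
  fun _ _ hp _ _ _ _ hS h => brow_of_cover hS (cover_tits R hp h)

end Cfsg.Agent.BHZ.Spor
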