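import Mathlib
import Cfsg.Agent.BHZ.Spor.Cons23
import Cfsg.Agent.H345.RG.Co2A
import Cfsg.Agent.H763.Wk.CoTwoThree
import Cfsg.Agent.TID.SO.LeechA
import Cfsg.Agent.H711.McLLy

/-!
# S4806, the sporadic row `Co2`, `p = 3` (helper4)
-/

set_option autoImplicit false
set_option maxRecDepth 100000

namespace Cfsg.Agent.BHZ.Spor

open Cfsg Subgroup
open scoped commutatorElement Pointwise

namespace Co23

open Cfsg.Agent.H633.Ore Cfsg.Agent.H633.Ore.Co2 Cfsg.Agent.H633.Ore.Co2D Cfsg.Agent.H345.RG.Co2A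
open Cfsg.Agent.H843.IMC.Co2B (Y)

/-! ### the class with five fixed points -/

theorem o4 : ordT C0.w4 12 = true := by decide +kernel
theorem o17 : ordT C3.w17 12 = true := by decide +kernel
theorem o20 : ordT C3.w20 12 = true := by decide +kernel
theorem o37 : ordT C7.w37 12 = true := by decide +kernel

theorem c12 : (data.all fun d => !(Nat.beq d.k.1 5 && Nat.beq d.k.2.1 5 && Nat.beq d.k.2.2.2.1 5) ||
    [C0.w4, C3.w17, C3.w20, C7.w37].contains d.w) = true := by decide +kernel

theorem pow12 {g : G} (h4 : FF 4 g = 5) (h7 : FF 7 g = 5) (h10 : FF 10 g = 5) : g ^ 12 = 1 := by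
  obtain ⟨w, hw, h⟩ := cls_of (P := fun k => Nat.beq k.1 5 && Nat.beq k.2.1 5 && Nat.beq k.2.2.2.1 5) c12 (g := g) (by
    show (Nat.beq (FF 4 g) 5 && Nat.beq (FF 7 g) 5 && Nat.beq (FF 10 g) 5) = true
    rw [h4, h7, h10]
    rfl)
  simp only [List.mem_cons, List.not_mem_nil, or_false] at hw
  rcases hw with rfl | rfl | rfl | rfl
  · exact h.pow (ordT_sound o4)
  · exact h.pow (ordT_sound o17)
  · exact h.pow (ordT_sound o20)
  · exact h.pow (ordT_sound o37)

/-- the fixed points -/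
def fx (y : G) : SubMulAction (centralizer ({y} : Set G)) Y where
  carrier := {u | y • u = u}
  smul_mem' c u hu := by
    change y • ((c : G) • u) = (c : G) • u
    rw [← mul_smul, ← mem_centralizer_singleton_iff.1 c.2, mul_smul, show y • u = u from hu]

theorem not_five {y r : G} (hy : y ^ 3 = 1) (h5 : Nat.card {u : Y // y • u = u} = 5) (hc : Commute y r)
    (hr : (orderOf r).Prime) (hf : ∀ u : Y, y • u = u → r • u = u) : orderOf r < 5 := by
  by_contra h0
  have h1 : orderOf r * orderOf r % 3 = 1 := by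
    have h2 : orderOf r % 3 ≠ 0 := fun h => by
      have := (Nat.prime_dvd_prime_iff_eq Nat.prime_three hr).1 (Nat.dvd_of_mod_eq_zero h)
      omega
    rw [Nat.mul_mod]
    have h3 : orderOf r % 3 = 1 ∨ orderOf r % 3 = 2 := by omega
    rcases h3 with h | h <;> rw [h]
  have hp : ∀ k, k % 3 = 1 → y ^ k = y := fun k hk => by
    rw [← Nat.div_add_mod k 3, pow_add, pow_mul, hy, one_pow, one_mul, hk, pow_one]
  have h2 : ∀ j, j % 3 = 1 → FF j (y * r) = 5 := fun j hj => by
    rw [← h5]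
    refine Nat.card_congr (Equiv.subtypeEquivRight fun u => ⟨fun h => ?_, fun h => ?_⟩)
    · have h3 : ((y * r) ^ j) ^ (orderOf r * orderOf r) = y := by
        rw [hc.mul_pow, hp j hj, (hc.pow_right j).mul_pow, hp _ h1, ← pow_mul, mul_comm j, mul_assoc, pow_mul,
          pow_orderOf_eq_one, one_pow, mul_one]
      rw [← h3]
      exact (MulAction.stabilizer G u).pow_mem h _
    · exact (MulAction.stabilizer G u).pow_mem ((MulAction.stabilizer G u).mul_mem h (hf u h)) _
  have h3 := pow12 (h2 4 rfl) (h2 7 rfl) (h2 10 rfl)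
  rw [hc.mul_pow, show 12 = 3 * 4 from rfl, pow_mul y, hy, one_pow, one_mul] at h3
  have h4 := orderOf_dvd_of_pow_eq_one h3
  have h6 := Nat.le_of_dvd (by norm_num) h4
  generalize orderOf r = n at h0 h4 h6 hr
  interval_cases n <;> first | omega | norm_num at hr

theorem constr_five {y : G} (hy : orderOf y = 3) (h5 : Nat.card {u : Y // y • u = u} = 5) : Constr 3 y := by
  have h3 : Fact (Nat.Prime 3) := ⟨Nat.prime_three⟩
  have hF : Nat.card (fx y) = 5 := h5
  have hfin : Finite (fx y) := Nat.finite_of_card_ne_zero (by rw [hF]; norm_num)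
  refine constr_of_two_three hy (H763.Wk.CoTwo.core_three hy)
    (N := (MulAction.toPermHom (centralizer ({y} : Set G)) (fx y)).ker) inferInstance (fun n hn hp => ?_)
    fun r hr hp => ?_
  · rw [← orderOf_coe] at hp ⊢
    exact not_five (by rw [← hy, pow_orderOf_eq_one]) h5 (mem_centralizer_singleton_iff.1 n.2).symm hp fun u hu =>
      congrArg Subtype.val (DFunLike.congr_fun (MonoidHom.mem_ker.1 hn) (⟨u, hu⟩ : fx y))
  · by_contra h0
    obtain ⟨A, hA, hA3, hAc⟩ := H763.Wk.CoTwo.rank_three hy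
    have hAp : IsPGroup 3 A := isPGroup_of_pelt fun a ha => ⟨1, by rw [pow_one]; exact hA3 a ha⟩
    obtain ⟨n, hn⟩ := hAp.exists_card_eq
    obtain ⟨B, hB⟩ := Sylow.exists_subgroup_card_pow_prime 3 (G := A) (n := 3) (by
      rw [hn]
      refine pow_dvd_pow 3 ?_
      rw [hn] at hAc
      have := (Nat.pow_le_pow_iff_right (by norm_num : 1 < 3)).1 hAc
      omega)
    have h9 := CpAutCoTwo.CaseB.card_inter (Q := fx y) hF.le (A := B.map A.subtype)
      (by rw [card_map_of_injective (subtype_injective A), hB]; norm_num)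
    generalize (MulAction.toPermHom (centralizer ({y} : Set G)) (fx y)).ker = N at hr h9
    have hle : N ⊓ B.map A.subtype ≤ A := inf_le_right.trans (map_subtype_le B)
    obtain ⟨k, hk⟩ := (hAp.to_le hle).exists_card_eq
    obtain ⟨V, hV⟩ := Sylow.exists_subgroup_card_pow_prime 3 (G := ↥(N ⊓ B.map A.subtype)) (n := 2) (by
      rw [hk]
      refine pow_dvd_pow 3 ?_
      rw [hk] at h9
      exact (Nat.pow_le_pow_iff_right (by norm_num : 1 < 3)).1 h9)
    have hW := map_subtype_le V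
    have h1 : TID.SO.Com 3 (orderOf r) (centralizer ({y} : Set G)) :=
      ⟨V.map (Subgroup.subtype _), r, ⟨comm_of_forall fun a ha b hb => forall_of_comm hA a (hle (hW ha)) b (hle (hW hb)),
        fun a ha => hA3 a (hle (hW ha))⟩, by rw [card_map_of_injective (subtype_injective _), hV], rfl,
        fun a ha => mem_centralizer_singleton_iff.2 (hr a (hW ha).1)⟩
    exact TID.SO.fx_co2.not_com (Or.inl rfl) hp (by omega) (by omega) (h1.map _ (subtype_injective _))

/-! ### the class with 41 fixed points -/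

/-- common neighbours of a point and its image -/
noncomputable def tm (CM : List ℕ) (A i : ℕ) : ℕ :=
  force (ent 22 TT i) fun c => Nat.land A (Nat.land (linL CT c) (linL CM c))

/-- the block of a point -/
noncomputable def bm (CM : List ℕ) (A i : ℕ) : ℕ :=
  force (tm CM A i) fun t => filt (fun j => Nat.blt 0 (Nat.land t (tm CM A j))) 2300 A 0

/-- the check of the blocks -/
noncomputable def chkB (L CM : List ℕ) (A : ℕ) : Bool :=
  force (bm CM A 2) fun B0 => force (bm CM A 56) fun B1 => force (bm CM A 6) fun B2 =>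
    Nat.beq (tb A 2) 1 && Nat.beq (linL L (ent 22 TT 2)) (ent 22 TT 56) && Nat.beq (linL L (ent 22 TT 56)) (ent 22 TT 6) &&
      Nat.beq (tb B0 2) 1 && !Nat.beq (tb B1 2) 1 &&
      Nat.beq (filt (fun i => force (bm CM A i) fun b => Nat.beq b B0 || Nat.beq b B1 || Nat.beq b B2) 2300 A 0) A

theorem chk_ok : (wmF C0.w5 ID22 fun L => mapF (linL CT) L fun CM => force (filt (tFix 22 TT L 1) 2300 AM 0) fun F =>
    force (filt (tFix 22 TT L 0) 2300 AM 0) fun N => force (filt (tCnt 22 TT CT F 40) 2300 N 0) fun A =>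
      chkB L CM A) = true := by decide +kernel

section

variable {L : List ℕ} {y : G} {A : ℕ}

/-- common neighbours -/
def Tt (y : G) (A : ℕ) (u z : Y) : Prop := M.mem A z ∧ M.bf z u = true ∧ M.bf z (y • u) = true

/-- the block -/
def Bl (y : G) (A : ℕ) (u : Y) : Set Y := {v | M.mem A v ∧ ∃ z, Tt y A u z ∧ Tt y A v z}

theorem mem_tm (hL : M.Rp L y) (u z : Y) : M.mem (tm (L.map (linL CT)) A (M.idx u)) z ↔ Tt y A u z := by
  have h1 := linL_row hL u
  have h2 := M.ent_idx u
  have h3 := M.row z u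
  have h4 := M.row z (y • u)
  rw [M_w, M_T] at h1 h2
  rw [M_CT] at h1 h3 h4
  unfold tm Tt Mdl.mem
  rw [force_eq, h1, h2, ← h3, ← h4]
  change (A &&& (_ &&& _)).testBit _ = true ↔ _
  rw [Nat.testBit_and, Nat.testBit_and, Bool.and_eq_true, Bool.and_eq_true]

theorem mem_bm (hL : M.Rp L y) (hA : Vm 2300 A) (u v : Y) :
    M.mem (bm (L.map (linL CT)) A (M.idx u)) v ↔ v ∈ Bl y A u := by
  unfold bm
  rw [force_eq, Mdl.mem, testBit_filt' (by norm_num) hA, Bool.and_eq_true, Nat.blt_eq]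
  refine and_congr Iff.rfl ⟨fun h => ?_, fun ⟨z, h1, h2⟩ => Nat.pos_of_ne_zero fun h => ?_⟩
  · obtain ⟨b, hb⟩ := Nat.exists_testBit_of_ne_zero h.ne'
    change Nat.testBit (_ &&& _) b = true at hb
    rw [Nat.testBit_and, Bool.and_eq_true] at hb
    have h1 : Vm 2300 (tm (L.map (linL CT)) A (M.idx u)) := by
      unfold tm
      rw [force_eq]
      exact hA.and
    obtain ⟨i, hi, rfl⟩ := h1 b hb.1
    obtain ⟨z, rfl⟩ := M.idx_surj i (by rw [M_n]; exact hi)
    exact ⟨z, (mem_tm hL u z).1 hb.1, (mem_tm hL v z).1 hb.2⟩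
  · have h3 : (tm (L.map (linL CT)) A (M.idx u) &&& tm (L.map (linL CT)) A (M.idx v)).testBit (12 * M.idx z) = true := by
      rw [Nat.testBit_and, Bool.and_eq_true]
      exact ⟨(mem_tm hL u z).2 h1, (mem_tm hL v z).2 h2⟩
    rw [show _ &&& _ = 0 from h, Nat.zero_testBit] at h3
    exact Bool.false_ne_true h3

theorem smul_Bl (hA : Good M (centralizer ({y} : Set G)) A) {x : G} (hx : Commute y x) (u : Y) :
    x • Bl y A u = Bl y A (x • u) := by
  have hx' : x ∈ centralizer ({y} : Set G) := mem_centralizer_singleton_iff.2 hx.symm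
  have h1 : ∀ a z : Y, Tt y A (x • a) (x • z) ↔ Tt y A a z := fun a z => by
    unfold Tt
    rw [hA.2 x hx', M.inv, ← mul_smul, hx.eq, mul_smul, M.inv]
  ext v
  obtain ⟨v, rfl⟩ := MulAction.surjective x v
  rw [Set.smul_mem_smul_set_iff]
  refine and_congr (hA.2 x hx' v).symm ⟨fun ⟨z, h2, h3⟩ => ⟨x • z, (h1 _ _).2 h2, (h1 _ _).2 h3⟩, fun ⟨z, h2, h3⟩ => ?_⟩
  obtain ⟨z, rfl⟩ := MulAction.surjective x z
  exact ⟨z, (h1 _ _).1 h2, (h1 _ _).1 h3⟩

theorem not_deep_of_chk (hL : M.Rp L y) (hA : Good M (centralizer ({y} : Set G)) A)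
    (h : chkB L (L.map (linL CT)) A = true) : y ∉ ⁅centralizer ({y} : Set G), centralizer ({y} : Set G)⁆ := by
  have hV : Vm 2300 A := by
    have := hA.1
    rwa [M_n] at this
  obtain ⟨u0, h0⟩ := M.idx_surj 2 (by rw [M_n]; norm_num)
  obtain ⟨u1, h1⟩ := M.idx_surj 56 (by rw [M_n]; norm_num)
  obtain ⟨u2, h2⟩ := M.idx_surj 6 (by rw [M_n]; norm_num)
  have he : ∀ u : Y, ent 22 TT (M.idx u) = M.cd u := fun u => by
    have := M.ent_idx u
    rwa [M_w, M_T] at this
  unfold chkB at h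
  rw [force_eq, force_eq, force_eq, ← h0, ← h1, ← h2, he, he, he, beq_tb, beq_tb, beq_tb, ← hL, ← hL] at h
  simp only [Bool.and_eq_true, Bool.not_eq_true', Nat.beq_eq] at h
  obtain ⟨⟨⟨⟨⟨a1, a2⟩, a3⟩, a4⟩, a5⟩, a6⟩ := h
  obtain rfl := M.cd_inj a2
  obtain rfl := M.cd_inj a3
  refine not_deep_of_sup (MulAction.stabilizer G (Bl y A u0)) (fun hy => ?_) fun x hx => ?_
  · have h3 := (mem_bm hL hV u0 u0).1 a4
    rw [← MulAction.mem_stabilizer_iff.1 hy, smul_Bl hA (Commute.refl y)] at h3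
    have h4 : _ = true := (mem_bm hL hV _ u0).2 h3
    rw [a5] at h4
    exact Bool.false_ne_true h4
  · have h3 : A.testBit (12 * M.idx (x • u0)) = true := (hA.2 x (mem_centralizer_singleton_iff.2 hx.symm) u0).2 a1
    rw [← a6, testBit_filt' (by norm_num) hV, force_eq] at h3
    simp only [Bool.and_eq_true, Bool.or_eq_true, Nat.beq_eq] at h3
    have h4 : ∀ a ∈ zpowers y, bm (L.map (linL CT)) A (M.idx (x • u0)) = bm (L.map (linL CT)) A (M.idx (a • u0)) →
        ∃ a ∈ zpowers y, ∃ l ∈ MulAction.stabilizer G (Bl y A u0), x = a * l := fun a ha hb => by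
      refine ⟨a, ha, a⁻¹ * x, MulAction.mem_stabilizer_iff.2 ?_, by group⟩
      rw [mul_smul, inv_smul_eq_iff, smul_Bl hA hx, smul_Bl hA (commute_of_mem_zpowers (Commute.refl y) ha).symm]
      ext v
      rw [← mem_bm hL hV, ← mem_bm hL hV, hb]
    rcases h3.2 with (h5 | h5) | h5
    · exact h4 1 (one_mem _) (by rw [one_smul]; exact h5)
    · exact h4 y (mem_zpowers y) h5
    · exact h4 (y * y) (mul_mem (mem_zpowers y) (mem_zpowers y)) (by rw [mul_smul]; exact h5)

theorem good_A (hL : M.Rp L y) : Good M (centralizer ({y} : Set G))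
    (filt (tCnt M.w M.T M.CT (filt (tFix M.w M.T L 1) M.n AM 0) 40) M.n (filt (tFix M.w M.T L 0) M.n AM 0) 0) := by
  classical
  have h1 : ∀ e, Good M (centralizer ({y} : Set G)) (filt (tFix M.w M.T L e) M.n AM 0) := fun e =>
    (good_AM _).filt fun x hx u => by
      rw [tFix_eq hL, tFix_eq hL]
      have h2 : (y • x • u = x • u) ↔ (y • u = u) := by
        rw [← mul_smul, ← mem_centralizer_singleton_iff.1 hx, mul_smul]
        exact (MulAction.injective x).eq_iff
      simp only [h2]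
  have h3 := h1 1
  generalize filt (tFix M.w M.T L 1) M.n AM 0 = F at h3
  refine (h1 0).filt fun x hx u => ?_
  have h2 : ∀ u : Y, linL M.CT (ent M.w M.T (M.idx u)) = linL M.CT (M.cd ((1 : G) • u)) := fun u => by
    rw [M.ent_idx, one_smul]
  rw [tCnt_eq h2, tCnt_eq h2, one_smul, one_smul]
  have h4 : Nat.card {z : Y // M.bf z (x • u) = true ∧ M.mem F z} = Nat.card {z : Y // M.bf z u = true ∧ M.mem F z} := by
    refine Nat.card_congr (Equiv.subtypeEquiv (MulAction.toPerm x).symm fun z => ?_)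
    obtain ⟨z, rfl⟩ := MulAction.surjective x z
    rw [MulAction.toPerm_symm_apply, inv_smul_smul, M.inv, h3.2 x hx]
  rw [h4]

theorem not_deep_of_chk' (hL : M.Rp L y) (h : (mapF (linL CT) L fun CM =>
    force (filt (tFix 22 TT L 1) 2300 AM 0) fun F =>
    force (filt (tFix 22 TT L 0) 2300 AM 0) fun N => force (filt (tCnt 22 TT CT F 40) 2300 N 0) fun A =>
      chkB L CM A) = true) : y ∉ ⁅centralizer ({y} : Set G), centralizer ({y} : Set G)⁆ := by
  rw [mapF_eq, force_eq, force_eq, force_eq] at h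
  have h1 := good_A hL
  rw [M_w, M_n, M_T, M_CT] at h1
  exact not_deep_of_chk hL h1 h

end

theorem not_deep_w5 : wd C0.w5 ∉ ⁅centralizer ({wd C0.w5} : Set G), centralizer ({wd C0.w5} : Set G)⁆ := by
  have h := chk_ok
  rw [wmF_eq] at h
  exact not_deep_of_chk' (by rw [ID22_eq]; exact rp_wd _) h

theorem model : RowAb 3 1 G := by
  have h3 : Fact (Nat.Prime 3) := ⟨Nat.prime_three⟩
  refine rowAb_of_deep H711.McLLy.nn_co2 fun y hy hd => ?_
  have hy3 : y ^ 3 = 1 := by rw [← hy, pow_orderOf_eq_one]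
  rcases cl3 hy3 (ne_one_of_order hy) with h | h | h
  · refine constr_five hy ?_
    have h1 : FF 4 y = 5 := by
      have h2 : FF 4 (wd C0.w4) = 5 := congrArg Prod.fst (chkF_sound f4)
      rcases h with h | h <;> obtain ⟨c, rfl⟩ := isConj_iff.1 h
      · rw [FF_conj, h2]
      · rw [FF_conj, FF_inv, h2]
    unfold FF at h1
    rwa [pow_succ, hy3, one_mul] at h1
  · exact (not_deep_w5 (deep_conj h.symm hd)).elim
  · exact (not_deep_w5 (by simpa using deep_inv (deep_conj h.symm hd))).elim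

end Co23

theorem co2_3 : ∀ (S : Type) [Group S] [Finite S], Spor.IsoCo2 S → RowAb 3 1 S := by
  rintro S _ _ ⟨e⟩
  have h3 : Fact (Nat.Prime 3) := ⟨Nat.prime_three⟩
  exact Co23.model.congr e.symm

end Cfsg.Agent.BHZ.Spor
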