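import Mathlib
import Cfsg.Agent.BHZ.Spor.DNorm
import Cfsg.Agent.Lib.HallHigman
import Cfsg.Agent.Lib.Cores
import Cfsg.Agent.H388.HNF.Abs

/-!
# S4806, sporadic rows (helper84): trivial `p'`-cores, abelian `p`-subgroups
-/

set_option autoImplicit false
set_option linter.unusedSectionVars false

namespace Cfsg.Agent.BHZ.Spor

open Cfsg Subgroup
open scoped commutatorElement

universe u v

variable {p m : ℕ} [hp : Fact p.Prime] {S : Type u} [Group S] [Finite S]

/-- a large `p`-group normalizing a small group centralizes one of its elements with a large subgroup -/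
theorem dvd_cent_of_norm {T R : Subgroup S} {a b : ℕ} (hT : p ^ (a + b) ∣ Nat.card T)
    (hn : ∀ g ∈ T, ∀ v ∈ R, g * v * g⁻¹ ∈ R) (hR : Nat.card R ≤ p ^ (a + 1)) {w : S} (hw : w ∈ R) (h1 : w ≠ 1) :
    p ^ b ∣ Nat.card (centralizer ({w} : Set S)) := by
  obtain ⟨K, hK⟩ := Sylow.exists_subgroup_card_pow_prime p hT
  have hK' : Nat.card (K.map T.subtype) = p ^ (a + b) := by rw [card_map_of_injective (subtype_injective _), hK]
  have h2 := H388.HNF.card_le_orbit (T := K.map T.subtype) (V := R) (fun g hg => hn g (map_subtype_le _ hg)) hw h1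
  obtain ⟨j, -, hj⟩ := (Nat.dvd_prime_pow hp.out).1
    (hK' ▸ card_dvd_of_le (inf_le_left : K.map T.subtype ⊓ centralizer ({w} : Set S) ≤ _))
  rw [hK', hj] at h2
  have h3 : p ^ (a + b) < p ^ (a + 1 + j) := by
    have h4 : 0 < Nat.card R := Nat.card_pos
    calc p ^ (a + b) ≤ (Nat.card R - 1) * p ^ j := h2
      _ < p ^ (a + 1) * p ^ j := Nat.mul_lt_mul_of_pos_right (by omega) (pow_pos hp.out.pos j)
      _ = _ := (pow_add _ _ _).symm
  have h4 := (Nat.pow_lt_pow_iff_right hp.out.one_lt).1 h3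
  exact (pow_dvd_pow p (by omega : b ≤ j)).trans (hj ▸ card_dvd_of_le inf_le_right)

/-- the `p'`-core is trivial if the `r`-subgroups are small and the elements of order `r` have centralizers with small
`p`-part -/
theorem core_eq_bot_of_small {a b : ℕ} (hn : p ^ (a + b) ∣ Nat.card S)
    (h1 : ∀ r k : ℕ, r.Prime → r ≠ p → r ^ k ∣ Nat.card S → r ^ k ≤ p ^ (a + 1))
    (h2 : ∀ w : S, (orderOf w).Prime → orderOf w ≠ p → ¬ p ^ b ∣ Nat.card (centralizer ({w} : Set S))) :
    pPrimeCore p S = ⊥ := by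
  by_contra h0
  have hN := Lib.Cores.pPrimeCore_normal (G := S) p
  have hco := Lib.Cores.pPrimeCore_coprime (G := S) p
  obtain ⟨r, hr, hrd⟩ := Nat.exists_prime_and_dvd (fun h => h0 (card_eq_one.1 h) : Nat.card (pPrimeCore p S) ≠ 1)
  have hrF : Fact r.Prime := ⟨hr⟩
  have hrp : r ≠ p := by
    rintro rfl
    exact hr.one_lt.ne' (Nat.eq_one_of_dvd_coprimes hco hrd dvd_rfl)
  obtain ⟨R⟩ : Nonempty (Sylow r (pPrimeCore p S)) := inferInstance
  have hF := Sylow.normalizer_sup_eq_top R
  obtain ⟨k, hk⟩ := R.isPGroup'.exists_card_eq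
  have hk' : Nat.card ((R : Subgroup (pPrimeCore p S)).map (pPrimeCore p S).subtype) = r ^ k := by
    rw [card_map_of_injective (subtype_injective _), hk]
  have hd : r ∣ Nat.card ((R : Subgroup (pPrimeCore p S)).map (pPrimeCore p S).subtype) := by
    rw [card_map_of_injective (subtype_injective _)]
    exact R.dvd_card_of_dvd_card hrd
  generalize (R : Subgroup (pPrimeCore p S)).map (pPrimeCore p S).subtype = V at hF hk' hd
  obtain ⟨w, hw⟩ := exists_prime_orderOf_dvd_card' (G := V) r hd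
  have hw' : orderOf (w : S) = r := by rw [orderOf_coe, hw]
  have hT : p ^ (a + b) ∣ Nat.card (normalizer (V : Set S)) := by
    have h3 : (normalizer (V : Set S)).index ∣ Nat.card (pPrimeCore p S) := by
      have h5 : Nat.card S ∣ Nat.card (normalizer (V : Set S)) * Nat.card (pPrimeCore p S) := by
        have h6 := (pPrimeCore p S).card_mul_index
        have h7 : (pPrimeCore p S).index ∣ Nat.card (normalizer (V : Set S)) := by
          rw [← relIndex_top_right, ← hF, relIndex_sup_right]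
          exact index_dvd_card _
        rw [← h6, mul_comm]
        exact Nat.mul_dvd_mul_right h7 _
      rw [← (normalizer (V : Set S)).card_mul_index] at h5
      exact Nat.dvd_of_mul_dvd_mul_left Nat.card_pos h5
    rw [← (normalizer (V : Set S)).card_mul_index] at hn
    exact Nat.Coprime.dvd_of_dvd_mul_right ((Nat.Coprime.coprime_dvd_left h3 hco).symm.pow_left _) hn
  refine h2 w (hw' ▸ hr) (hw' ▸ hrp) (dvd_cent_of_norm hT (fun g hg v hv => (mem_normalizer_iff.1 hg v).1 hv)
    (hk' ▸ h1 r k hr hrp (hk' ▸ card_subgroup_dvd_card V)) w.2 fun h => ?_)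
  rw [h, orderOf_one] at hw'
  exact hr.one_lt.ne hw'

/-- solvable overgroup of `C(y)` with trivial `p'`-core -/
theorem Constr.of_solvable {y : S} (hy : ∃ k : ℕ, y ^ p ^ k = 1) (H : Subgroup S) (hH : ∀ x, Commute y x → x ∈ H)
    (hs : Group.IsSolvable H) (hc : pPrimeCore p H = ⊥) : Constr p y :=
  Constr.of_over hy H hH _ (Lib.Cores.pCore_normal p) (Lib.Cores.pCore_isPGroup p) fun r _ h1 h2 => by
    obtain ⟨k, hk⟩ := pelt_of_mem (Lib.Cores.pCore_isPGroup p)
      (Lib.HallHigman.centralizer_pCore_le_of_solvable p hc (mem_centralizer_iff.2 fun n hn => h1 n hn))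
    exact eq_one_of_reg h2 hk

/-- a `p`-group of permutations with short orbits is abelian -/
theorem comm_of_short {Ω : Type v} [Finite Ω] {D : Subgroup (Equiv.Perm Ω)} (hD : IsPGroup p D)
    (h : ∀ x : Ω, (MulAction.orbit D x).ncard < p ^ 2) : ∀ a ∈ D, ∀ b ∈ D, Commute a b := by
  intro a ha b hb
  refine commutatorElement_eq_one_iff_commute.1 (Equiv.ext fun x => ?_)
  have h1 := h x
  rw [← MulAction.index_stabilizer] at h1
  obtain ⟨n, hn⟩ := hD.exists_card_eq
  obtain ⟨j, hjn, hj⟩ := (Nat.dvd_prime_pow hp.out).1 (hn ▸ (MulAction.stabilizer D x).index_dvd_card)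
  have hj2 : j < 2 := (Nat.pow_lt_pow_iff_right hp.out.one_lt).1 (hj ▸ h1)
  have h2 : ⁅(⟨a, ha⟩ : D), ⟨b, hb⟩⁆ ∈ MulAction.stabilizer D x := by
    interval_cases j
    · rw [pow_zero, index_eq_one] at hj
      rw [hj]
      exact mem_top _
    · rw [pow_one] at hj
      have hN : (MulAction.stabilizer D x).Normal :=
        normal_of_index_eq_minFac_card (by rw [hj, hn, hp.out.pow_minFac (by omega)])
      have hc : IsCyclic (D ⧸ MulAction.stabilizer D x) := isCyclic_of_prime_card (p := p) hj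
      rw [← QuotientGroup.eq_one_iff]
      exact map_comm_eq_one (π := QuotientGroup.mk' _) (IsCyclic.commGroup.mul_comm _ _)
  exact h2

/-- a `p`-group commuting with a nontrivial permutation of `p²` points which has a fixed point -/
theorem comm_of_fix {Ω : Type v} [Finite Ω] (hΩ : Nat.card Ω ≤ p ^ 2) {D : Subgroup (Equiv.Perm Ω)} (hD : IsPGroup p D)
    {σ : Equiv.Perm Ω} (hc : ∀ d ∈ D, Commute d σ) {x0 x1 : Ω} (h0 : σ x0 = x0) (h1 : σ x1 ≠ x1) :
    ∀ a ∈ D, ∀ b ∈ D, Commute a b := by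
  refine comm_of_short hD fun x => ?_
  have h2 : ∀ (d : D) (z : Ω), σ ((d : Equiv.Perm Ω) z) = (d : Equiv.Perm Ω) z ↔ σ z = z := fun d z => by
    rw [← Equiv.Perm.mul_apply, ← (hc d d.2).eq, Equiv.Perm.mul_apply, Equiv.apply_eq_iff_eq]
  have h3 : MulAction.orbit D x ⊂ Set.univ := by
    refine Set.ssubset_univ_iff.2 fun h4 => ?_
    obtain ⟨d, hd⟩ : x0 ∈ MulAction.orbit D x := h4 ▸ Set.mem_univ _
    obtain ⟨e, he⟩ : x1 ∈ MulAction.orbit D x := h4 ▸ Set.mem_univ _
    subst hd he
    exact h1 ((h2 e x).2 ((h2 d x).1 h0))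
  have h4 := Set.ncard_lt_ncard h3
  rw [Set.ncard_univ] at h4
  omega

end Cfsg.Agent.BHZ.Spor
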