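import Mathlib
import Cfsg.Agent.BHZ.Spor.DCore
import Cfsg.Agent.BHZ.Spor.CTools
import Cfsg.Agent.DS.Sp.F24ATools
import Cfsg.Agent.S0023
import Cfsg.Agent.S0028
import Cfsg.Agent.S0058
import Cfsg.Agent.S0205

/-!
# S4806, sporadic rows (helper25): elements with a centralizer of odd order next to a large extraspecial group
-/

set_option autoImplicit false
set_option linter.unusedSectionVars false

namespace Cfsg.Agent.BHZ.Spor

open Cfsg Subgroup
open scoped commutatorElement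

universe u

variable {p : ℕ} [hp : Fact p.Prime] {S : Type u} [Group S] [Finite S]

/-- a `p'`-subgroup of `C(y)` which is normalized by `C(y)` -/
structure NormR (p : ℕ) {S : Type u} [Group S] (y : S) (V : Subgroup S) : Prop where
  cop : (Nat.card V).Coprime p
  le : ∀ v ∈ V, Commute y v
  norm : ∀ x : S, Commute y x → ∀ v ∈ V, x * v * x⁻¹ ∈ V

theorem normR_core (p : ℕ) (y : S) :
    NormR p y ((pPrimeCore p (centralizer ({y} : Set S))).map (centralizer ({y} : Set S)).subtype) := by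
  refine ⟨?_, ?_, fun x hx => ?_⟩
  · rw [card_map_of_injective (subtype_injective _)]
    exact Lib.Cores.pPrimeCore_coprime p
  · rintro _ ⟨v, -, rfl⟩
    exact (mem_centralizer_singleton_iff.1 v.2).symm
  · rintro _ ⟨v, hv, rfl⟩
    exact ⟨_, (Lib.Cores.pPrimeCore_normal p).conj_mem v hv ⟨x, mem_centralizer_singleton_iff.2 hx.symm⟩, rfl⟩

theorem NormR.reg {y : S} {V : Subgroup S} (h : NormR p y V) {v : S} (hv : v ∈ V) : ¬ p ∣ orderOf v := fun h0 =>
  hp.out.one_lt.ne' (Nat.eq_one_of_dvd_coprimes h.cop (h0.trans (V.orderOf_dvd_natCard hv)) dvd_rfl)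

/-- Thompson's `P × Q` lemma: an element with a centralizer of characteristic `p` acts without fixed points -/
theorem NormR.fpf {y a : S} {V : Subgroup S} (h : NormR p y V) (hy : ∃ k : ℕ, y ^ p ^ k = 1) (ha : Constr p a)
    (hay : Commute a y) {w : S} (hw : w ∈ V) (haw : Commute a w) : w = 1 := by
  obtain ⟨U, hU, hn, hr⟩ := ha
  obtain ⟨k, hk⟩ := hy
  have h1 : ∀ g : S, Commute a g → zpowers g ≤ normalizer (U : Set S) := fun g hg =>
    zpowers_le.2 (mem_normalizer_fintype fun n hn' => hn g hg n hn')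
  have h2 := S0028.result p (zpowers y) (zpowers w) U (isPGroup_zpowers hk)
    (by rw [Nat.card_zpowers]; exact ((Nat.Prime.coprime_iff_not_dvd hp.out).2 (h.reg hw)).symm) hU
    (zpowers_le.2 (mem_centralizer_iff.2 fun g hg => (commute_of_mem_zpowers (h.le w hw).symm hg).eq))
    (h1 y hay) (h1 w haw) fun u hu => mem_centralizer_iff.2 fun g hg => by
      have h3 : Commute y u := mem_centralizer_iff.1 hu.2 y (mem_zpowers y)
      have h4 : w * u * w⁻¹ * u⁻¹ ∈ U := U.mul_mem (hn w haw u hu.1) (U.inv_mem hu.1)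
      have h5 : w * u * w⁻¹ * u⁻¹ ∈ V := by
        rw [show w * u * w⁻¹ * u⁻¹ = w * (u * w⁻¹ * u⁻¹) by group]
        exact V.mul_mem hw (h.norm u h3 _ (V.inv_mem hw))
      obtain ⟨j, hj⟩ := pelt_of_mem hU h4
      have h6 := eq_one_of_reg (h.reg h5) hj
      have h7 : Commute w u := by
        rw [mul_inv_eq_one, mul_inv_eq_iff_eq_mul] at h6
        exact h6
      exact (commute_of_mem_zpowers h7 hg).eq
  exact hr w (fun d hd => mem_centralizer_iff.1 (h2 (mem_zpowers w)) d hd) (h.reg hw)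

/-- odd order and trivial `p'`-core -/
theorem constr_of_odd {y : S} (hy : ∃ k : ℕ, y ^ p ^ k = 1) (ho : ¬ 2 ∣ Nat.card (centralizer ({y} : Set S)))
    (h : ∀ V : Subgroup S, NormR p y V → V = ⊥) : Constr p y := by
  refine Constr.of_solvable hy _ (fun x hx => mem_centralizer_singleton_iff.2 hx.symm)
    (S0205.result (Nat.odd_iff.2 (Nat.two_dvd_ne_zero.1 ho))) ?_
  exact (map_eq_bot_iff_of_injective _ (subtype_injective _)).1 (h _ (normR_core p y))

/-- an element of order `p` with a centralizer of characteristic `p` and an extraspecial group around it -/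
structure Xs (p n : ℕ) {S : Type u} [Group S] (x : S) (N : Subgroup S) : Prop where
  ord : orderOf x = p
  con : Constr p x
  mem : x ∈ N
  le : ∀ u ∈ N, Commute x u
  norm : ∀ g : S, Commute x g → ∀ u ∈ N, g * u * g⁻¹ ∈ N
  comm : ∀ a ∈ N, ∀ b ∈ N, a * b * a⁻¹ * b⁻¹ ∈ zpowers x
  cen : ∀ s ∈ N, (∀ m ∈ N, s * m = m * s) → s ∈ zpowers x
  card : Nat.card N = p ^ (2 * n + 1)

/-- the arithmetic condition on the group order -/
def Ari (p n : ℕ) (S : Type u) : Prop :=
  ∀ r k : ℕ, r.Prime → r ≠ p → r ≠ 2 → 0 < k → r ^ k ∣ Nat.card S → ¬ p ^ n ∣ r ^ k - 1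

theorem mem_zpowers_of_mem {x z : S} (hx : orderOf x = p) (hz : z ∈ zpowers x) (h1 : z ≠ 1) : x ∈ zpowers z := by
  have h2 : Nat.card (zpowers x) = p := by rw [Nat.card_zpowers, hx]
  have h3 : zpowers z ≤ zpowers x := zpowers_le.2 hz
  have h4 := card_dvd_of_le h3
  rw [h2] at h4
  rcases (Nat.dvd_prime hp.out).1 h4 with h5 | h5
  · exact absurd (zpowers_eq_bot.1 (card_eq_one.1 h5)) h1
  · rw [eq_of_le_of_card_ge h3 (by rw [h2, h5])]
    exact mem_zpowers x

theorem Xs.core_eq_bot {n : ℕ} {x a : S} {N : Subgroup S} (h : Xs p n x N) (hA : Ari p n S)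
    (ha : ∃ k : ℕ, a ^ p ^ k = 1) (hxa : Commute x a) (ho : ¬ 2 ∣ Nat.card (centralizer ({a} : Set S)))
    (hT : p ^ (2 * n) ∣ Nat.card (N ⊓ centralizer ({a} : Set S) : Subgroup S)) {V : Subgroup S} (hV : NormR p a V) :
    V = ⊥ := by
  by_contra h0
  have hN : IsPGroup p N := IsPGroup.of_card h.card
  set T : Subgroup S := N ⊓ centralizer ({a} : Set S) with hTd
  have hTp : IsPGroup p T := hN.to_le inf_le_left
  have hTa : ∀ g ∈ T, Commute a g := fun g hg => (mem_centralizer_singleton_iff.1 hg.2).symm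
  obtain ⟨r, hr, hrd⟩ := Nat.exists_prime_and_dvd (fun h1 => h0 (card_eq_one.1 h1) : Nat.card V ≠ 1)
  have hrF : Fact r.Prime := ⟨hr⟩
  have hrp : r ≠ p := by
    rintro rfl
    exact hr.one_lt.ne' (Nat.eq_one_of_dvd_coprimes hV.cop hrd dvd_rfl)
  have hVa : V ≤ centralizer ({a} : Set S) := fun v hv => mem_centralizer_singleton_iff.2 (hV.le v hv).symm
  have hr2 : r ≠ 2 := by
    rintro rfl
    exact ho (hrd.trans (card_dvd_of_le hVa))
  obtain ⟨e, he⟩ := hTp.exists_card_eq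
  have hnil := hTp.isNilpotent
  obtain ⟨R, hR⟩ := S0023.result T V (fun g hg => mem_normalizer_fintype fun v hv => hV.norm g (hTa g hg) v hv)
    (by rw [he]; exact (hV.cop.symm.pow_left e)) (Or.inl inferInstance) r
  obtain ⟨k, hk⟩ := R.isPGroup'.exists_card_eq
  have hk' : Nat.card ((R : Subgroup V).map V.subtype) = r ^ k := by
    rw [card_map_of_injective (subtype_injective _), hk]
  have hk0 : 0 < k := by
    rcases Nat.eq_zero_or_pos k with rfl | h1
    · have h2 := R.dvd_card_of_dvd_card hrd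
      rw [hk, pow_zero] at h2
      exact absurd (Nat.dvd_one.1 h2) hr.one_lt.ne'
    · exact h1
  have hWV : (R : Subgroup V).map V.subtype ≤ V := map_subtype_le _
  generalize (R : Subgroup V).map V.subtype = W at hR hk' hWV
  have hnd := hA r k hr hrp hr2 hk0 (hk' ▸ card_subgroup_dvd_card W)
  rcases Nat.eq_zero_or_pos n with rfl | hn0
  · exact hnd (by rw [pow_zero]; exact one_dvd _)
  obtain ⟨n, rfl⟩ : ∃ n', n = n' + 1 := ⟨n - 1, by omega⟩
  obtain ⟨t, ht, ht1, htd⟩ := DS.Sp.F24.exists_cent_card (k := n) hTp hR (by rwa [hk'])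
  set A : Subgroup S := T ⊓ centralizer ({t} : Set S) with hAd
  have hz : ∀ z ∈ A, z ∈ zpowers x → z = 1 := fun z hz hzx => by
    by_contra h1
    have h2 : Commute z t := mem_centralizer_singleton_iff.1 hz.2
    exact ht1 (hV.fpf ha h.con hxa (hWV ht) (commute_of_mem_zpowers h2 (mem_zpowers_of_mem h.ord hzx h1)))
  have hAN : A ≤ N := inf_le_left.trans inf_le_left
  have h3 := DS.Sp.F24.card_sq_le hp.out (Z := zpowers x) (Q := N) (A := A) (by rw [Nat.card_zpowers, h.ord]) h.comm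
    (fun g hg z hz => (commute_of_mem_zpowers (h.le g hg) hz).symm.eq) hAN fun g hg g' hg' => by
      have h4 := hz _ (A.mul_mem (A.mul_mem (A.mul_mem hg hg') (A.inv_mem hg)) (A.inv_mem hg'))
        (h.comm g (hAN hg) g' (hAN hg'))
      rwa [mul_inv_eq_one, mul_inv_eq_iff_eq_mul] at h4
  have h5 : (A ⊓ centralizer (N : Set S) : Subgroup S) = ⊥ := (eq_bot_iff_forall _).2 fun z hz' =>
    hz z hz'.1 (h.cen z (hAN hz'.1) fun m hm => (mem_centralizer_iff.1 hz'.2 m hm).symm)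
  rw [h5, card_bot, mul_one, h.card] at h3
  obtain ⟨j, hj⟩ := (hN.to_le hAN).exists_card_eq
  have h6 := hT.trans htd
  rw [hj, ← pow_add] at h3 h6
  have h7 := (Nat.pow_le_pow_iff_right hp.out.one_lt).1 h3
  have h8 := (Nat.pow_dvd_pow_iff_le_right hp.out.one_lt).1 h6
  omega

/-- the commutator map of an element which acts trivially modulo `⟨x⟩` -/
theorem exists_comm_hom {x a : S} {P : Subgroup S} (hP : ∀ g ∈ P, Commute x g)
    (hc : ∀ b ∈ P, a * b * a⁻¹ * b⁻¹ ∈ zpowers x) : ∃ f : P →* zpowers x, ∀ b : P, f b = 1 ↔ Commute a b := by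
  refine ⟨MonoidHom.mk' (fun b => ⟨a * b * a⁻¹ * (b : S)⁻¹, hc b b.2⟩) fun b c => Subtype.ext ?_, fun b => ?_⟩
  · have h1 := (commute_of_mem_zpowers (hP b b.2) (hc c c.2)).eq
    simp only [coe_mul]
    calc a * (b * c) * a⁻¹ * ((b : S) * c)⁻¹ = a * b * a⁻¹ * ((a * c * a⁻¹ * (c : S)⁻¹) * (b : S)⁻¹) := by group
      _ = a * b * a⁻¹ * ((b : S)⁻¹ * (a * c * a⁻¹ * (c : S)⁻¹)) := by
        rw [show (a * c * a⁻¹ * (c : S)⁻¹) * (b : S)⁻¹ = (b : S)⁻¹ * (a * c * a⁻¹ * (c : S)⁻¹) from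
          (show Commute _ _ from h1).inv_right.eq]
      _ = _ := by group
  · rw [Subtype.ext_iff]
    change a * b * a⁻¹ * (b : S)⁻¹ = 1 ↔ _
    rw [mul_inv_eq_one, mul_inv_eq_iff_eq_mul]
    exact Iff.rfl

theorem dvd_card_cent {x a : S} {P : Subgroup S} {k : ℕ} (hx : orderOf x = p) (hP : ∀ g ∈ P, Commute x g)
    (hc : ∀ b ∈ P, a * b * a⁻¹ * b⁻¹ ∈ zpowers x) (hk : Nat.card P = p ^ (k + 1)) :
    p ^ k ∣ Nat.card (P ⊓ centralizer ({a} : Set S) : Subgroup S) := by
  obtain ⟨f, hf⟩ := exists_comm_hom hP hc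
  have h1 : f.ker = (P ⊓ centralizer ({a} : Set S)).subgroupOf P := by
    ext b
    rw [MonoidHom.mem_ker, mem_subgroupOf, mem_inf, mem_centralizer_singleton_iff, hf]
    exact ⟨fun h2 => ⟨b.2, h2.symm⟩, fun h2 => h2.2.symm⟩
  have h2 : f.ker.index ∣ p := by
    rw [index_ker, ← hx, ← Nat.card_zpowers]
    exact card_subgroup_dvd_card _
  have h3 := f.ker.card_mul_index
  rw [hk, h1, Nat.card_congr (subgroupOfEquivOfLe inf_le_left).toEquiv, ← h1] at h3
  refine Nat.dvd_of_mul_dvd_mul_right hp.out.pos ?_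
  rw [← pow_succ, ← h3]
  exact Nat.mul_dvd_mul_left _ h2

theorem commute_of_comm_hom {x a y : S} {P : Subgroup S} (hP : ∀ g ∈ P, Commute x g)
    (hc : ∀ b ∈ P, a * b * a⁻¹ * b⁻¹ ∈ zpowers x) (hy : y ∈ ⁅P, P⁆) : Commute a y := by
  obtain ⟨f, hf⟩ := exists_comm_hom hP hc
  have h1 : ⁅P, P⁆ ≤ centralizer ({a} : Set S) := commutator_le.2 fun g hg k hk => by
    have h2 := (hf ⁅(⟨g, hg⟩ : P), ⟨k, hk⟩⁆).1 (by
      rw [map_commutatorElement, commutatorElement_eq_one_iff_mul_comm]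
      exact Subtype.ext (commute_of_mem_zpowers (commute_of_mem_zpowers (Commute.refl x) (f _).2).symm (f _).2).symm.eq)
    exact mem_centralizer_singleton_iff.2 h2.symm.eq
  exact (show Commute y a from mem_centralizer_singleton_iff.1 (h1 hy)).symm

/-- the elements of `N` with a centralizer of odd order -/
theorem Xs.constr_of_mem {n : ℕ} {x a : S} {N : Subgroup S} (h : Xs p n x N) (hA : Ari p n S) (ha : a ∈ N)
    (ho : ¬ 2 ∣ Nat.card (centralizer ({a} : Set S))) : Constr p a := by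
  have h1 := pelt_of_mem (IsPGroup.of_card h.card) ha
  exact constr_of_odd h1 ho fun V hV =>
    h.core_eq_bot hA h1 (h.le a ha) ho (dvd_card_cent h.ord h.le (h.comm a ha) h.card) hV

/-- a noncyclic abelian `p`-subgroup of `C(y)` all of whose elements have centralizers of characteristic `p` -/
theorem constr_of_noncyclic {y : S} (hy : ∃ k : ℕ, y ^ p ^ k = 1) (ho : ¬ 2 ∣ Nat.card (centralizer ({y} : Set S)))
    {A : Subgroup S} (hA : IsPGroup p A) (hc : IsMulCommutative A) (hn : ¬ IsCyclic A) (hAy : ∀ a ∈ A, Commute a y)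
    (h : ∀ a ∈ A, a ≠ 1 → Constr p a) : Constr p y := by
  refine constr_of_odd hy ho fun V hV => ?_
  obtain ⟨e, he⟩ := hA.exists_card_eq
  have h1 := S0058.result A V hn (fun g hg => mem_normalizer_fintype fun v hv => hV.norm g (hAy g hg).symm v hv)
    (by rw [he]; exact hV.cop.symm.pow_left e)
  rw [← h1]
  refine le_bot_iff.1 (iSup₂_le fun a ha w hw => ?_)
  exact hV.fpf hy (h a ha.1 ha.2) (hAy a ha.1) hw.1 (mem_centralizer_singleton_iff.1 hw.2).symm

/-- a Sylow subgroup between `N` and `C(x)` -/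
theorem Xs.exists_sylow {n a : ℕ} {x : S} {N : Subgroup S} (h : Xs p n x N)
    (hC : p ^ a ∣ Nat.card (centralizer ({x} : Set S))) (hS : ¬ p ^ (a + 1) ∣ Nat.card S) :
    ∃ P : Subgroup S, N ≤ P ∧ (∀ g ∈ P, Commute x g) ∧ Nat.card P = p ^ a ∧
      ∀ D : Subgroup S, IsPGroup p D → ∃ c : S, ∀ d ∈ D, c * d * c⁻¹ ∈ P := by
  have hN : IsPGroup p N := IsPGroup.of_card h.card
  obtain ⟨Q, hQ⟩ := (hN.comap_subtype (K := centralizer ({x} : Set S))).exists_le_sylow
  have hP : IsPGroup p ((Q : Subgroup (centralizer ({x} : Set S))).map (centralizer ({x} : Set S)).subtype) :=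
    Q.isPGroup'.map _
  have hd : p ^ a ∣ Nat.card ((Q : Subgroup (centralizer ({x} : Set S))).map (centralizer ({x} : Set S)).subtype) := by
    rw [card_map_of_injective (subtype_injective _)]
    exact Q.pow_dvd_card_of_pow_dvd_card hC
  have hS' : ¬ p ^ (a + 1) ∣ Nat.card (⊤ : Subgroup S) := by rwa [card_top]
  refine ⟨(Q : Subgroup (centralizer ({x} : Set S))).map (centralizer ({x} : Set S)).subtype,
    fun u hu => ⟨⟨u, mem_centralizer_singleton_iff.2 (h.le u hu).symm⟩, hQ hu, rfl⟩, ?_, ?_, fun D hD => ?_⟩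
  · rintro _ ⟨g, -, rfl⟩
    exact (mem_centralizer_singleton_iff.1 g.2).symm
  · obtain ⟨k, hk⟩ := hP.exists_card_eq
    have h1 : k ≤ a := by
      by_contra h2
      exact hS ((pow_dvd_pow p (by omega)).trans (hk ▸ card_subgroup_dvd_card _))
    rw [hk] at hd ⊢
    rw [le_antisymm h1 ((Nat.pow_dvd_pow_iff_le_right hp.out.one_lt).1 hd)]
  · obtain ⟨c, -, hc⟩ := exists_conj_mem hP le_top (max_of_card hd hS') hD le_top
    exact ⟨c, hc⟩

/-- it is enough to look at the commutator subgroup of a Sylow subgroup -/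
theorem rowAb_of_syl {m : ℕ} {P : Subgroup S}
    (hP : ∀ D : Subgroup S, IsPGroup p D → ∃ c : S, ∀ d ∈ D, c * d * c⁻¹ ∈ P)
    (h : ∀ y ∈ ⁅P, P⁆, orderOf y = p → y ∈ ⁅centralizer ({y} : Set S), centralizer ({y} : Set S)⁆ → AbAt p m y) :
    RowAb p m S := by
  intro D hD
  by_contra hna
  obtain ⟨y, hy, hyp, hyD⟩ := exists_deep hD.pg hna
  obtain ⟨c, hc⟩ := hP D hD.pg
  have h1 : D.map (MulAut.conj c).toMonoidHom ≤ P := by
    rintro _ ⟨d, hd, rfl⟩
    exact hc d hd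
  have h2 : c * y * c⁻¹ ∈ ⁅P, P⁆ := by
    refine commutator_mono h1 h1 ?_
    rw [← map_commutator]
    exact ⟨y, hy, rfl⟩
  have h3 : D ≤ centralizer ({y} : Set S) := fun d hd => mem_centralizer_singleton_iff.2 (hyD d hd).symm
  have h4 : IsConj y (c * y * c⁻¹) := isConj_iff.2 ⟨c, rfl⟩
  have h5 := h _ h2 ((MulEquiv.orderOf_eq (MulAut.conj c) y).trans hyp) (deep_conj h4 (commutator_mono h3 h3 hy))
  have h6 : ⁅D, D⁆ ≤ D := commutator_le.2 fun a ha b hb =>
    D.mul_mem (D.mul_mem (D.mul_mem ha hb) (D.inv_mem ha)) (D.inv_mem hb)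
  exact hna (h5.conj h4.symm D hD (h6 hy) hyD)

theorem commutator_le_of_index {P N : Subgroup S} {a e : ℕ} (hNP : N ≤ P) (hn : ∀ g ∈ P, ∀ u ∈ N, g * u * g⁻¹ ∈ N)
    (hN : Nat.card N = p ^ a) (hP : Nat.card P = p ^ (a + e)) (he : e ≤ 2) : ⁅P, P⁆ ≤ N := by
  have hNn : (N.subgroupOf P).Normal := ⟨fun u hu g => hn g g.2 u hu⟩
  have h1 : Nat.card (P ⧸ N.subgroupOf P) = p ^ e := by
    have h2 := card_eq_card_quotient_mul_card_subgroup (N.subgroupOf P)
    rw [hP, Nat.card_congr (subgroupOfEquivOfLe hNP).toEquiv, hN, pow_add, mul_comm] at h2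
    exact (Nat.eq_of_mul_eq_mul_right (pow_pos hp.out.pos a) h2).symm
  have h3 := forall_of_comm (comm_of_not_cube_dvd (p := p) (D := (⊤ : Subgroup (P ⧸ N.subgroupOf P)))
    (IsPGroup.of_card (by rw [card_top, h1])) (by
      rw [card_top, h1, Nat.pow_dvd_pow_iff_le_right hp.out.one_lt]
      omega))
  refine commutator_le.2 fun g hg k hk => ?_
  have h4 : ⁅(⟨g, hg⟩ : P), ⟨k, hk⟩⁆ ∈ N.subgroupOf P := by
    rw [← QuotientGroup.eq_one_iff]
    exact map_comm_eq_one (π := QuotientGroup.mk' _) (h3 _ (mem_top _) _ (mem_top _))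
  exact h4

/-- **the row, if a Sylow subgroup is abelian modulo `N`** -/
theorem Xs.rowAb {n e m : ℕ} {x : S} {N : Subgroup S} (h : Xs p n x N) (hA : Ari p n S) (hNN : H711.Crit.NN p S)
    (he : e ≤ 2) (hC : p ^ (2 * n + 1 + e) ∣ Nat.card (centralizer ({x} : Set S)))
    (hS : ¬ p ^ (2 * n + 1 + e + 1) ∣ Nat.card S)
    (hev : ∀ y : S, orderOf y = p → 2 ∣ Nat.card (centralizer ({y} : Set S)) →
      y ∈ ⁅centralizer ({y} : Set S), centralizer ({y} : Set S)⁆ → AbAt p m y) : RowAb p m S := by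
  obtain ⟨P, hNP, hP, hc, hD⟩ := h.exists_sylow hC hS
  refine rowAb_of_syl hD fun y hy hyp hd => ?_
  by_cases ho : 2 ∣ Nat.card (centralizer ({y} : Set S))
  · exact hev y hyp ho hd
  · exact (h.constr_of_mem hA
      (commutator_le_of_index hNP (fun g hg => h.norm g (hP g hg)) h.card hc he hy) ho).abAt hNN

/-- an element of `N ∖ ⟨x⟩` in the second centre of `P` -/
theorem Xs.exists_second {n : ℕ} {x : S} {N P : Subgroup S} (h : Xs p (n + 1) x N) (hP : IsPGroup p P) (hNP : N ≤ P)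
    (hx : ∀ g ∈ P, Commute x g) : ∃ K : Subgroup S, x ∈ K ∧ (∃ a ∈ K, a ∈ N ∧ a ∉ zpowers x) ∧
      ∀ b ∈ K, ∀ g ∈ P, b * g * b⁻¹ * g⁻¹ ∈ zpowers x := by
  have hZ : ((zpowers x).subgroupOf P).Normal := ⟨fun u hu g => by
    have h1 : Commute (u : S) g := commute_of_mem_zpowers (hx g g.2) hu
    change (g : S) * u * (g : S)⁻¹ ∈ zpowers x
    rw [← h1.eq, mul_inv_cancel_right]
    exact hu⟩
  set q := QuotientGroup.mk' ((zpowers x).subgroupOf P) with hq
  have hq1 : ∀ g : P, q g = 1 ↔ (g : S) ∈ zpowers x := fun g => QuotientGroup.eq_one_iff g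
  have hT : IsPGroup p (⊤ : Subgroup (P ⧸ (zpowers x).subgroupOf P)) :=
    (hP.to_quotient _).to_subgroup ⊤
  obtain ⟨_, ⟨a, ha, rfl⟩, hao, hac⟩ := exists_central hT (N := (N.subgroupOf P).map q) (fun h0 => by
    have h1 : N ≤ zpowers x := fun u hu => (hq1 ⟨u, hNP hu⟩).1 (by
      rw [← mem_bot, ← h0]
      exact ⟨_, hu, rfl⟩)
    have h2 := card_dvd_of_le h1
    rw [h.card, Nat.card_zpowers, h.ord] at h2
    have h3 := (Nat.pow_dvd_pow_iff_le_right hp.out.one_lt).1 (h2.trans (pow_one p).symm.dvd)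
    omega) le_top (by
    rintro d - _ ⟨u, hu, rfl⟩
    obtain ⟨g, rfl⟩ := QuotientGroup.mk'_surjective _ d
    exact ⟨g * u * g⁻¹, h.norm g (hx g g.2) u hu, by simp [hq]⟩)
  refine ⟨((center _).comap q).map P.subtype, ⟨⟨x, hNP h.mem⟩, ?_, rfl⟩, ⟨a, ⟨a, ?_, rfl⟩, ha, fun h1 => ?_⟩, ?_⟩
  · change q _ ∈ center _
    rw [(hq1 ⟨x, hNP h.mem⟩).2 (mem_zpowers x)]
    exact one_mem _
  · exact mem_center_iff.2 fun g => (hac g (mem_top g)).symm.eq
  · exact ne_one_of_order hao ((hq1 a).2 h1)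
  · rintro _ ⟨b, hb, rfl⟩ g hg
    refine (hq1 ⁅b, ⟨g, hg⟩⁆).1 (map_comm_eq_one ?_)
    exact (mem_center_iff.1 hb _).symm

/-- **the row in general** -/
theorem Xs.rowAb' {n a m : ℕ} {x : S} {N : Subgroup S} (h : Xs p (n + 1) x N) (hA : Ari p (n + 1) S)
    (hNN : H711.Crit.NN p S) (hexp : ∀ u ∈ N, u ^ p = 1) (hC : p ^ (a + 1) ∣ Nat.card (centralizer ({x} : Set S)))
    (hS : ¬ p ^ (a + 1 + 1) ∣ Nat.card S)
    (hev : ∀ y : S, orderOf y = p → 2 ∣ Nat.card (centralizer ({y} : Set S)) →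
      y ∈ ⁅centralizer ({y} : Set S), centralizer ({y} : Set S)⁆ → AbAt p m y)
    (hbig : ∀ y : S, orderOf y = p → 2 ∣ Nat.card (centralizer ({y} : Set S)) →
      p ^ a ∣ Nat.card (centralizer ({y} : Set S)) → Constr p y) : RowAb p m S := by
  obtain ⟨P, hNP, hP, hc, hD⟩ := h.exists_sylow hC hS
  refine rowAb_of_syl hD fun y hy hyp hd => ?_
  by_cases ho : 2 ∣ Nat.card (centralizer ({y} : Set S))
  · exact hev y hyp ho hd
  obtain ⟨K, hxK, ⟨b, hbK, hbN, hbx⟩, hK⟩ := h.exists_second (IsPGroup.of_card hc) hNP hP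
  have hAK : zpowers x ⊔ zpowers b ≤ K := sup_le (zpowers_le.2 hxK) (zpowers_le.2 hbK)
  have hAN : zpowers x ⊔ zpowers b ≤ N := sup_le (zpowers_le.2 h.mem) (zpowers_le.2 hbN)
  have hb : ∀ g ∈ zpowers x ⊔ zpowers b, Commute g b := commute_of_mem_sup
    (fun g hg => commute_of_mem_zpowers (h.le b hbN) hg) fun g hg => commute_of_mem_zpowers (Commute.refl b) hg
  refine (constr_of_noncyclic (pelt_of_order hyp) ho ((IsPGroup.of_card h.card).to_le hAN)
    (comm_of_forall fun g hg k hk => ?_) (fun h1 => ?_) (fun g hg => commute_of_comm_hom hP (hK g (hAK hg)) hy)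
    fun g hg hg1 => ?_).abAt hNN
  · exact commute_of_mem_sup (fun u hu => commute_of_mem_zpowers (h.le k (hAN hk)) hu)
      (fun u hu => commute_of_mem_zpowers (hb k hk).symm hu) g hg
  · obtain ⟨c, hc1, hc2⟩ := isCyclic_iff_le.1 h1
    have h2 := hc2 x (mem_sup_left (mem_zpowers x))
    have h3 : c ≠ 1 := by
      rintro rfl
      rw [zpowers_one_eq_bot, mem_bot] at h2
      exact ne_one_of_order h.ord h2
    have h4 := mem_zpowers_of_mem (orderOf_eq_prime (hexp c (hAN hc1)) h3) h2 (ne_one_of_order h.ord)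
    exact hbx (zpowers_le.2 h4 (hc2 b (mem_sup_right (mem_zpowers b))))
  · by_cases h1 : 2 ∣ Nat.card (centralizer ({g} : Set S))
    · exact hbig g (orderOf_eq_prime (hexp g (hAN hg)) hg1) h1
        ((dvd_card_cent h.ord hP (hK g (hAK hg)) hc).trans (card_dvd_of_le inf_le_right))
    · exact h.constr_of_mem hA (hAN hg) h1

end Cfsg.Agent.BHZ.Spor
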