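import Mathlib
import Cfsg.Agent.BHZ.Spor.CTools
import Cfsg.Agent.H235.S8.McLLoc
import Cfsg.Agent.H711.McLLy

/-!
# S4806, the sporadic row `McL`, `p = 3` (helper4)
-/

set_option autoImplicit false
set_option maxRecDepth 100000

namespace Cfsg.Agent.BHZ.Spor

open Cfsg Subgroup Cfsg.Agent.H235.S8.McLLoc Cfsg.Agent.H359.CT.McL
open Cfsg.Agent.H41.McLTwo.Ords (os)

theorem mcl_3 : ∀ (S : Type) [Group S] [Finite S], Spor.IsoMcL S → RowCyc 3 1 S := by
  intro S _ _ h D hD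
  have h3 : Fact (Nat.Prime 3) := ⟨Nat.prime_three⟩
  have hN : H711.Crit.NN 3 S := by
    obtain ⟨f⟩ := h
    exact H711.McLLy.nn_mcl.congr f.symm
  obtain ⟨e⟩ := exists_e h
  have hord : ∀ g : S, ∃ i, IsConj ((clT e).x i) g ∧ orderOf g = os i ∧
      Nat.card (centralizer ({g} : Set S)) = cc i := fun g => by
    obtain ⟨i, hi⟩ := (clT e).cover g
    refine ⟨i, hi, ?_, ?_⟩
    · rw [← order_x e i]
      obtain ⟨c, rfl⟩ := isConj_iff.1 hi
      exact orderOf_injective (MulAut.conj c).toMonoidHom (MulAut.conj c).injective _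
    · rw [← card_cent_of_conj hi]
      exact (clT e).card i
  by_contra hna
  have h9 := sq_dvd_of_not_cyclic hD.pg hna
  obtain ⟨t, ht1, ht2, ht3⟩ := exists_prime_of_not_regTriv (hD.false_of_regTriv hN)
  have hDt : D ≤ centralizer ({t} : Set S) := fun d hd => mem_centralizer_singleton_iff.2 (ht3 d hd)
  obtain ⟨i, hi, hi1, hi2⟩ := hord t
  have h9t := h9.trans (card_dvd_of_le hDt)
  rw [hi1] at ht1 ht2
  rw [hi2] at h9t
  have k1 : ∀ i : Fin 24, (os i).Prime → os i ≠ 3 → 3 ^ 2 ∣ cc i → i = 1 := by decide +kernel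
  obtain rfl := k1 i ht1 ht2 h9t
  have k2 : ¬ 3 ^ (2 + 1) ∣ cc 1 := by decide +kernel
  rw [← hi2] at k2
  have k3 : os 3 = 3 ∧ cc 3 = 3 ^ 5 * 4 := by decide +kernel
  have k4 : ∀ i : Fin 24, os i = 2 → i = 1 := by decide +kernel
  have : Fact (Nat.Prime 2) := ⟨Nat.prime_two⟩
  obtain ⟨s, hs⟩ := exists_prime_orderOf_dvd_card' (G := centralizer ({(clT e).x 3} : Set S)) 2 (by
    rw [((clT e).card 3).trans k3.2]; norm_num)
  obtain ⟨j, hj, hj1, -⟩ := hord s
  rw [orderOf_coe, hs] at hj1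
  obtain rfl := k4 j hj1.symm
  obtain ⟨g, hg⟩ := isConj_iff.1 (hj.symm.trans hi)
  have hy : orderOf (g * (clT e).x 3 * g⁻¹) = 3 :=
    ((MulAut.conj g).orderOf_eq _).trans ((order_x e 3).trans k3.1)
  obtain ⟨k, hk⟩ := pelt_of_order hy
  obtain ⟨c, -, hc⟩ := exists_conj_mem hD.pg hDt (max_of_card h9 k2) (isPGroup_zpowers hk) (zpowers_le.2 (by
    rw [mem_centralizer_singleton_iff, ← hg]
    exact ((show Commute (s : S) _ from mem_centralizer_singleton_iff.1 s.2).map (MulAut.conj g)).symm))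
  have hyD := hc _ (mem_zpowers _)
  have hcm := forall_of_comm (comm_of_not_cube_dvd hD.pg fun h0 => k2 (h0.trans (card_dvd_of_le hDt)))
  obtain ⟨U, hU, hUc⟩ := exists_normP_of_card (p := 3) (y := c * (g * (clT e).x 3 * g⁻¹) * c⁻¹) (a := 5) (n := 4) (by
    rw [← card_cent_of_conj (isConj_iff.2 ⟨c, rfl⟩), ← card_cent_of_conj (isConj_iff.2 ⟨g, rfl⟩)]
    exact ((clT e).card 3).trans k3.2)
  have h5 := card_dvd_of_le ((hU.le hD hyD (hcm _ hyD)).trans hDt)
  have h6 : 3 ^ 3 * 3 ∣ Nat.card U * 8 * 3 := by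
    have h7 : Nat.card U * 8 * 3 = Nat.card U * Nat.factorial 4 := by rw [mul_assoc]; rfl
    rw [h7]
    exact Dvd.dvd.trans (by norm_num) hUc
  exact k2 ((Nat.Coprime.dvd_of_dvd_mul_right (by norm_num) (Nat.dvd_of_mul_dvd_mul_right (by norm_num) h6)).trans h5)

end Cfsg.Agent.BHZ.Spor
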