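import Mathlib
import Cfsg.Agent.BHZ.Spor.Hole
import Cfsg.Agent.BHZ.Spor.RowMcL3
import Cfsg.Agent.TID.SO.Ly
import Cfsg.Agent.Classification.TransferSign
import Cfsg.Agent.SignalizersComponents.BalanceAux
import Cfsg.Agent.OrdDiv.Table
import Cfsg.Agent.S0000

/-!
# S4806, sporadic rows (helper25): `Ly`, `p = 3`
-/

set_option autoImplicit false
set_option maxRecDepth 100000
set_option linter.unusedSectionVars false

namespace Cfsg.Agent.BHZ.Spor

open Cfsg Subgroup

universe u

section

variable {p : ℕ} [hp : Fact p.Prime] {S : Type u} [Group S] [Finite S]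

/-- no components and a trivial `p'`-core -/
theorem constr_of_noComp {y : S} (hy : ∃ k : ℕ, y ^ p ^ k = 1) (hO : pPrimeCore p (centralizer ({y} : Set S)) = ⊥)
    (hK : ∀ K : Subgroup (centralizer ({y} : Set S) ⧸ pPrimeCore p (centralizer ({y} : Set S))), ¬ IsComponent K) :
    Constr p y := by
  let e := ((QuotientGroup.quotientMulEquivOfEq hO).trans QuotientGroup.quotientBot).symm
  refine Constr.of_over hy _ (fun x hx => mem_centralizer_singleton_iff.2 hx.symm) _ (Lib.Cores.pCore_normal p)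
    (Lib.Cores.pCore_isPGroup p) fun r _ h1 h2 => zpowers_eq_bot.1 ?_
  exact SignalizersComponents.BalanceAux.eq_bot_of_le_centralizer_components p hO _
    (by rw [Nat.card_zpowers]; exact ((Nat.Prime.coprime_iff_not_dvd hp.out).2 h2).symm)
    (zpowers_le.2 (mem_centralizer_iff.2 fun n hn => h1 n hn))
    fun K hK' => absurd (SignalizersComponents.Components.isComponent_map_equiv e hK') (hK _)

/-- the Frattini argument for a normal `p'`-subgroup -/
theorem dvd_card_normalizer {N : Subgroup S} [N.Normal] (hN : (Nat.card N).Coprime p) {r : ℕ} [Fact r.Prime]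
    (R : Sylow r N) {k : ℕ} (hk : p ^ k ∣ Nat.card S) :
    p ^ k ∣ Nat.card (normalizer (((R : Subgroup N).map N.subtype : Subgroup S) : Set S)) := by
  have hF := Sylow.normalizer_sup_eq_top R
  generalize (R : Subgroup N).map N.subtype = V at hF
  have h3 : (normalizer (V : Set S)).index ∣ Nat.card N := by
    have h5 : Nat.card S ∣ Nat.card (normalizer (V : Set S)) * Nat.card N := by
      have h7 : N.index ∣ Nat.card (normalizer (V : Set S)) := by
        rw [← relIndex_top_right, ← hF, relIndex_sup_right]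
        exact index_dvd_card _
      rw [← N.card_mul_index, mul_comm]
      exact Nat.mul_dvd_mul_right h7 _
    rw [← (normalizer (V : Set S)).card_mul_index] at h5
    exact Nat.dvd_of_mul_dvd_mul_left Nat.card_pos h5
  rw [← (normalizer (V : Set S)).card_mul_index] at hk
  exact Nat.Coprime.dvd_of_dvd_mul_right ((Nat.Coprime.coprime_dvd_left h3 hN).symm.pow_left _) hk

end

namespace Ly3

open Cfsg.Agent.CpAutLy Cfsg.Agent.H582.Ly Cfsg.Agent.TypeM.Two

theorem core_eq_bot {H : Type u} [Group H] [Finite H] (h : Bound.Hyp H) (h5 : 3 ^ 5 ∣ Nat.card H) {s w : H}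
    (hs : orderOf s = 2) (hw : orderOf w = 2) (hsw : orderOf (s * w) = 2) (hc : w * s = s * w)
    (hr : ∀ u r : H, orderOf u = 2 → orderOf r = 5 → r * u = u * r →
      ¬ 27 ∣ Nat.card (centralizer ({u} : Set H) ⊓ centralizer ({r} : Set H) : Subgroup H)) : pPrimeCore 3 H = ⊥ := by
  have h2 : Fact (Nat.Prime 2) := ⟨Nat.prime_two⟩
  have h3 : Fact (Nat.Prime 3) := ⟨Nat.prime_three⟩
  have hN := Lib.Cores.pPrimeCore_normal (G := H) 3
  have hco := Lib.Cores.pPrimeCore_coprime (G := H) 3
  generalize pPrimeCore 3 H = Y at hN hco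
  by_contra h0
  by_cases he : 2 ∣ Nat.card Y
  · obtain ⟨R⟩ : Nonempty (Sylow 2 Y) := inferInstance
    have h1 := dvd_card_normalizer hco R h5
    have hT : IsPGroup 2 ((R : Subgroup Y).map Y.subtype) := R.isPGroup'.map _
    have hd : 2 ∣ Nat.card ((R : Subgroup Y).map Y.subtype) := by
      rw [card_map_of_injective (subtype_injective _)]
      exact R.dvd_card_of_dvd_card he
    generalize (R : Subgroup Y).map Y.subtype = T at h1 hT hd
    by_cases hcy : IsCyclic T
    · obtain ⟨e, he2⟩ := exists_prime_orderOf_dvd_card' (G := T) 2 hd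
      have he3 : orderOf (e : H) = 2 := by rw [orderOf_coe, he2]
      have he4 : (e : H) * e = 1 := by rw [← pow_two, ← he3, pow_orderOf_eq_one]
      have h4 : normalizer (T : Set H) ≤ centralizer ({(e : H)} : Set H) := fun g hg => by
        have h6 := Classification.TransferSign.eq_of_isCyclic T hcy ((mem_normalizer_iff.1 hg e).1 e.2) e.2
          (by rw [conj_mul, he4, mul_one, mul_inv_cancel]) he4
          (fun h7 => ne_one_of_order he3 (conj_eq_one_iff.1 h7)) (ne_one_of_order he3)
        exact mem_centralizer_singleton_iff.2 (mul_inv_eq_iff_eq_mul.1 h6)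
      have h6 := h1.trans (card_dvd_of_le h4)
      rcases h.one e he3 with h7 | h7 <;> rw [h7] at h6 <;> norm_num at h6
    · exact Bound.not_eightyone h hT hcy ((by norm_num : 3 ^ 4 ∣ 3 ^ 5).trans h1)
  obtain ⟨u, -, hu, h9⟩ := TID.SO.exists_fix_four hs hw hsw hc (mem_top s) (mem_top w)
    (normalizer_eq_top (H := Y)).ge he h0
  have h10 : Nat.card (Y ⊓ centralizer ({u} : Set H) : Subgroup H) ∣ Nat.card (centralizer ({u} : Set H)) :=
    card_dvd_of_le inf_le_right
  have h11 : Nat.card (Y ⊓ centralizer ({u} : Set H) : Subgroup H) ∣ Nat.card Y := card_dvd_of_le inf_le_left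
  have h12 : (Nat.card (Y ⊓ centralizer ({u} : Set H) : Subgroup H)).Coprime (2 ^ 4 * 3 ^ 4) :=
    Nat.Coprime.mul_right
      (Nat.Coprime.pow_right _ ((Nat.Prime.coprime_iff_not_dvd Nat.prime_two).2 fun h => he (h.trans h11)).symm)
      (Nat.Coprime.pow_right _ (Nat.Coprime.coprime_dvd_left h11 hco))
  have h14 : Nat.card (Y ⊓ centralizer ({u} : Set H) : Subgroup H) = 5 := by
    have h15 : Nat.card (Y ⊓ centralizer ({u} : Set H) : Subgroup H) ∣ 2 ^ 4 * 3 ^ 4 * 5 := by
      rcases h.one u hu with h | h <;> exact h10.trans (by rw [h]; norm_num)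
    exact ((Nat.dvd_prime Nat.prime_five).1 (h12.dvd_of_dvd_mul_left h15)).resolve_left fun h => h9 (card_eq_one.1 h)
  obtain ⟨R, hR⟩ := Sylow.exists_subgroup_card_pow_prime (G := centralizer ({u} : Set H)) 3 (n := 3) (by
    rcases h.one u hu with h | h <;> rw [h] <;> norm_num)
  have hR' : Nat.card (R.map (centralizer ({u} : Set H)).subtype) = 3 ^ 3 := by
    rw [card_map_of_injective (subtype_injective _), hR]
  have hRle : R.map (centralizer ({u} : Set H)).subtype ≤ centralizer ({u} : Set H) := map_subtype_le _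
  obtain ⟨y, hy, hy1, hd⟩ := TID.SO.exists_orbit (p := 3) (IsPGroup.of_card hR') h9
    (TID.le_Nz_inf (le_top.trans (normalizer_eq_top (H := Y)).ge) (hRle.trans le_normalizer))
  rw [hR', h14] at hd
  have h15 := (show Nat.Coprime 27 4 by norm_num).dvd_of_dvd_mul_left hd
  have h16 : orderOf y = 5 := by
    have := Fact.mk Nat.prime_five
    refine orderOf_eq_prime ?_ hy1
    rw [← h14]
    exact orderOf_dvd_iff_pow_eq_one.1 (orderOf_dvd_natCard _ hy)
  exact hr u y hu h16 (mem_centralizer_singleton_iff.1 hy.2) (h15.trans (card_dvd_of_le (inf_le_inf_right _ hRle)))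

theorem mcl_five {M : Type u} [Group M] [Finite M] (h : Spor.IsoMcL M) {g : M} (hg : orderOf g = 3) :
    3 ^ 5 ∣ Nat.card (centralizer ({g} : Set M)) := by
  obtain ⟨e⟩ := H235.S8.McLLoc.exists_e h
  obtain ⟨i, hi⟩ := (H359.CT.McL.clT e).cover g
  have h1 : H41.McLTwo.Ords.os i = 3 := by
    rw [← H235.S8.McLLoc.order_x e i, ← hg]
    obtain ⟨c, rfl⟩ := isConj_iff.1 hi
    exact (orderOf_injective (MulAut.conj c).toMonoidHom (MulAut.conj c).injective _).symm
  have k1 : ∀ i : Fin 24, H41.McLTwo.Ords.os i = 3 → 3 ^ 5 ∣ H359.CT.McL.cc i := by decide +kernel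
  rw [← card_cent_of_conj hi]
  exact (k1 i h1).trans ((H359.CT.McL.clT e).card i).symm.dvd

variable {G : Type u} [Group G] [Finite G]

theorem card_map_cent {x : G} (g : centralizer ({x} : Set G)) :
    Nat.card (centralizer ({g} : Set (centralizer ({x} : Set G)))) ∣ Nat.card (centralizer ({(g : G)} : Set G)) := by
  rw [← card_map_of_injective (K := centralizer ({g} : Set (centralizer ({x} : Set G))))
    (centralizer ({x} : Set G)).subtype_injective]
  refine card_dvd_of_le ?_
  rintro _ ⟨c, hc, rfl⟩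
  exact mem_centralizer_singleton_iff.2 (congrArg Subtype.val (mem_centralizer_singleton_iff.1 hc))

theorem five_dvd (hcard : Nat.card G = 51765179004000000) {x₀ : G} (h₀ : TData x₀) {y : G} (hy : orderOf y = 3) :
    3 ^ 5 ∣ Nat.card (centralizer ({y} : Set G)) := by
  have hidx : ¬ 3 ∣ (centralizer ({x₀} : Set G)).index :=
    not_dvd_index (k := 7) (a := 23669492000000) (b := 1232000) (by rw [hcard]; norm_num)
      (by rw [h₀.mcl.card]; norm_num) Nat.prime_three (by norm_num)
  obtain ⟨g, hg⟩ := exists_conj_le Nat.prime_three (isPGroup_zpowers' Nat.prime_three hy) hidx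
  have h1 := hg y (mem_zpowers y)
  rw [card_cent_of_conj (isConj_iff.2 ⟨g, rfl⟩ : IsConj y (g * y * g⁻¹))]
  refine Dvd.dvd.trans ?_ (card_map_cent ⟨g * y * g⁻¹, h1⟩)
  by_cases hc : (⟨g * y * g⁻¹, h1⟩ : centralizer ({x₀} : Set G)) ∈ center (centralizer ({x₀} : Set G))
  · have h2 : centralizer ({⟨g * y * g⁻¹, h1⟩} : Set (centralizer ({x₀} : Set G))) = ⊤ :=
      eq_top_iff.2 fun c _ => mem_centralizer_singleton_iff.2 (mem_center_iff.1 hc c)
    rw [h2, card_top, h₀.mcl.card]
    norm_num
  · refine Dvd.dvd.trans (mcl_five h₀.mcl.quot (Row.orderOf_mk Nat.prime_three ?_ hc)) (Row.card_cent_quot _)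
    rw [Subgroup.orderOf_mk]
    exact (MulEquiv.orderOf_eq (MulAut.conj g) y).trans hy

theorem core_cent {x₀ : G} (T : Dat G x₀) {y : G} (hy : orderOf y = 3) (hne : ¬ ∃ g : G, g * y * g⁻¹ = x₀) :
    pPrimeCore 3 (centralizer ({y} : Set G)) = ⊥ := by
  obtain ⟨s, w, hs, hw, hsw, h6, h7, h8⟩ := exists_four T.L T.card T.three hy hne
  refine core_eq_bot (Types.hyp T.L hy fun t ht hty h => hne ?_) (five_dvd T.card T.three hy)
    (s := ⟨s, mem_centralizer_singleton_iff.2 h6⟩) (w := ⟨w, mem_centralizer_singleton_iff.2 h7⟩)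
    (by rw [orderOf_mk, hs]) (by rw [orderOf_mk, hw]) (by rw [← orderOf_coe]; exact hsw) (Subtype.ext h8)
    fun u r hu hr hru h27 => ?_
  · obtain ⟨s, h1, h2, h4⟩ := T.three.nn
    exact Types.exists_conj_of_nn T.L hy ht hty h T.three.ord h1 h2 h4
  · rcases TID.SO.ly_not_five T (u := (u : G)) (y := (r : G)) (by rw [orderOf_coe, hu]) (by rw [orderOf_coe, hr])
      with h1 | h1
    · refine h1 (h27.trans ?_)
      rw [← card_map_of_injective (centralizer ({y} : Set G)).subtype_injective]
      refine card_dvd_of_le ?_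
      rintro _ ⟨c, hc, rfl⟩
      exact ⟨mem_centralizer_singleton_iff.2 (congrArg Subtype.val (mem_centralizer_singleton_iff.1 hc.1)),
        mem_centralizer_singleton_iff.2 (congrArg Subtype.val (mem_centralizer_singleton_iff.1 hc.2))⟩
    · exact h1 (mem_centralizer_singleton_iff.2 (congrArg Subtype.val hru))

theorem abAt_mcl {G : Type} [Group G] [Finite G] {x : G} (hx : orderOf x = 3)
    (hz : Nat.card (center (centralizer ({x} : Set G))) = 3)
    (hq : Spor.IsoMcL (centralizer ({x} : Set G) ⧸ center (centralizer ({x} : Set G)))) : AbAt 3 1 x := by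
  have h3 : Fact (Nat.Prime 3) := ⟨Nat.prime_three⟩
  exact abAt_of_descend (QuotientGroup.mk' _) (QuotientGroup.mk'_surjective _)
    (fun n hn => (TypeM.McLFromLy.mem_center_iff_zpowers hx hz).1 ((QuotientGroup.eq_one_iff n).1 hn)) (mcl_3 _ hq)

theorem row : RowAb 3 1 Spor.Ly := by
  have h3 : Fact (Nat.Prime 3) := ⟨Nat.prime_three⟩
  have hfin : Finite Spor.Ly := Cfsg.Agent.Ly.Setup.finite_ly
  obtain ⟨x₀, ⟨T⟩⟩ := exists_dat (L := Spor.Ly) ⟨MulEquiv.refl _⟩
  refine rowAb_of_abAt fun y hy _ => ?_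
  by_cases h : ∃ g : Spor.Ly, g * y * g⁻¹ = x₀
  · exact (abAt_mcl T.three.ord T.three.mcl.zcard T.three.mcl.quot).conj (isConj_iff.2 h).symm
  rcases Row.dichotomy (fun K _ _ h => S0205.result h) (fun _ _ _ _ => S0000.result) OrdDiv.table hy with
    ⟨x, g, hx, hg⟩ | hK
  · exact (abAt_mcl hx.ord hx.zcard hx.quot).conj (isConj_iff.2 ⟨g, hg⟩).symm
  · exact (constr_of_noComp (pelt_of_order hy) (core_cent T hy h) hK).abAt H711.McLLy.nn_ly

end Ly3

theorem ly_3 : ∀ (S : Type) [Group S] [Finite S], Spor.IsoLy S → RowAb 3 1 S := by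
  rintro S _ _ ⟨e⟩
  have h3 : Fact (Nat.Prime 3) := ⟨Nat.prime_three⟩
  exact Ly3.row.congr e.symm

end Cfsg.Agent.BHZ.Spor
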