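import Cfsg.Agent.BHZ.Spor.AllA
import Cfsg.Agent.BHZ.Spor.RowCo13
import Cfsg.Agent.BHZ.Spor.RowCo23
import Cfsg.Agent.BHZ.Spor.RowLy3
import Cfsg.Agent.BHZ.Spor.Bridge

/-!
# BHZ, sporadic groups and the Tits group: all rows

`rows : Rows`, and the two fields `spor`, `tits` of the final assembly.
-/

namespace Cfsg.Agent.BHZ.Spor

universe u

theorem rows : Rows := rows_of co1_3 co2_3 ly_3

theorem spor_row : Nil.RowFor.{u} (fun _ S _ => IsSporadicGroup S) := rowFor_spor rows

theorem tits_row : Nil.RowFor.{u} (fun _ S _ => Lie.IsoTits S) := rowFor_tits rows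

end Cfsg.Agent.BHZ.Spor
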