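import Mathlib
import Cfsg.Agent.BHZ.Spor.CTools

/-!
# S4806, sporadic rows: the argument in the centralizer of an involution (helper4)
-/

set_option autoImplicit false
set_option linter.unusedSectionVars false

namespace Cfsg.Agent.BHZ.Spor

open Subgroup
open scoped commutatorElement

universe u v

variable {p m : ℕ} [hp : Fact p.Prime] {S : Type u} [Group S] [Finite S] {D : Subgroup S}

/-- if the `p`-regular elements of `C(D)` are `1` and `t`, then `C(t)` is not `NN` -/
theorem Loc.false_of_pair (hD : Loc p m D) (hm : m.Coprime 2) {t : S} (ht : t ^ 2 = 1) (htD : ∀ d ∈ D, Commute d t)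
    (hr : ∀ y : S, (∀ d ∈ D, Commute d y) → ¬ p ∣ orderOf y → y = 1 ∨ y = t)
    (hN : H711.Crit.NN p (centralizer ({t} : Set S))) : False := by
  obtain ⟨g, hg, hgD, hmax⟩ := hD.syl
  have hp1 : IsPGroup p (D.subgroupOf (centralizer ({t} : Set S))) := hD.pg.comap_subtype
  obtain ⟨Q, hQ⟩ := hp1.exists_le_sylow
  have hle : D ≤ centralizer ({t} : Set S) := fun d hd => mem_centralizer_singleton_iff.2 (htD d hd)
  have hQD : (Q : Subgroup (centralizer ({t} : Set S))).map (centralizer ({t} : Set S)).subtype ≤ D := by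
    refine hmax _ (Q.isPGroup'.map _) (fun d hd => ⟨⟨d, hle hd⟩, hQ hd, rfl⟩) ?_
    rintro _ ⟨k, -, rfl⟩
    rcases hr g hgD hg with h | h <;> rw [h]
    · exact Commute.one_right _
    · exact mem_centralizer_singleton_iff.1 k.2
  obtain ⟨x, hx, hn, u, hu, hne⟩ := hN.all Q
  have hxt : Commute (x : S) t := mem_centralizer_singleton_iff.1 x.2
  have h1 := hD.fus D le_rfl x (fun q hq => hQD ⟨_, hn ⟨q, hle hq⟩ (hQ hq), rfl⟩) (by rwa [orderOf_coe])
    (fun y hy hyr => by
      rcases hr y hy hyr with h | h <;> rw [h]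
      · exact Tr.one_right _
      · exact Tr.of_coprime_m hxt ht hm) u (hQD ⟨u, hu, rfl⟩)
  exact hne (Subtype.ext (by
    change (x : S) * u * (x : S)⁻¹ = u
    rw [← h1.eq, mul_inv_cancel_right]))

/-- `C(D)` is a `{2, p}`-group whose Sylow `2`-subgroups have order `2` -/
theorem Loc.pair_of_card (hD : Loc p m D) (hp2 : p ≠ 2) {t : S} (ht : orderOf t = 2) (htD : ∀ d ∈ D, Commute d t)
    (h1 : ∀ r : S, (orderOf r).Prime → (∀ d ∈ D, Commute d r) → orderOf r = 2 ∨ orderOf r = p)
    (h4 : ¬ 4 ∣ Nat.card (centralizer (D : Set S))) :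
    ∀ y : S, (∀ d ∈ D, Commute d y) → ¬ p ∣ orderOf y → y = 1 ∨ y = t := by
  obtain ⟨P⟩ : Nonempty (Sylow p (centralizer (D : Set S))) := inferInstance
  have hi : (P : Subgroup (centralizer (D : Set S))).index ∣ 2 := by
    have h2 : ¬ p ∣ (P : Subgroup (centralizer (D : Set S))).index := P.not_dvd_index
    have h3 := (P : Subgroup (centralizer (D : Set S))).index_dvd_card
    generalize (P : Subgroup (centralizer (D : Set S))).index = n at h2 h3
    have h5 : ∀ q : ℕ, q.Prime → q ∣ n → q = 2 := fun q hq hqn => by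
      have : Fact q.Prime := ⟨hq⟩
      obtain ⟨w, hw⟩ := exists_prime_orderOf_dvd_card' (G := centralizer (D : Set S)) q (hqn.trans h3)
      have hw' : orderOf (w : S) = q := by rw [orderOf_coe, hw]
      rcases h1 w (hw' ▸ hq) (fun d hd => mem_centralizer_iff.1 w.2 d hd) with h | h
      · exact hw' ▸ h
      · exact (h2 (by rw [← h, hw']; exact hqn)).elim
    have hn0 : n ≠ 0 := by
      rintro rfl
      exact h2 (dvd_zero p)
    obtain ⟨k, hk⟩ : ∃ k, n = 2 ^ k := ⟨_, Nat.eq_prime_pow_of_unique_prime_dvd hn0 fun hq hqn => h5 _ hq hqn⟩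
    have hk2 : k < 2 := by
      by_contra h0
      exact h4 ((show 2 ^ 2 ∣ n from hk ▸ pow_dvd_pow 2 (by omega)).trans h3)
    rw [hk]
    interval_cases k <;> norm_num
  have ht' : (⟨t, mem_centralizer_iff.2 htD⟩ : centralizer (D : Set S)) ∉ (P : Subgroup (centralizer (D : Set S))) := by
    intro h0
    obtain ⟨k, hk⟩ := pelt_of_mem P.isPGroup' h0
    have h2 : t = 1 := eq_one_of_reg (p := p) (k := k) (by
      rw [ht]
      exact fun h => hp2 ((Nat.prime_dvd_prime_iff_eq hp.out Nat.prime_two).1 h)) (congrArg Subtype.val hk)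
    rw [h2, orderOf_one] at ht
    norm_num at ht
  have hi2 : (P : Subgroup (centralizer (D : Set S))).index = 2 := by
    rcases (Nat.dvd_prime Nat.prime_two).1 hi with h | h
    · rw [index_eq_one] at h
      exact (ht' (h ▸ mem_top _)).elim
    · exact h
  have hN : (P : Subgroup (centralizer (D : Set S))).Normal := normal_of_index_eq_two hi2
  have hPD : (P : Subgroup (centralizer (D : Set S))).map (centralizer (D : Set S)).subtype ≤ D := by
    refine hD.core _ (P.isPGroup'.map _) (fun x hx => ?_) fun x hx => ?_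
    · rintro _ ⟨u, hu, rfl⟩
      refine ⟨u, hu, ?_⟩
      change (u : S) = x * u * x⁻¹
      rw [mem_centralizer_iff.1 u.2 x hx, mul_inv_cancel_right]
    · rintro _ ⟨u, hu, rfl⟩
      exact ⟨_, hN.conj_mem u hu ⟨x, mem_centralizer_iff.2 hx⟩, rfl⟩
  intro y hy hyr
  by_cases h0 : (⟨y, mem_centralizer_iff.2 hy⟩ : centralizer (D : Set S)) ∈ (P : Subgroup (centralizer (D : Set S)))
  · obtain ⟨k, hk⟩ := pelt_of_mem P.isPGroup' h0
    exact Or.inl (eq_one_of_reg hyr (congrArg Subtype.val hk))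
  · have h2 := (mul_mem_iff_of_index_two hi2).2 (iff_of_false h0 ht')
    have h3 : y * t ∈ D := hPD ⟨_, h2, rfl⟩
    have h5 : Commute y t := by
      have := (htD _ h3).eq
      rw [← mul_assoc t] at this
      exact mul_right_cancel this
    obtain ⟨k, hk⟩ := hD.pelt h3
    have h6 : y * t = 1 := eq_one_of_reg (p := p) (fun h => by
      rcases (Nat.Prime.dvd_mul hp.out).1 (h.trans h5.orderOf_mul_dvd_mul_orderOf) with h7 | h7
      · exact hyr h7
      · rw [ht] at h7
        exact hp2 ((Nat.prime_dvd_prime_iff_eq hp.out Nat.prime_two).1 h7)) hk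
    right
    have h7 : t * t = 1 := by rw [← pow_two, ← ht, pow_orderOf_eq_one]
    exact mul_right_cancel (h6.trans h7.symm)

/-- a group of order divisible by `4` has an involution `t` and a further element `u` of `C(t)` with `u² ∈ ⟨t⟩` -/
theorem exists_two_of_four {C : Type v} [Group C] [Finite C] (h4 : 4 ∣ Nat.card C) :
    ∃ t u : C, orderOf t = 2 ∧ Commute u t ∧ u ≠ 1 ∧ u ≠ t ∧ (u ^ 2 = 1 ∨ u ^ 2 = t) := by
  have h2 : Fact (Nat.Prime 2) := ⟨Nat.prime_two⟩
  obtain ⟨T, hT⟩ := Sylow.exists_subgroup_card_pow_prime 2 (G := C) (n := 2) h4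
  have hc := forall_of_comm (IsPGroup.isMulCommutative_of_card_eq_prime_sq hT)
  obtain ⟨t, ht⟩ := exists_prime_orderOf_dvd_card' (G := T) 2 (by rw [hT]; norm_num)
  have ht' : orderOf (t : C) = 2 := by rw [orderOf_coe, ht]
  have hne : zpowers t ≠ ⊤ := fun h => by
    have h1 := Nat.card_zpowers t
    rw [h, card_top, hT, ht] at h1
    norm_num at h1
  obtain ⟨u, hu⟩ : ∃ u : T, u ∉ zpowers t := by
    by_contra h0
    push Not at h0
    exact hne (eq_top_iff.2 fun u _ => h0 u)
  have hi : (zpowers t).index = 2 := by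
    have h1 := (zpowers t).card_mul_index
    rw [Nat.card_zpowers, ht, hT] at h1
    omega
  refine ⟨t, u, ht', hc _ u.2 _ t.2, fun h => hu ?_, fun h => hu ?_, ?_⟩
  · rw [show u = 1 from Subtype.ext h]
    exact one_mem _
  · rw [show u = t from Subtype.ext h]
    exact mem_zpowers _
  · classical
    have h1 : u ^ 2 ∈ zpowers t := by
      rw [pow_two]
      exact mul_self_mem_of_index_two hi u
    rw [mem_zpowers_iff_mem_range_orderOf, ht, Finset.mem_image] at h1
    obtain ⟨k, hk, h⟩ := h1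
    have hk' := Finset.mem_range.1 hk
    interval_cases k
    · exact Or.inl (congrArg Subtype.val (h.symm.trans (pow_zero t)))
    · exact Or.inr (congrArg Subtype.val (h.symm.trans (pow_one t)))

/-- **the argument in `C(t)`** -/
theorem Loc.false_of_inv (hD : Loc p m D) (hm : m.Coprime 2) (hp2 : p ≠ 2) (hS : H711.Crit.NN p S)
    (h1 : ∀ r : S, (orderOf r).Prime → (∀ d ∈ D, Commute d r) → orderOf r = 2 ∨ orderOf r = p)
    (h2 : ∀ t : S, orderOf t = 2 → (∀ d ∈ D, Commute d t) → H711.Crit.NN p (centralizer ({t} : Set S)) ∧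
      ∀ u : S, Commute u t → (∀ d ∈ D, Commute d u) → u ^ 2 = 1 ∨ u ^ 2 = t → u = 1 ∨ u = t) : False := by
  obtain ⟨t, ht, htp, htD⟩ := exists_prime_of_not_regTriv (hD.false_of_regTriv hS)
  have ht2 := (h1 t ht htD).resolve_right htp
  refine hD.false_of_pair hm (by rw [← ht2, pow_orderOf_eq_one]) htD (hD.pair_of_card hp2 ht2 htD h1 fun h4 => ?_)
    (h2 t ht2 htD).1
  obtain ⟨a, u, ha, hua, hu1, hu2, hu3⟩ := exists_two_of_four h4
  rcases (h2 a (by rw [orderOf_coe, ha]) fun d hd => mem_centralizer_iff.1 a.2 d hd).2 u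
    (congrArg Subtype.val hua.eq) (fun d hd => mem_centralizer_iff.1 u.2 d hd)
    (hu3.imp (congrArg Subtype.val) (congrArg Subtype.val)) with h | h
  · exact hu1 (Subtype.ext h)
  · exact hu2 (Subtype.ext h)

/-- the condition of `Loc.false_of_inv` from a quotient `C(t)/⟨t⟩` -/
theorem inv_cond (hp2 : p ≠ 2) (hD : IsPGroup p D) (hna : ¬ IsMulCommutative D) {t : S} (ht : orderOf t = 2)
    (htD : ∀ d ∈ D, Commute d t) {X : Type v} [Group X] (ρ : centralizer ({t} : Set S) →* X)
    (hs : Function.Surjective ρ) (hk : ∀ c, ρ c = 1 ↔ (c : S) = 1 ∨ (c : S) = t) (hN : H711.Crit.NN p X)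
    (hX : ∀ w : X, orderOf w = 2 → ¬ p ^ 3 ∣ Nat.card (centralizer ({w} : Set X))) :
    H711.Crit.NN p (centralizer ({t} : Set S)) ∧
      ∀ u : S, Commute u t → (∀ d ∈ D, Commute d u) → u ^ 2 = 1 ∨ u ^ 2 = t → u = 1 ∨ u = t := by
  refine ⟨hN.of_surjective ρ hs, fun u hu huD hu2 => ?_⟩
  have : Finite X := Finite.of_surjective ρ hs
  by_contra h0
  let u' : centralizer ({t} : Set S) := ⟨u, mem_centralizer_singleton_iff.2 hu⟩
  have h1 : ρ u' ≠ 1 := fun h => h0 ((hk _).1 h)
  have h2 : ρ u' ^ 2 = 1 := by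
    rw [← map_pow]
    exact (hk _).2 hu2
  have h3 : orderOf (ρ u') = 2 := orderOf_eq_prime h2 h1
  have hle : D ≤ centralizer ({t} : Set S) := fun d hd => mem_centralizer_singleton_iff.2 (htD d hd)
  have hp1 : IsPGroup p (D.subgroupOf (centralizer ({t} : Set S))) := hD.comap_subtype
  have ht2 : t ^ 2 = 1 := by rw [← ht, pow_orderOf_eq_one]
  have h4 := comm_of_map_comm hp1 ρ (fun n hn => mem_center_iff.2 fun g => Subtype.ext (by
      change (g : S) * n = n * g
      rcases (hk n).1 hn with h | h <;> rw [h]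
      · rw [one_mul, mul_one]
      · exact mem_centralizer_singleton_iff.1 g.2)) (e := 2) (fun n hn => Subtype.ext (by
      change (n : S) ^ 2 = 1
      rcases (hk n).1 hn with h | h <;> rw [h]
      · exact one_pow 2
      · exact ht2)) (fun h => hp2 ((Nat.prime_dvd_prime_iff_eq hp.out Nat.prime_two).1 h))
    (comm_of_not_cube_dvd (hp1.map ρ) fun h => hX _ h3 (h.trans (card_dvd_of_comm (by
      rintro _ ⟨d, hd, rfl⟩
      exact (show Commute d u' from Subtype.ext (huD d hd).eq).map ρ))))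
  refine hna (comm_of_forall fun a ha b hb => ?_)
  exact congrArg Subtype.val (forall_of_comm h4 ⟨a, hle ha⟩ ha ⟨b, hle hb⟩ hb).eq

/-- the condition on an involution -/
def InvQ (p : ℕ) {S : Type u} [Group S] (t : S) : Prop :=
  H711.Crit.NN p (centralizer ({t} : Set S)) ∧ ∀ D : Subgroup S, IsPGroup p D → ¬ IsMulCommutative D →
    (∀ d ∈ D, Commute d t) → ∀ u : S, Commute u t → (∀ d ∈ D, Commute d u) → u ^ 2 = 1 ∨ u ^ 2 = t → u = 1 ∨ u = t

theorem invQ_of_hom (hp2 : p ≠ 2) {t : S} (ht : orderOf t = 2) {X : Type v} [Group X]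
    (ρ : centralizer ({t} : Set S) →* X) (hs : Function.Surjective ρ) (hk : ∀ c, ρ c = 1 → (c : S) = 1 ∨ (c : S) = t)
    (hZ : center X = ⊥) (hN : H711.Crit.NN p X)
    (hX : ∀ w : X, orderOf w = 2 → ¬ p ^ 3 ∣ Nat.card (centralizer ({w} : Set X))) : InvQ p t := by
  refine ⟨hN.of_surjective ρ hs, fun D hD hna htD => (inv_cond hp2 hD hna ht htD ρ hs (fun c => ⟨hk c, ?_⟩) hN hX).2⟩
  rintro (h | h)
  · rw [show c = 1 from Subtype.ext h, map_one]
  · rw [← mem_bot, ← hZ, mem_center_iff]
    intro g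
    obtain ⟨g, rfl⟩ := hs g
    rw [← map_mul, ← map_mul]
    congr 1
    refine Subtype.ext ?_
    change (g : S) * c = c * g
    rw [h]
    exact mem_centralizer_singleton_iff.1 g.2

/-- centralizers under an isomorphism -/
def centEquiv {T : Type v} [Group T] (e : S ≃* T) (t : S) :
    centralizer ({t} : Set S) ≃* centralizer ({e t} : Set T) where
  toFun c := ⟨e c, mem_centralizer_singleton_iff.2 (by
    rw [← map_mul, ← map_mul, mem_centralizer_singleton_iff.1 c.2])⟩
  invFun c := ⟨e.symm c, mem_centralizer_singleton_iff.2 (e.injective (by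
    rw [map_mul, map_mul, e.apply_symm_apply, mem_centralizer_singleton_iff.1 c.2]))⟩
  left_inv _ := Subtype.ext (e.symm_apply_apply _)
  right_inv _ := Subtype.ext (e.apply_symm_apply _)
  map_mul' _ _ := Subtype.ext (map_mul e _ _)

theorem InvQ.congr {T : Type v} [Group T] (e : S ≃* T) {t : S} (h : InvQ p t) : InvQ p (e t) := by
  refine ⟨h.1.congr (centEquiv e t), fun D hD hna htD u hu huD hu2 => ?_⟩
  obtain ⟨u, rfl⟩ := e.surjective u
  have hc : ∀ {a b : S}, Commute (e a) (e b) → Commute a b := fun h => e.injective (by rw [map_mul, map_mul]; exact h)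
  have h1 := h.2 (D.comap e.toMonoidHom) (hD.comap_of_injective _ e.injective) (fun h0 => hna (comm_of_forall ?_))
    (fun d hd => hc (htD _ hd)) u (hc hu) (fun d hd => hc (huD _ hd))
    (hu2.imp (fun h => e.injective (by rw [map_pow, h, map_one])) fun h => e.injective (by rw [map_pow, h]))
  · exact h1.imp (fun h => by rw [h, map_one]) fun h => by rw [h]
  · intro a ha b hb
    obtain ⟨a, rfl⟩ := e.surjective a
    obtain ⟨b, rfl⟩ := e.surjective b
    exact (forall_of_comm h0 a ha b hb).map e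

theorem InvQ.conj {t u : S} (h : InvQ p t) (hu : IsConj t u) : InvQ p u := by
  obtain ⟨c, rfl⟩ := isConj_iff.1 hu
  exact h.congr (MulAut.conj c)

theorem rowAb_of_invQ (hm : m.Coprime 2) (hp2 : p ≠ 2) (hS : H711.Crit.NN p S)
    (h1 : ∀ D : Subgroup S, Loc p m D → ¬ IsMulCommutative D → ∀ r : S, (orderOf r).Prime → (∀ d ∈ D, Commute d r) →
      orderOf r = 2 ∨ orderOf r = p) (h2 : ∀ t : S, orderOf t = 2 → InvQ p t) : RowAb p m S := by
  intro D hD
  by_contra hna
  exact hD.false_of_inv hm hp2 hS (h1 D hD hna) fun t ht htD => ⟨(h2 t ht).1, (h2 t ht).2 D hD.pg hna htD⟩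

end Cfsg.Agent.BHZ.Spor
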