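import Mathlib
import Cfsg.Agent.BHZ.Spor.InvT
import Cfsg.Agent.BHZ.Spor.NBTools
import Cfsg.Agent.TID.SO.LeechA
import Cfsg.Agent.SigZero.CoThree
import Cfsg.Agent.SporRec.Co3.Model
import Cfsg.Agent.KFacts.Co3.Syl
import Cfsg.Agent.H711.CoThreeRow
import Cfsg.Agent.H351.OE.GTwoT
import Cfsg.Agent.H642.PQ.MTwelve
import Cfsg.Agent.H507.GmnRows
import Cfsg.Agent.H711.RowCount
import Cfsg.Agent.S0126

/-!
# S4806, the sporadic row `Co3`, `p = 3` (helper4)
-/

set_option autoImplicit false

namespace Cfsg.Agent.BHZ.Spor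

open Cfsg Subgroup
open scoped commutatorElement

universe u

theorem rk2_of_not_comm {p : ℕ} [Fact p.Prime] (hp2 : p ≠ 2) {S : Type u} [Group S] [Finite S] {D : Subgroup S}
    (hD : IsPGroup p D) (hna : ¬ IsMulCommutative D) : TID.Rk2 p D := by
  obtain ⟨A, -, hA, hc⟩ := S0126.result hp2 hD fun h => hna inferInstance
  obtain ⟨V, h1, h2, h3⟩ := TID.SO.rk2_map (⟨A, le_rfl, hA, hc⟩ : TID.Rk2 p A) (subtype_injective D)
  exact ⟨V, h1.trans (map_subtype_le A), h2, h3⟩

/-- groups fixing a vector of the Leech lattice -/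
theorem two_three_of_fx {S : Type u} [Group S] [Finite S] (h : TID.SO.Fx S) {D : Subgroup S} (hD : IsPGroup 3 D)
    (hna : ¬ IsMulCommutative D) (r : S) (hr : (orderOf r).Prime) (hc : ∀ d ∈ D, Commute d r) :
    orderOf r = 2 ∨ orderOf r = 3 := by
  have h3 : Fact (Nat.Prime 3) := ⟨Nat.prime_three⟩
  by_contra h0
  push Not at h0
  exact h.not_com (Or.inl rfl) hr h0.1 h0.2 (TID.SO.com_of (rk2_of_not_comm (by norm_num) hD hna)
    fun d hd => mem_centralizer_singleton_iff.2 (hc d hd))

namespace Co33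

open Cfsg.Agent.SporRec.TwoSp6.Sp Cfsg.Agent.SporRec.Co3.Chain Cfsg.Agent.SporRec.Co3.Ident

theorem card_V : Nat.card V = 64 := by
  rw [Nat.card_eq_fintype_card]
  simp

/-- the fixed vectors -/
def fixV (w : S) : AddSubgroup V where
  carrier := {x | act w x = x}
  zero_mem' := Matrix.mulVec_zero _
  add_mem' {a b} ha hb := by
    change act w (a + b) = a + b
    rw [act_add, ha, hb]
  neg_mem' {a} ha := by
    rw [neg_eq_of_add_eq_zero_right (add_self a)]
    exact ha

theorem sp_inv (w : S) (hw : orderOf w = 2) : ¬ 3 ^ 3 ∣ Nat.card (centralizer ({w} : Set S)) := by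
  intro h27
  have h3 : Fact (Nat.Prime 3) := ⟨Nat.prime_three⟩
  have h2 : Fact (Nat.Prime 2) := ⟨Nat.prime_two⟩
  have hfin : Finite S := Nat.finite_of_card_ne_zero (by rw [card_S]; norm_num)
  obtain ⟨P, hP⟩ := Sylow.exists_subgroup_card_pow_prime 3 h27
  have hc : ∀ (g : P) (x : V), act w (act (g : centralizer ({w} : Set S)) x) =
      act (g : centralizer ({w} : Set S)) (act w x) := fun g x => by
    rw [← act_mul, ← act_mul, mem_centralizer_singleton_iff.1 g.1.2]
  let _ : MulDistribMulAction P (Multiplicative (fixV w)) :=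
    { smul := fun g x => Multiplicative.ofAdd ⟨act (g : centralizer ({w} : Set S)) x.toAdd, by
        change act w _ = _
        rw [hc, show act w (x.toAdd : V) = x.toAdd from x.toAdd.2]⟩
      one_smul := fun x => Subtype.ext (act_one _)
      mul_smul := fun g h x => Subtype.ext (act_mul _ _ _)
      smul_one := fun g => Subtype.ext (show act (g : centralizer ({w} : Set S)) 0 = 0 from Matrix.mulVec_zero _)
      smul_mul := fun g x y => Subtype.ext (act_add _ _ _) }
  have hww : ∀ x, act w (act w x) = x := fun x => by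
    have h1 := pow_orderOf_eq_one w
    rw [hw, pow_two] at h1
    rw [← act_mul, h1, act_one]
  have hinj : Function.Injective (MulDistribMulAction.toMulAut P (Multiplicative (fixV w))) := by
    rw [injective_iff_map_eq_one]
    intro g hg
    have h1 : ∀ x : V, act w x = x → act (g : centralizer ({w} : Set S)) x = x := fun x hx =>
      congrArg (fun f : MulAut (Multiplicative (fixV w)) => ((f (Multiplicative.ofAdd ⟨x, hx⟩)).toAdd : V)) hg
    have h4 : ((g : centralizer ({w} : Set S)) : S) ^ 2 = 1 := by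
      rw [pow_two]
      refine act_ext fun x => ?_
      have h5 := h1 (x + act w x) (by rw [act_add, hww, add_comm])
      rw [act_add, ← hc] at h5
      generalize ((g : centralizer ({w} : Set S)) : S) = a at h1 h5
      have h6 := h1 (x + act a x) (by
        rw [act_add]
        calc act w x + act w (act a x) = (act a x + act w (act a x)) + (act w x + act a x) := by
              rw [add_comm (act w x) (act a x), add_add_add_comm, add_self, zero_add, add_comm]
          _ = x + act a x := by rw [h5, add_assoc, ← add_assoc (act w x), add_self, zero_add])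
      rw [act_add, add_comm x] at h6
      rw [act_mul, act_one]
      exact add_left_cancel h6
    have h5 : g ^ 3 ^ 3 = 1 := by rw [← hP]; exact pow_card_eq_one'
    exact eq_one_of_reg (p := 3) (not_dvd_of_pow (n := 2) (by norm_num) (Subtype.ext (Subtype.ext h4))) h5
  have hd : Nat.card (fixV w) ∣ 2 ^ 6 := by
    have := AddSubgroup.card_addSubgroup_dvd_card (fixV w)
    rwa [card_V] at this
  have hne : Nat.card (fixV w) ≠ 64 := fun h => by
    have h1 : fixV w = ⊤ := (AddSubgroup.card_eq_iff_eq_top _).1 (h.trans card_V.symm)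
    have h4 : w = 1 := act_ext fun x => by
      rw [act_one]
      exact (h1 ▸ AddSubgroup.mem_top x : x ∈ fixV w)
    rw [h4, orderOf_one] at hw
    norm_num at hw
  obtain ⟨k, hk, hk'⟩ := (Nat.dvd_prime_pow Nat.prime_two).1 hd
  have hk6 : k ≠ 6 := by
    rintro rfl
    exact hne hk'
  refine H351.OE.GTwoT.not_dvd_aut (P := Multiplicative (fixV w)) (IsPGroup.of_card (n := k) hk') ?_ ?_
  · change Nat.card (fixV w) ≤ 32
    rw [hk']
    exact (Nat.pow_le_pow_right (by norm_num) (by omega : k ≤ 5)).trans (by norm_num)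
  · have := card_dvd_of_injective _ hinj
    rwa [hP] at this

theorem center_S : center S = ⊥ := by
  have := KFacts.Co3.AutM.simple_S
  exact H711.RowCount.center_eq_bot (by rw [card_S]; norm_num)

theorem nn_S : H711.Crit.NN 3 S := by
  have h3 : Fact (Nat.Prime 3) := ⟨Nat.prime_three⟩
  have hfin : Finite S := Nat.finite_of_card_ne_zero (by rw [card_S]; norm_num)
  let e : PSp 3 (ZMod 2) ≃* S := (QuotientGroup.quotientMulEquivOfEq center_S).trans QuotientGroup.quotientBot
  have hZ : center (PSp 3 (ZMod 2)) = ⊥ := by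
    have := KFacts.Co3.AutM.simple_S
    have := e.isSimpleGroup_congr.2 this
    exact H711.RowCount.center_eq_bot (by rw [Nat.card_congr e.toEquiv, card_S]; norm_num)
  exact (H711.Crit.NN.of_rowS hZ (H507.GmnRows.rowS_psp (by norm_num) (by decide) hZ
    (by rw [Nat.card_congr e.toEquiv, card_S]; norm_num))).congr e

theorem invQ_Z [Finite G3] : InvQ 3 (Z : G3) := by
  have h3 : Fact (Nat.Prime 3) := ⟨Nat.prime_three⟩
  obtain ⟨π, N⟩ := KFacts.Co3D4.exists_NS_G3
  exact invQ_of_hom (by norm_num) KFacts.Co3D4.orderOf_Z π N.surj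
    (fun c hc => (N.ker c hc).imp (congrArg Subtype.val) (congrArg Subtype.val)) center_S nn_S sp_inv

theorem exists_invQ [Finite G3] : ∃ w : G3, w * w = 1 ∧ w ≠ 1 ∧ Nat.card (centralizer ({w} : Set G3)) ≤ 2 * 95040 ∧
    InvQ 3 w := by
  have h3 : Fact (Nat.Prime 3) := ⟨Nat.prime_three⟩
  have h2 : Fact (Nat.Prime 2) := ⟨Nat.prime_two⟩
  obtain ⟨e⟩ := SigZero.CoThree.exists_equiv
  have hf : Finite SigZero.CoThreeB.K := Finite.of_equiv _ e.symm.toEquiv
  have hc := MTwelveType.SylowModel.card_M12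
  have hf12 : Finite Spor.M12 := Nat.finite_of_card_ne_zero (by rw [hc]; norm_num)
  have hs : IsSimpleGroup Spor.M12 := H123.SporSimple.spor_simple (Or.inr (Or.inl ⟨MulEquiv.refl _⟩))
  refine ⟨e SigZero.CoThreeB.wK, ?_, fun h => SigZero.CoThreeB.wK_ne ((map_eq_one_iff e e.injective).1 h), ?_, ?_⟩
  · rw [← map_mul, SigZero.CoThreeB.wK_sq, map_one]
  · rw [← Nat.card_congr (centEquiv e _).toEquiv]
    exact SigZero.CoThree.card_C_le
  · refine InvQ.congr e (invQ_of_hom (by norm_num)
      (orderOf_eq_prime (by rw [pow_two]; exact SigZero.CoThreeB.wK_sq) SigZero.CoThreeB.wK_ne) SigZero.CoThreeB.proj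
      SigZero.CoThreeB.proj_surj (fun c hc => (SigZero.CoThreeB.ker_proj hc).imp (congrArg Subtype.val) id)
      (H711.RowCount.center_eq_bot (by rw [hc]; norm_num))
      (nn_three hs hc (by norm_num) (by norm_num) (by norm_num)) fun w hw => ?_)
    rcases H642.PQ.MTwelve.card_cent_inv hw with h | h <;> rw [h] <;> norm_num

theorem row_G3 [Finite G3] : RowAb 3 1 G3 := by
  have h3 : Fact (Nat.Prime 3) := ⟨Nat.prime_three⟩
  refine rowAb_of_invQ (by norm_num) (by norm_num) H711.CoThreeRow.nn_G3 (fun D hD hna => two_three_of_fx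
    (TID.SO.fx_co3.of_inj SporRec.Co3.Model.equivCo3.toMonoidHom SporRec.Co3.Model.equivCo3.injective) hD.pg hna)
    fun t ht => ?_
  obtain ⟨w, hw2, hw1, hwc, hw⟩ := exists_invQ
  have ht1 : t ≠ 1 := by
    rintro rfl
    rw [orderOf_one] at ht
    norm_num at ht
  rcases SigZero.CoThree.classes hw2 hw1 hwc (x := t) (by rw [← pow_two, ← ht, pow_orderOf_eq_one]) ht1 with
    ⟨g, hg⟩ | ⟨g, hg⟩
  · exact invQ_Z.conj (isConj_iff.2 ⟨g, hg⟩)
  · exact hw.conj (isConj_iff.2 ⟨g, hg⟩)

end Co33

theorem co3_3 : ∀ (S : Type) [Group S] [Finite S], Spor.IsoCo3 S → RowAb 3 1 S := by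
  rintro S _ _ ⟨e⟩
  have h3 : Fact (Nat.Prime 3) := ⟨Nat.prime_three⟩
  let f := SporRec.Co3.Model.equivCo3.trans e.symm
  have : Finite SporRec.Co3.Chain.G3 := Finite.of_equiv _ f.symm.toEquiv
  exact Co33.row_G3.congr f

end Cfsg.Agent.BHZ.Spor
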