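import Mathlib
import Cfsg.Agent.BHZ.Spor.DNorm
import Cfsg.Agent.H838.NmMain
import Cfsg.Agent.H837.X5
import Cfsg.Agent.H830.U5Main
import Cfsg.Agent.H826.M23.Inst
import Cfsg.Agent.H826.M23.Transp
import Cfsg.Agent.LThreeFi23.CentUu
import Cfsg.Agent.H711.FiThreeRow

/-!
# S4806, the sporadic row `Fi23`, `p = 3` (helper84)
-/

set_option autoImplicit false

namespace Cfsg.Agent.BHZ.Spor.F23

open Cfsg Subgroup Cfsg.Agent.LThreeFi23 Cfsg.Agent.H838.Three Cfsg.Agent.H838.Fi23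
open Cfsg.Agent.Fischer.Fi23Hom (rho)
open Cfsg.Agent.Fischer.Fi23Z (z0)
open Cfsg.Spor (Fi23)
open scoped commutatorElement

theorem DD_eq : DD = {x | IsConj z0 x} := by
  ext x
  constructor
  · rintro ⟨p, hp, rfl⟩
    obtain ⟨g, hg⟩ := exists_rep hp
    exact isConj_iff.2 ⟨g, (T_eq hg).symm⟩
  · intro hx
    obtain ⟨g, rfl⟩ := isConj_iff.1 hx
    exact ⟨rho g 0, act_lt g (by norm_num), (T_eq rfl).symm⟩

theorem not_deep0 : rep 0 ∉ ⁅centralizer ({rep 0} : Set Fi23), centralizer ({rep 0} : Set Fi23)⁆ := by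
  refine not_deep_of_sup (y := uu) CC uu_notMem fun x hx => ?_
  obtain ⟨i, c, hc, h⟩ := exists_form (mem_centralizer_singleton_iff.2 hx.symm)
  exact ⟨uu ^ i, npow_mem_zpowers uu i, c, hc, h⟩

theorem constr_x0 : Constr 3 H837.X3.x0 := by
  have h3 : Fact (Nat.Prime 3) := ⟨Nat.prime_three⟩
  refine Constr.of_over ⟨1, H837.X3.x0_pow⟩ H837.X4.N (fun x hx => mem_normalizer_of_commute hx) H837.X5.f.ker
    inferInstance H837.X5.ker_isPGroup fun r _ h1 h2 => ?_
  have h4 : r ∈ H837.X5.f.ker := H837.X5.mem_ker.2 fun v => by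
    have h5 := H837.Sys.R_mem_A H837.X3.qt v
    rw [H837.X5.K_eq] at h5
    obtain ⟨n, hn, hv⟩ := h5
    rw [← hv]
    exact congrArg Subtype.val (h1 n hn).symm
  obtain ⟨k, hk⟩ := pelt_of_mem H837.X5.ker_isPGroup h4
  exact eq_one_of_reg h2 hk

theorem constr1 : Constr 3 (rep 1) := by
  have h := width 1
  rw [DD_eq] at h
  obtain ⟨g, hg⟩ := H830.U5.unique _ (card_rep 1) h
  have h1 : H837.X3.x0 ∈ (zpowers (rep 1)).map (MulAut.conj g).toMonoidHom := by
    rw [hg]
    exact mem_zpowers _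
  obtain ⟨w, hw, hwg⟩ := h1
  exact (constr_x0.conj (isConj_iff.2 ⟨g, hwg⟩).symm).of_zpowers hw

theorem constr2 : Constr 3 (rep 2) := by
  have h3 : Fact (Nat.Prime 3) := ⟨Nat.prime_three⟩
  have hS := H826.M23.Inst.setup
  obtain ⟨k, g, hg⟩ := sub_classes (X := zpowers H826.M23.Inst.zt) (by
    rw [Nat.card_zpowers]
    exact orderOf_eq_prime hS.zeta3 hS.zeta1)
  have h1 := H826.M23.good_map (MulAut.conj g) hS.good
  have h2 : (MulAut.conj g) '' H826.M23.Inst.DD = H826.M23.Inst.DD := by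
    ext x
    constructor
    · rintro ⟨y, hy, rfl⟩
      exact H826.M23.Inst.tt.conj g y hy
    · intro hx
      refine ⟨g⁻¹ * x * g⁻¹⁻¹, H826.M23.Inst.tt.conj g⁻¹ x hx, ?_⟩
      show g * (g⁻¹ * x * g⁻¹⁻¹) * g⁻¹ = x
      group
  rw [hg, h2] at h1
  obtain ⟨-, h4, h5⟩ := h1
  have h6 := width k
  rw [DD_eq] at h6
  have h7 : k = 2 := wd_inj (h6.symm.trans h5)
  subst h7
  exact Constr.of_genFitting ⟨1, rep_pow 2⟩ _ (fun x hx => mem_normalizer_of_commute hx) (IsPGroup.of_card h4)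

open H838.Nm in
theorem constr3 : Constr 3 (rep 3) := by
  have h3 : Fact (Nat.Prime 3) := ⟨Nat.prime_three⟩
  have hK : IsPGroup 3 (chi.prod alp).ker := by
    refine IsPGroup.of_card (n := 9) ?_
    obtain ⟨e1⟩ := H838.ETwo.exists_GL pair
    have c1 : Nat.card (ℤˣ × MulAut E9) = 96 := by
      rw [Nat.card_prod, Nat.card_congr (show MulAut E9 ≃* _ from e1).toEquiv, Matrix.card_GL_field]
      simp [Fin.prod_univ_two, ZMod.card]
    have c2 := (chi.prod alp).ker.card_mul_index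
    rw [index_ker, MonoidHom.range_eq_top.2 phi_surj, Subgroup.card_top, c1, card_Nx] at c2
    omega
  have hH : ∀ x, Commute xx x → x ∈ Nx := fun x hx => mem_normalizer_of_commute hx
  have hE : NormP 3 xx E9 := ⟨IsPGroup.of_card (H838.ETwo.card_EE pair),
    fun x hx u hu => (mem_normalizer_iff.1 (Nx_le (hH x hx)) u).1 hu⟩
  have hU := (NormP.of_normal Nx hH _ inferInstance hK).sup hE (by
    rintro _ ⟨a, -, rfl⟩ b hb
    exact (mem_normalizer_iff.1 (Nx_le a.2) b).1 hb)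
  have he2 : (⟨el .e, e_mem⟩ : Nx) ^ 2 = 1 := Subtype.ext (by
    change el .e ^ 2 = 1
    rw [pow_two, el_sq])
  have key : ∀ r : Nx, (∀ n ∈ (chi.prod alp).ker, Commute n r) → alp r = 1 → ¬ 3 ∣ orderOf r →
      r = 1 ∨ r = ⟨el .e, e_mem⟩ := by
    intro r h1 h2 h4
    rcases Int.units_eq_one_or (chi r) with h5 | h5
    · obtain ⟨k, hk⟩ := pelt_of_mem hK (show r ∈ (chi.prod alp).ker from Prod.ext h5 h2)
      exact Or.inl (eq_one_of_reg h4 hk)
    · have h6 : r * ⟨el .e, e_mem⟩ ∈ (chi.prod alp).ker := Prod.ext (by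
        change chi (r * _) = 1
        rw [map_mul, h5, chi_e]
        rfl) (by
        change alp (r * _) = 1
        rw [map_mul, h2, alp_e, mul_one])
      have h7 : Commute r ⟨el .e, e_mem⟩ := by
        have h8 := (h1 _ h6).eq
        rw [mul_assoc] at h8
        exact (mul_left_cancel h8).symm
      obtain ⟨k, hk⟩ := pelt_of_mem hK h6
      have h9 := eq_one_of_reg (not_dvd_of_pow (n := orderOf r * 2) (fun h0 => by
        rcases (Nat.Prime.dvd_mul Nat.prime_three).1 h0 with h | h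
        · exact h4 h
        · norm_num at h) (by
          rw [h7.mul_pow, pow_mul, pow_orderOf_eq_one, one_pow, one_mul, mul_comm, pow_mul, he2, one_pow])) hk
      right
      rw [eq_inv_of_mul_eq_one_left h9]
      exact inv_eq_of_mul_eq_one_left (by rw [← pow_two, he2])
  refine hU.constr' ⟨1, xx_pow⟩ fun r h1 h2 h4 => ?_
  have h5 : ∀ n ∈ (chi.prod alp).ker, Commute n ⟨r, hH r h1⟩ := fun n hn =>
    Subtype.ext (h2 n (mem_sup_left ⟨n, hn, rfl⟩))
  rcases key ⟨r, hH r h1⟩ h5 (MulEquiv.ext fun y => Subtype.ext (by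
    rw [alp_apply]
    change r * y * r⁻¹ = y
    rw [← (h2 y (mem_sup_right y.2)).eq, mul_inv_cancel_right])) (by rwa [← orderOf_coe]) with h6 | h6
  · exact congrArg Subtype.val h6
  · exfalso
    rw [h6] at h5
    have hc : ∀ t : Nx, t * ⟨el .e, e_mem⟩ * t⁻¹ = ⟨el .e, e_mem⟩ := by
      intro t
      rcases key (t * ⟨el .e, e_mem⟩ * t⁻¹) (fun n hn => by
        have h7 := (h5 _ ((inferInstance : (chi.prod alp).ker.Normal).conj_mem' n hn t)).map (MulAut.conj t)
        simpa [mul_assoc] using h7) (by simp [alp_e]) (not_dvd_of_pow (n := 2) (by norm_num)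
          (by rw [conj_pow, he2]; simp)) with h7 | h7
      · have h8 := congrArg chi h7
        rw [map_mul, map_mul, map_inv, chi_e, map_one, mul_comm (chi t), mul_inv_cancel_right] at h8
        exact absurd h8 (by decide)
      · exact h7
    have hall : Function.fixedPoints (fph ⟨el .e, e_mem⟩) = Set.univ := by
      refine Set.eq_univ_of_forall fun q => Subtype.ext ?_
      have h7 : T q.1 ∈ Nx := hH _ ((fix_iff xx q.2.1).1 q.2.2)
      have h8 : T q.1 * el .e * (T q.1)⁻¹ = el .e := congrArg Subtype.val (hc ⟨_, h7⟩)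
      exact (fix_iff (el .e) q.2.1).2 (mul_inv_eq_iff_eq_mul.1 h8).symm
    have h9 := card_fix_e
    rw [← Nat.card_eq_fintype_card, hall, Nat.card_congr (Equiv.Set.univ _), Nat.card_eq_fintype_card, card_FP] at h9
    norm_num at h9

theorem model : RowAb 3 1 Fi23 := by
  have h3 : Fact (Nat.Prime 3) := ⟨Nat.prime_three⟩
  refine rowAb_of_deep H711.FiThreeRow.nn_fi23 fun y hy hd => ?_
  obtain ⟨k, g, hg⟩ := classes (x := y) (by rw [← hy, pow_orderOf_eq_one]) (by
    rintro rfl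
    rw [orderOf_one] at hy
    norm_num at hy)
  have hk : rep k ∈ ⁅centralizer ({rep k} : Set Fi23), centralizer ({rep k} : Set Fi23)⁆ := by
    rcases hg with h | h
    · exact deep_conj (isConj_iff.2 ⟨g, h⟩) hd
    · have := deep_inv (deep_conj (isConj_iff.2 ⟨g, h⟩) hd)
      rwa [inv_inv] at this
  have hc : Constr 3 (rep k) := by
    fin_cases k
    · exact (not_deep0 hk).elim
    · exact constr1
    · exact constr2
    · exact constr3
  rcases hg with h | h
  · exact hc.conj (isConj_iff.2 ⟨g, h⟩).symm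
  · exact hc.inv.conj (isConj_iff.2 ⟨g, h⟩).symm

end Cfsg.Agent.BHZ.Spor.F23

namespace Cfsg.Agent.BHZ.Spor

theorem fi23_3 : ∀ (S : Type) [Group S] [Finite S], Cfsg.Spor.IsoFi23 S → RowAb 3 1 S := by
  intro S _ _ ⟨e⟩
  have h3 : Fact (Nat.Prime 3) := ⟨Nat.prime_three⟩
  exact F23.model.congr e.symm

end Cfsg.Agent.BHZ.Spor
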