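import Mathlib
import Cfsg.Agent.BHZ.Spor.ToolsB
import Cfsg.Agent.DS.Sp.F24SB
import Cfsg.Agent.DS.Sp.F24A
import Cfsg.Agent.H711.FiTFRow

/-!
# S4806, sporadic rows (helper25): `Fi24'`, `p = 3`
-/

set_option autoImplicit false
set_option maxRecDepth 100000

namespace Cfsg.Agent.BHZ.Spor

open Cfsg Subgroup

universe u

/-- the local data of a subgroup `H` containing all `p`-elements, seen in the large group -/
structure LF (p : ℕ) {S : Type u} [Group S] (H D : Subgroup S) : Prop where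
  pg : IsPGroup p D
  core : ∀ U : Subgroup S, IsPGroup p U → (∀ x ∈ D, ∀ u ∈ U, x * u * x⁻¹ ∈ U) →
    (∀ x : S, (∀ d ∈ D, Commute d x) → ∀ u ∈ U, x * u * x⁻¹ ∈ U) → U ≤ D
  nreg : ¬ ∀ r ∈ H, (∀ d ∈ D, Commute d r) → ¬ p ∣ orderOf r → r = 1
  fus : ∀ t ∈ H, (∀ q ∈ D, t * q * t⁻¹ ∈ D) → ¬ p ∣ orderOf t →
    (∀ y : S, (∀ q ∈ D, Commute q y) → ¬ p ∣ orderOf y → Commute t y) → ∀ q ∈ D, Commute q t

theorem Loc.lf {p : ℕ} [Fact p.Prime] {S : Type u} [Group S] [Finite S] {H : Subgroup S}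
    (hH : ∀ x : S, (∃ k : ℕ, x ^ p ^ k = 1) → x ∈ H) (hN : H711.Crit.NN p H) {D : Subgroup H} (h : Loc p 1 D) :
    LF p H (D.map H.subtype) := by
  refine ⟨h.pg.map _, fun U hU h1 h2 u hu => ?_, fun h1 => h.false_of_regTriv hN fun r h2 h3 => ?_,
    fun t ht h1 h2 h3 => ?_⟩
  · refine ⟨⟨u, hH u (pelt_of_mem hU hu)⟩, h.core (U.subgroupOf H) (hU.comap_of_injective _ H.subtype_injective)
      (fun x hx v hv => h1 x ⟨x, hx, rfl⟩ v hv) (fun x hx v hv => h2 x ?_ v hv) hu, rfl⟩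
    rintro _ ⟨d, hd, rfl⟩
    exact congrArg Subtype.val (hx d hd)
  · refine Subtype.ext (h1 r r.2 ?_ (by rwa [orderOf_coe]))
    rintro _ ⟨d, hd, rfl⟩
    exact congrArg Subtype.val (h2 d hd)
  · rintro _ ⟨q, hq, rfl⟩
    refine congrArg Subtype.val (h.fus D le_rfl ⟨t, ht⟩ (fun w hw => ?_) (by rwa [← orderOf_coe])
      (fun y h4 h5 => Tr.of_one (Subtype.ext (h3 y ?_ (by rwa [orderOf_coe])))) q hq)
    · obtain ⟨v, hv, hvw⟩ := h1 w ⟨w, hw, rfl⟩
      rwa [show (⟨t, ht⟩ : H) * w * (⟨t, ht⟩ : H)⁻¹ = v from Subtype.ext hvw.symm]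
    · rintro _ ⟨d, hd, rfl⟩
      exact congrArg Subtype.val (h4 d hd)

/-- constrained relative to `H` -/
def ConstrIn (p : ℕ) {S : Type u} [Group S] (H : Subgroup S) (y : S) : Prop :=
  ∃ U : Subgroup S, NormP p y U ∧ ∀ r ∈ H, (∀ u ∈ U, Commute u r) → ¬ p ∣ orderOf r → r = 1

theorem Constr.constrIn {p : ℕ} {S : Type u} [Group S] {y : S} (h : Constr p y) (H : Subgroup S) : ConstrIn p H y := by
  obtain ⟨U, h1, h2, h3⟩ := h
  exact ⟨U, ⟨h1, h2⟩, fun r _ => h3 r⟩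

theorem LF.not_constr {p : ℕ} {S : Type u} [Group S] {H D : Subgroup S} (h : LF p H D) {y : S} (hy : y ∈ D)
    (hyD : ∀ d ∈ D, Commute y d) : ¬ ConstrIn p H y := by
  rintro ⟨U, hU, hr⟩
  have h1 := h.core U hU.1 (fun x hx => hU.2 x (hyD x hx)) fun x hx => hU.2 x (hx y hy)
  exact h.nreg fun r h2 h3 => hr r h2 fun u hu => h3 u (h1 hu)

theorem mem_zpowers_pow_of_reg {p : ℕ} [Fact p.Prime] {S : Type u} [Group S] {r : S} (h : ¬ p ∣ orderOf r) :
    r ∈ zpowers (r ^ p) :=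
  mem_zpowers_pow_iff.2 ((Nat.Prime.coprime_iff_not_dvd Fact.out).2 h)

end Cfsg.Agent.BHZ.Spor

namespace Cfsg.Agent.BHZ.Spor.F24

open Subgroup Cfsg
open Cfsg.Spor (Fi24)
open Cfsg.Agent.R08.FiTwentyFour (L finite_Fi24)
open Cfsg.Agent.Fischer.Fi24Rep
open Cfsg.Agent.H842.ThreeCl (X)
open Cfsg.Agent.H49.Four.TEight (fgroup24 fgroup24' isT8)
open Cfsg.Agent.H840.Lk (zc c2 Clk Cj Cc gen_mem not_comm_lk zc_mem c2_mem nc_zc2)
open Cfsg.Agent.H840.NormX (fd mem_cent_pair cent_mul comm_of_comm_mul)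
open Cfsg.Agent.DS.Sp.F24S
open Cfsg.Agent.H48.WFour (w comm_conj)

theorem constr1 {y : Fi24} (h3 : y ^ 3 = 1) (h1 : y ≠ 1) (h : Cl 1 y) : Constr 3 y := by
  have : Fact (Nat.Prime 3) := ⟨Nat.prime_three⟩
  obtain ⟨g, hg⟩ := h
  obtain ⟨e, -, he⟩ := H841.Sev.exists_equiv_six (MulEquiv.refl Fi24) (by simp) fgroup24 isT8
    (zpowers y) (card_zp h3 h1) (H48.OreFi.NineA.width_of hg)
  have hA : IsPGroup 3 H841.Sev.A := IsPGroup.of_card H841.Sev.card_A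
  have h2 : Constr 3 _ := Constr.of_isPGroup H841.Sev.A hA
    (fun x hx => H841.Sev.mem_N_iff.1 (H841.Sev.NY_le_N (cent_le_norm _ (mem_centralizer_singleton_iff.2 hx.symm))))
    (hA.to_le fun x hx => H841.Sev.mem_A_of_comm fun a ha => (mem_centralizer_iff.1 hx a ha).symm)
  refine (h2.map e).of_zpowers ?_
  rw [← he]
  exact ⟨_, mem_zpowers _, rfl⟩

theorem constr2 {y : Fi24} (h3 : y ^ 3 = 1) (h : Cl 2 y) : Constr 3 y := by
  have : Fact (Nat.Prime 3) := ⟨Nat.prime_three⟩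
  have := finite_Fi24
  obtain ⟨φ, hφ, k1, -⟩ := cl2 h
  obtain ⟨hn, -⟩ := H841.Tri.quot_NX
  have hQ : IsPGroup 3 (H841.Ext.QQ H841.Tri.DN) := IsPGroup.of_card H841.Tri.card_QQ
  have hr : ∀ x, Commute y x → x ∈ φ.range := fun x hx =>
    k1 ▸ cent_le_norm y (mem_centralizer_singleton_iff.2 hx.symm)
  refine NormP.constr' (V := (H841.Ext.QQ H841.Tri.DN).map φ) ⟨1, h3⟩ ⟨hQ.map φ, fun x hx => ?_⟩ fun r h4 h5 h6 => ?_
  · obtain ⟨x, rfl⟩ := hr x hx
    rintro _ ⟨q, hq, rfl⟩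
    exact ⟨x * q * x⁻¹, hn.conj_mem q hq x, by rw [map_mul, map_mul, map_inv]⟩
  · obtain ⟨r, rfl⟩ := hr r h4
    obtain ⟨k, hk⟩ := pelt_of_mem hQ (H841.Tri.cent_QQ (mem_centralizer_iff.2 fun q hq => hφ
      (show φ (q * r) = φ (r * q) by rw [map_mul, map_mul]; exact h5 _ ⟨q, hq, rfl⟩)))
    exact eq_one_of_reg h6 (k := k) (by rw [← map_pow, hk, map_one])

theorem constr3 {y : Fi24} (h3 : y ^ 3 = 1) (h1 : y ≠ 1) (h : Cl 3 y) : ConstrIn 3 (commutator Fi24) y := by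
  have : Fact (Nat.Prime 3) := ⟨Nat.prime_three⟩
  have := finite_Fi24
  obtain ⟨g, hg⟩ := h
  have hc := (H832.WTwo.Main.main fgroup24 isT8 _ (card_zp h3 h1) (H48.OreFi.NineA.width_of hg)).1
  have hU := NormP.of_normal (p := 3) (y := y) _ (fun x hx => cent_le_norm y (mem_centralizer_singleton_iff.2 hx.symm)) _
    (Lib.Cores.pCore_normal 3) (Lib.Cores.pCore_isPGroup 3)
  rw [← card_map_of_injective (subtype_injective _)] at hc
  refine ⟨_, hU, fun r hr h4 h5 => ?_⟩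
  by_contra h6
  obtain ⟨q, hq, hqr⟩ := Nat.exists_prime_and_dvd (n := orderOf r) (by rwa [Ne, orderOf_eq_one_iff])
  have h7 := orderOf_pow_orderOf_div (orderOf_pos r).ne' hqr
  have h8 : _ ≤ centralizer ({r ^ (orderOf r / q)} : Set Fi24) := fun u hu =>
    mem_centralizer_singleton_iff.2 ((h4 u hu).pow_right _)
  by_cases h2 : q = 2
  · subst h2
    exact DS.Sp.F24.three_cent_invol (pow_mem hr _) h7 hU.1 h8 (by rw [hc]; norm_num)
  · have h9 : q ≠ 3 := by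
      rintro rfl
      exact h5 hqr
    have h10 : 5 ≤ q := by
      have := hq.two_le
      have h4 : q ≠ 4 := by rintro rfl; norm_num at hq
      omega
    have h11 : 3 ^ 12 * q ∣ Nat.card (centralizer ({r ^ (orderOf r / q)} : Set Fi24)) :=
      Nat.Coprime.mul_dvd_of_dvd_of_dvd (Nat.Coprime.pow_left _ ((Nat.coprime_primes Nat.prime_three hq).2 h9.symm))
        (hc ▸ card_dvd_of_le h8)
        (h7.symm.dvd.trans (Subgroup.orderOf_dvd_natCard _ (mem_centralizer_singleton_iff.2 rfl)))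
    have h12 := (Nat.le_of_dvd Nat.card_pos h11).trans (H187.FiOdd.card_cent_le hq h10 h7)
    omega

/-- the class 3E is conjugate to `w` -/
theorem cl4_w {y : Fi24} (h : Cl 4 y) : ∃ g : Fi24, ∀ u : Fi24, Commute u y → Commute (g * u * g⁻¹) w := by
  obtain ⟨g, hg⟩ := h
  obtain ⟨k, hk⟩ := H48.WFour.w_X
  refine ⟨k⁻¹ * g, fun u hu => ?_⟩
  have h1 : Commute (g * u * g⁻¹) (X 4) := by
    rcases hg with hg | hg
    · rw [← hg]; exact comm_conj' hu
    · rw [← Commute.inv_right_iff, ← hg]; exact comm_conj' hu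
  have h2 : Commute (g * u * g⁻¹) (k * w * k⁻¹) := by
    rcases hk with hk | hk
    · rwa [hk]
    · rw [hk]; exact h1.inv_right
  rw [← comm_conj (h := k)]
  rwa [show k * (k⁻¹ * g * u * (k⁻¹ * g)⁻¹) * k⁻¹ = g * u * g⁻¹ by group]

theorem cl4_no {y d : Fi24} (h : Cl 4 y) (hd : d ∈ L) : ¬ Commute d y := fun hc => by
  obtain ⟨g, hg⟩ := cl4_w h
  exact H48.WFour.width (R08.FiTwentyFour.conj hd g) (hg d hc).symm

theorem prod_line {G : Type} [Group G] {t A B : G} (ht : t * t = 1) (hA : A ^ 3 = 1) (hi : t * A * t⁻¹ = A⁻¹)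
    (hB : Commute t B) : t * (A * B * t * (A * B)⁻¹) = A := by
  have h1 : t⁻¹ = t := inv_eq_of_mul_eq_one_left ht
  calc t * (A * B * t * (A * B)⁻¹) = t * A * (B * t) * B⁻¹ * A⁻¹ := by group
    _ = (t * A * t⁻¹) * A⁻¹ := by rw [← hB.eq, h1]; group
    _ = (A ^ 3)⁻¹ * A := by rw [hi]; group
    _ = A := by rw [hA]; group

open Cfsg.Agent.H48.WFour in
theorem w_cent {g : Fi24} (hg : Commute g w) :
    (Commute g (gen .l * gen .k) ∧ Commute g (zc * c2)) ∨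
      (g * (gen .l * gen .k) * g⁻¹ = zc * c2 ∧ g * (zc * c2) * g⁻¹ = gen .l * gen .k) := by
  have := finite_Fi24
  have hA := H840.NormX.cube (fd fgroup24) (gen_mem .l) (gen_mem .k) not_comm_lk
  have hB := H840.NormX.cube (fd fgroup24) zc_mem c2_mem nc_zc2
  obtain ⟨k1, k2⟩ := six_of_comm hg
  have hsq := H840.NormX.mul_sq (fd fgroup24) k1
  have e1 : g * (gen .l * gen .k) * g⁻¹ = (g * gen .l * g⁻¹) * (w * (g * gen .l * g⁻¹) * w⁻¹) := by
    rw [← w_l]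
    calc g * (gen .l * (w * gen .l * w⁻¹)) * g⁻¹ = (g * gen .l * g⁻¹) * ((g * w) * gen .l * (g * w)⁻¹) := by group
      _ = _ := by rw [hg.eq]; group
  have e2 : g * (zc * c2) * g⁻¹ = (g * (gen .l * gen .k) * g⁻¹)⁻¹ * w := by
    calc g * (zc * c2) * g⁻¹ = (g * (gen .l * gen .k) * g⁻¹)⁻¹ * (g * w * g⁻¹) := by rw [w_eq]; group
      _ = _ := by rw [hg.eq, mul_inv_cancel_right]
  rcases k2 with k2 | k2
  · have h1 : Commute (g * gen .l * g⁻¹) (zc * c2) := by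
      rcases H840.NormX.inv_three fg (gen_mem .l) (gen_mem .k) k1 not_comm_lk k2 with h3 | h3 | h3 <;> rw [h3]
      · exact lz.mul_right lc
      · exact kz.mul_right kc
      · exact comm_AB.mul_left (lz.mul_right lc)
    rw [w_eq, prod_line hsq hA k2 h1] at e1
    rw [e1, w_eq, inv_mul_cancel_left] at e2
    exact Or.inl ⟨mul_inv_eq_iff_eq_mul.1 e1, mul_inv_eq_iff_eq_mul.1 e2⟩
  · have h1 : Commute (g * gen .l * g⁻¹) (gen .l * gen .k) := by
      rcases H840.NormX.inv_three fg zc_mem c2_mem k1 nc_zc2 k2 with h3 | h3 | h3 <;> rw [h3]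
      · exact (lz.mul_left kz).symm
      · exact (lc.mul_left kc).symm
      · exact comm_AB.symm.mul_left (lz.mul_left kz).symm
    rw [w_eq, comm_AB.eq, prod_line hsq hB k2 h1] at e1
    rw [e1, w_eq, comm_AB.eq, inv_mul_cancel_left] at e2
    exact Or.inr ⟨e1, e2⟩

/-- from the class 3E to the class 3A -/
theorem of_cl4 {D : Subgroup Fi24} (hD : LF 3 (commutator Fi24) D) {y : Fi24} (hy : y ∈ D) (hyD : ∀ d ∈ D, Commute y d)
    (h : Cl 4 y) : ∃ a ∈ L, ∃ b ∈ L, ¬ Commute a b ∧ a * b ∈ D ∧ ∀ d ∈ D, Commute (a * b) d := by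
  have : Fact (Nat.Prime 3) := ⟨Nat.prime_three⟩
  have := finite_Fi24
  obtain ⟨g, hg⟩ := cl4_w h
  obtain ⟨A, hA⟩ : ∃ A, A = g⁻¹ * (gen .l * gen .k) * g⁻¹⁻¹ := ⟨_, rfl⟩
  obtain ⟨B, hB⟩ : ∃ B, B = g⁻¹ * (zc * c2) * g⁻¹⁻¹ := ⟨_, rfl⟩
  have hAB : Commute A B := by rw [hA, hB]; exact comm_conj' H48.WFour.comm_AB
  have hA3 : A ^ 3 = 1 := by
    rw [hA, conj_pow, H840.NormX.cube (fd fgroup24) (gen_mem .l) (gen_mem .k) not_comm_lk]; group
  have hB3 : B ^ 3 = 1 := by rw [hB, conj_pow, H840.NormX.cube (fd fgroup24) zc_mem c2_mem nc_zc2]; group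
  have key : ∀ u, Commute y u → (u * A * u⁻¹ = A ∧ u * B * u⁻¹ = B) ∨ (u * A * u⁻¹ = B ∧ u * B * u⁻¹ = A) := by
    intro u hu
    have e : ∀ s : Fi24, u * (g⁻¹ * s * g⁻¹⁻¹) * u⁻¹ = g⁻¹ * (g * u * g⁻¹ * s * (g * u * g⁻¹)⁻¹) * g⁻¹⁻¹ :=
      fun s => by group
    rw [hA, hB, e, e]
    rcases w_cent (hg u hu.symm) with ⟨h1, h2⟩ | ⟨h1, h2⟩
    · rw [h1.eq, h2.eq, mul_inv_cancel_right, mul_inv_cancel_right]
      exact Or.inl ⟨rfl, rfl⟩
    · rw [h1, h2]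
      exact Or.inr ⟨rfl, rfl⟩
  have hU : NormP 3 y (zpowers A ⊔ zpowers B) := by
    refine ⟨isPGroup_sup (isPGroup_zpowers (k := 1) hA3) (isPGroup_zpowers (k := 1) hB3) fun a ha b hb => ?_,
      fun u hu => ?_⟩
    · rwa [(commute_of_mem_zpowers (commute_of_mem_zpowers hAB.symm hb).symm ha).eq, mul_inv_cancel_right]
    · have h3 : (zpowers A ⊔ zpowers B).map (MulAut.conj u).toMonoidHom ≤ zpowers A ⊔ zpowers B := by
        rw [Subgroup.map_sup, MonoidHom.map_zpowers, MonoidHom.map_zpowers]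
        change zpowers (u * A * u⁻¹) ⊔ zpowers (u * B * u⁻¹) ≤ _
        rcases key u hu with ⟨h1, h2⟩ | ⟨h1, h2⟩ <;> rw [h1, h2]
        exact (sup_comm _ _).le
      exact fun v hv => h3 ⟨v, hv, rfl⟩
  have hUD := hD.core _ hU.1 (fun x hx => hU.2 x (hyD x hx)) fun x hx => hU.2 x (hx y hy)
  have e : g⁻¹ * gen .l * g⁻¹⁻¹ * (g⁻¹ * gen .k * g⁻¹⁻¹) = A := by rw [hA]; group
  refine ⟨_, R08.FiTwentyFour.conj (gen_mem .l) g⁻¹, _, R08.FiTwentyFour.conj (gen_mem .k) g⁻¹,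
    fun h0 => not_comm_lk (comm_conj.1 h0), ?_, fun d hd => ?_⟩ <;> rw [e]
  · exact hUD (mem_sup_left (mem_zpowers A))
  · obtain ⟨k, hk⟩ := pelt_of_mem hD.pg hd
    have h1 : d ∈ zpowers (d ^ 2) := mem_zpowers_pow_iff.2
      (Nat.Coprime.coprime_dvd_right (orderOf_dvd_of_pow_eq_one hk) (Nat.Coprime.pow_right k (by norm_num)))
    refine (commute_of_mem_zpowers (mul_inv_eq_iff_eq_mul.1 ?_) h1).symm
    have h2 : d ^ 2 * A * (d ^ 2)⁻¹ = d * (d * A * d⁻¹) * d⁻¹ := by rw [pow_two]; group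
    rcases key d (hyD d hd) with ⟨h3, h4⟩ | ⟨h3, h4⟩
    · rw [h2, h3, h3]
    · rw [h2, h3, h4]

/-- the two kinds of commuting pairs -/
theorem quad_cases {a b c d : Fi24} (ha : a ∈ L) (hb : b ∈ L) (hc : c ∈ L) (hd : d ∈ L) (hab : ¬ Commute a b)
    (hcd : ¬ Commute c d) (h1 : Commute a c) (h2 : Commute b c) (h3 : Commute a d) (h4 : Commute b d) :
    (∃ U : Subgroup Fi24, IsPGroup 3 U ∧ U ≤ centralizer ({a, b, c, d} : Set Fi24) ∧
      (∀ g ∈ centralizer ({a, b, c, d} : Set Fi24), ∀ u ∈ U, g * u * g⁻¹ ∈ U) ∧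
      ∀ g ∈ centralizer ({a, b, c, d} : Set Fi24), (∀ u ∈ U, Commute u g) → g ∈ U) ∨
      ∀ e ∈ L, e ∉ centralizer ({a, b, c, d} : Set Fi24) := by
  have := finite_Fi24
  obtain ⟨g, hg1, hg2⟩ := H840.Lk.noncomm_trans ha hb (gen_mem .l) (gen_mem .k) hab not_comm_lk
  obtain ⟨k, hk, hkk⟩ := H840.M500.conj_cases (R08.FiTwentyFour.conj hc g) (R08.FiTwentyFour.conj hd g)
    (hg1 ▸ comm_conj' h1) (hg2 ▸ comm_conj' h2) (hg1 ▸ comm_conj' h3) (hg2 ▸ comm_conj' h4)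
    (fun h => hcd (comm_conj.1 h))
  rw [H840.M500.map_conj] at hkk
  have e : ∀ t : Fi24, k * (g * t * g⁻¹) * k⁻¹ = k * g * t * (k * g)⁻¹ := fun t => by group
  have ea : k * g * a * (k * g)⁻¹ = gen .l := by
    rw [← e, hg1, (H840.Lk.mem_Clk.1 hk).1]; group
  have eb : k * g * b * (k * g)⁻¹ = gen .k := by
    rw [← e, hg2, (H840.Lk.mem_Clk.1 hk).2]; group
  rw [e, e] at hkk
  generalize k * g = h at ea eb hkk
  have key : ∀ s : Fi24, s ∈ centralizer ({a, b, c, d} : Set Fi24) ↔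
      h * s * h⁻¹ ∈ centralizer ({gen .l, gen .k, h * c * h⁻¹, h * d * h⁻¹} : Set Fi24) := fun s => by
    rw [mem_cent4, mem_cent4, ← ea, ← eb, comm_conj, comm_conj, comm_conj, comm_conj]
  rcases hkk with h5 | h5
  · rw [(cent4_eq h5).trans H840.M500.cent_lkzj] at key
    obtain ⟨hn, -⟩ := H840.Cj.isRefl
    refine Or.inl ⟨H840.Cj.E.comap (MulAut.conj h).toMonoidHom,
      (IsPGroup.of_card H840.Cj.card_E).comap_of_injective _ (MulAut.conj h).injective,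
      fun u hu => (key u).2 (H840.Cj.E_le hu), fun s hs u hu => ?_, fun s hs hu => ?_⟩
    · have h6 : h * s * h⁻¹ * (h * u * h⁻¹) * (h * s * h⁻¹)⁻¹ ∈ H840.Cj.E :=
        hn.conj_mem ⟨_, H840.Cj.E_le hu⟩ hu ⟨_, (key s).1 hs⟩
      change h * (s * u * s⁻¹) * h⁻¹ ∈ H840.Cj.E
      rwa [show h * (s * u * s⁻¹) * h⁻¹ = h * s * h⁻¹ * (h * u * h⁻¹) * (h * s * h⁻¹)⁻¹ by group]
    · change h * s * h⁻¹ ∈ H840.Cj.E
      rw [← H840.Cj.cent_eq]
      refine ⟨(key s).1 hs, mem_centralizer_iff.2 fun v hv => ?_⟩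
      have h6 := comm_conj' (g := h) (hu (h⁻¹ * v * h) (by
        change h * (h⁻¹ * v * h) * h⁻¹ ∈ H840.Cj.E
        rwa [show h * (h⁻¹ * v * h) * h⁻¹ = v by group]))
      rwa [show h * (h⁻¹ * v * h) * h⁻¹ = v by group] at h6
  · rw [cent4_eq h5] at key
    refine Or.inr fun s hs h6 => H48.WFour.width (R08.FiTwentyFour.conj hs h) ?_
    obtain ⟨k1, k2, k3, k4⟩ := mem_cent4.1 ((key s).1 h6)
    rw [H48.WFour.w_eq]
    exact (k1.mul_left k2).mul_left (k3.mul_left k4)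

theorem cl_cases {D : Subgroup Fi24} (hD : LF 3 (commutator Fi24) D) {y : Fi24} (hy : y ∈ D) (ho : orderOf y = 3)
    (hyD : ∀ d ∈ D, Commute y d) : Cl 0 y ∨ Cl 4 y := by
  have h3 : y ^ 3 = 1 := by rw [← ho, pow_orderOf_eq_one]
  have h1 : y ≠ 1 := by
    rintro rfl
    rw [orderOf_one] at ho
    norm_num at ho
  obtain ⟨i, hi⟩ := cl_all h3 h1
  fin_cases i
  · exact Or.inl hi
  · exact (hD.not_constr hy hyD ((constr1 h3 h1 hi).constrIn _)).elim
  · exact (hD.not_constr hy hyD ((constr2 h3 hi).constrIn _)).elim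
  · exact (hD.not_constr hy hyD (constr3 h3 h1 hi)).elim
  · exact Or.inr hi

/-- two commuting elements of the class 3A in the centre -/
theorem no_quad {D : Subgroup Fi24} (hD : LF 3 (commutator Fi24) D) {a b c d : Fi24} (ha : a ∈ L) (hb : b ∈ L)
    (hc : c ∈ L) (hd : d ∈ L) (hab : ¬ Commute a b) (hcd : ¬ Commute c d) (h1 : Commute a c) (h2 : Commute b c)
    (h3 : Commute a d) (h4 : Commute b d) (hx : a * b ∈ D) (hxD : ∀ g ∈ D, Commute (a * b) g) (hy : c * d ∈ D)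
    (hyD : ∀ g ∈ D, Commute (c * d) g) : False := by
  have : Fact (Nat.Prime 3) := ⟨Nat.prime_three⟩
  have := finite_Fi24
  have hx3 := H840.NormX.cube (fd fgroup24) ha hb hab
  have hy3 := H840.NormX.cube (fd fgroup24) hc hd hcd
  have hxy : Commute (a * b) (c * d) := hxD _ hy
  obtain ⟨K, hK⟩ : ∃ K, K = centralizer ({a, b, c, d} : Set Fi24) := ⟨_, rfl⟩
  have hKx : ∀ v ∈ K, Commute (a * b) v := fun v hv => by
    rw [hK, mem_cent4] at hv
    exact hv.1.mul_left hv.2.1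
  have hKy : ∀ v ∈ K, Commute (c * d) v := fun v hv => by
    rw [hK, mem_cent4] at hv
    exact hv.2.2.1.mul_left hv.2.2.2
  have hdec : ∀ g, Commute (a * b) g → Commute (c * d) g →
      ∃ (n m : ℤ) (v : Fi24), v ∈ K ∧ g = (a * b) ^ n * (c * d) ^ m * v := by
    intro g hg1 hg2
    obtain ⟨x, ⟨n, rfl⟩, u, hu, rfl⟩ := cent_mul fgroup24 ha hb hab hg1.symm
    have hu2 : Commute u (c * d) := by
      have h5 := (hxy.zpow_left n).inv_left.mul_left hg2.symm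
      rwa [inv_mul_cancel_left] at h5
    obtain ⟨z, ⟨m, rfl⟩, v, hv, rfl⟩ := cent_mul fgroup24 hc hd hcd hu2
    rw [mem_cent_pair] at hu hv
    have hv1 : Commute a v := by
      have h5 := ((h1.mul_right h3).zpow_right m).inv_right.mul_right hu.1
      rwa [inv_mul_cancel_left] at h5
    have hv2 : Commute b v := by
      have h5 := ((h2.mul_right h4).zpow_right m).inv_right.mul_right hu.2
      rwa [inv_mul_cancel_left] at h5
    exact ⟨n, m, v, hK ▸ mem_cent4.2 ⟨hv1, hv2, hv.1, hv.2⟩, (mul_assoc _ _ _).symm⟩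
  have hconj : ∀ g, Commute (a * b) g → Commute (c * d) g → ∃ v ∈ K, ∀ u ∈ K, g * u * g⁻¹ = v * u * v⁻¹ := by
    intro g hg1 hg2
    obtain ⟨n, m, v, hv, rfl⟩ := hdec g hg1 hg2
    refine ⟨v, hv, fun u hu => ?_⟩
    have h5 := K.mul_mem (K.mul_mem hv hu) (K.inv_mem hv)
    have h6 := ((hKx _ h5).zpow_left n).mul_left ((hKy _ h5).zpow_left m)
    calc _ = (a * b) ^ n * (c * d) ^ m * (v * u * v⁻¹) * ((a * b) ^ n * (c * d) ^ m)⁻¹ := by group
      _ = _ := by rw [h6.eq, mul_inv_cancel_right]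
  have hreg : ∀ r, (∀ g ∈ D, Commute g r) → ¬ 3 ∣ orderOf r → r ∈ K := by
    intro r hr1 hr2
    obtain ⟨n, m, v, hv, hr⟩ := hdec r (hr1 _ hx) (hr1 _ hy)
    refine zpowers_le.2 ?_ (mem_zpowers_pow_of_reg hr2)
    rw [hr, (((hKx v hv).zpow_left n).mul_left ((hKy v hv).zpow_left m)).mul_pow, (hxy.zpow_zpow n m).mul_pow,
      show ((a * b) ^ n) ^ 3 = 1 from pelt_of_mem_zpowers (p := 3) (k := 1) hx3 (zpow_mem_zpowers _ n),
      show ((c * d) ^ m) ^ 3 = 1 from pelt_of_mem_zpowers (p := 3) (k := 1) hy3 (zpow_mem_zpowers _ m), one_mul, one_mul]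
    exact K.pow_mem hv 3
  rcases quad_cases ha hb hc hd hab hcd h1 h2 h3 h4 with ⟨U, k1, k2, k3, k4⟩ | k1
  · rw [← hK] at k2 k3 k4
    have hn : ∀ g, Commute (a * b) g → Commute (c * d) g → ∀ u ∈ U, g * u * g⁻¹ ∈ U := fun g hg1 hg2 u hu => by
      obtain ⟨v, hv, h5⟩ := hconj g hg1 hg2
      rw [h5 u (k2 hu)]
      exact k3 v hv u hu
    have hUD := hD.core U k1 (fun g hg => hn g (hxD g hg) (hyD g hg)) fun g hg => hn g (hg _ hx) (hg _ hy)
    refine hD.nreg fun r _ hr1 hr2 => ?_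
    obtain ⟨k, hk⟩ := pelt_of_mem k1 (k4 r (hreg r hr1 hr2) fun u hu => hr1 u (hUD hu))
    exact eq_one_of_reg hr2 hk
  · rw [← hK] at k1
    have hbot : D ⊓ K = ⊥ := by
      by_contra h0
      obtain ⟨u, hu, ho, huD⟩ := exists_central hD.pg h0 inf_le_left fun g hg u hu =>
        ⟨D.mul_mem (D.mul_mem hg hu.1) (D.inv_mem hg), by
          obtain ⟨v, hv, h5⟩ := hconj g (hxD g hg) (hyD g hg)
          rw [h5 u hu.2]
          exact K.mul_mem (K.mul_mem hv hu.2) (K.inv_mem hv)⟩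
      have hu' : u ∈ K := hu.2
      rw [hK, mem_cent4] at hu'
      rcases cl_cases hD hu.1 ho huD with h5 | h5
      · obtain ⟨e, he, f, hf, hef, rfl⟩ := cl0 h5
        refine k1 e he (hK ▸ mem_cent4.2 ⟨?_, ?_, ?_, ?_⟩)
        exacts [(comm_of_comm_mul fgroup24 he hf ha hef hu'.1).1, (comm_of_comm_mul fgroup24 he hf hb hef hu'.2.1).1,
          (comm_of_comm_mul fgroup24 he hf hc hef hu'.2.2.1).1, (comm_of_comm_mul fgroup24 he hf hd hef hu'.2.2.2).1]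
      · exact cl4_no h5 ha hu'.1
    have hi1 : a * c * (a * b) * (a * c)⁻¹ = (a * b)⁻¹ := by
      calc _ = a * (c * (a * b) * c⁻¹) * a⁻¹ := by group
        _ = _ := by
          rw [← (h1.mul_left h2).eq, mul_inv_cancel_right, H840.NormX.left_inverts (fd fgroup24) ha hb]
    have hi2 : a * c * (c * d) * (a * c)⁻¹ = (c * d)⁻¹ := by
      calc _ = a * (c * (c * d) * c⁻¹) * a⁻¹ := by group
        _ = _ := by
          rw [H840.NormX.left_inverts (fd fgroup24) hc hd, (h1.mul_right h3).inv_right.eq, mul_inv_cancel_right]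
    have h5 := hD.fus (a * c) (by
        rw [R08.FiTwentyFour.mem_commutator_iff, map_mul, R08.FiTwentyFour.sgn_L ha, R08.FiTwentyFour.sgn_L hc]
        decide) (fun q hq => by
        obtain ⟨n, m, v, hv, rfl⟩ := hdec q (hxD q hq) (hyD q hq)
        have h6 : v ∈ D ⊓ K := ⟨by
          simpa [mul_assoc] using D.mul_mem (D.inv_mem (D.mul_mem (D.zpow_mem hx n) (D.zpow_mem hy m))) hq, hv⟩
        rw [hbot, mem_bot] at h6
        rw [h6, mul_one, ← conj_mul, ← conj_zpow, ← conj_zpow, hi1, hi2]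
        exact D.mul_mem (D.zpow_mem (D.inv_mem hx) n) (D.zpow_mem (D.inv_mem hy) m))
      (not_dvd_of_pow (n := 2) (by norm_num) (by
        rw [h1.mul_pow, pow_two, pow_two, H840.NormX.mul_sq (fd fgroup24) ha, H840.NormX.mul_sq (fd fgroup24) hc,
          mul_one]))
      (fun r hr1 hr2 => by
        have h6 := hreg r hr1 hr2
        rw [hK, mem_cent4] at h6
        exact h6.1.mul_left h6.2.2.1) _ hx
    rw [← h5.eq, mul_inv_cancel_right] at hi1
    exact H840.NormX.ne_inv (fd fgroup24) ha hb hab hi1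

theorem cyc {D : Subgroup Fi24} (hD : LF 3 (commutator Fi24) D) : IsCyclic D := by
  have : Fact (Nat.Prime 3) := ⟨Nat.prime_three⟩
  have := finite_Fi24
  by_cases h0 : D = ⊥
  · subst h0
    infer_instance
  obtain ⟨y, hy, ho, hyD⟩ := exists_central hD.pg h0 le_rfl fun d hd u hu => D.mul_mem (D.mul_mem hd hu) (D.inv_mem hd)
  obtain ⟨a, ha, b, hb, hab, hx, hxD⟩ : ∃ a ∈ L, ∃ b ∈ L, ¬ Commute a b ∧ a * b ∈ D ∧ ∀ d ∈ D, Commute (a * b) d := by
    rcases cl_cases hD hy ho hyD with h | h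
    · obtain ⟨a, ha, b, hb, hab, rfl⟩ := cl0 h
      exact ⟨a, ha, b, hb, hab, hy, hyD⟩
    · exact of_cl4 hD hy hyD h
  have hbot : D ⊓ centralizer ({a, b} : Set Fi24) = ⊥ := by
    by_contra h1
    obtain ⟨u, hu, ho, huD⟩ := exists_central hD.pg h1 inf_le_left fun g hg u hu =>
      ⟨D.mul_mem (D.mul_mem hg hu.1) (D.inv_mem hg), by
        obtain ⟨x, hx, v, hv, rfl⟩ := cent_mul fgroup24 ha hb hab (hxD g hg).symm
        have h5 := mul_mem (mul_mem hv hu.2) (inv_mem hv)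
        have h6 := commute_of_mem_zpowers ((mem_cent_pair.1 h5).1.mul_left (mem_cent_pair.1 h5).2) hx
        rwa [show x * v * u * (x * v)⁻¹ = x * (v * u * v⁻¹) * x⁻¹ by group, h6.eq, mul_inv_cancel_right]⟩
    have hu' := mem_cent_pair.1 hu.2
    rcases cl_cases hD hu.1 ho huD with h5 | h5
    · obtain ⟨c, hc, d, hd, hcd, rfl⟩ := cl0 h5
      have k1 := comm_of_comm_mul fgroup24 hc hd ha hcd hu'.1
      have k2 := comm_of_comm_mul fgroup24 hc hd hb hcd hu'.2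
      exact no_quad hD ha hb hc hd hab hcd k1.1 k2.1 k1.2 k2.2 hx hxD hu.1 huD
    · exact cl4_no h5 ha hu'.1
  refine isCyclic_iff_le.2 ⟨a * b, hx, fun g hg => ?_⟩
  obtain ⟨x, hx', v, hv, rfl⟩ := cent_mul fgroup24 ha hb hab (hxD g hg).symm
  have h6 : v ∈ D ⊓ centralizer ({a, b} : Set Fi24) :=
    ⟨by simpa using D.mul_mem (D.inv_mem (zpowers_le.2 hx hx')) hg, hv⟩
  rw [hbot, mem_bot] at h6
  rwa [h6, mul_one]

theorem nn : H711.Crit.NN 3 Spor.Fi24' := by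
  have : Fact (Nat.Prime 3) := ⟨Nat.prime_three⟩
  have := finite_Fi24
  have h : Spor.IsoFi24' Spor.Fi24' := ⟨MulEquiv.refl _⟩
  have hs : IsSimpleGroup Spor.Fi24' := H123.SporSimple.spor_simple (by unfold IsSporadicGroup; tauto)
  refine H711.Crit.NN.of_rowS ?_ (H711.FiTFRow.fi24 h)
  refine (hs.eq_bot_or_eq_top_of_normal _ inferInstance).resolve_right fun h0 => ?_
  have h1 := commutator_eq_top_of_simple hs (NotCT.Orders.fi24 h) (not_prime_of_four (by norm_num))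
  have h2 : commutator Spor.Fi24' = ⊥ := by
    rw [commutator_eq_bot_iff_center_eq_top, h0]
  exact bot_ne_top (h2.symm.trans h1)

theorem model : RowCyc 3 1 Spor.Fi24' := by
  have : Fact (Nat.Prime 3) := ⟨Nat.prime_three⟩
  have := finite_Fi24
  intro D hD
  have h := cyc (hD.lf (fun x ⟨k, hk⟩ => DS.Sp.F24.mem_comm_of_odd (Odd.pow (by decide)) hk) nn)
  exact isCyclic_of_surjective _ (D.equivMapOfInjective _ (subtype_injective _)).symm.surjective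

end Cfsg.Agent.BHZ.Spor.F24

namespace Cfsg.Agent.BHZ.Spor

theorem fi24_3 : ∀ (S : Type) [Group S] [Finite S], Cfsg.Spor.IsoFi24' S → RowCyc 3 1 S := by
  intro S _ _ ⟨e⟩
  have h3 : Fact (Nat.Prime 3) := ⟨Nat.prime_three⟩
  exact F24.model.congr e.symm

end Cfsg.Agent.BHZ.Spor
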