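import Mathlib
import Cfsg.Agent.BHZ.Spor.ToolsB
import Cfsg.Agent.H513.HNZ
import Cfsg.Agent.BpSpor.HNFiveQD
import Cfsg.Agent.H651.HNF.Main

/-!
# S4806, sporadic rows (helper25): `HN`, `p = 5`
-/

set_option autoImplicit false

namespace Cfsg.Agent.BHZ.Spor

open Cfsg Subgroup

universe u

/-- `C(y)` normalizes a `p`-subgroup of order divisible by `p ^ k` -/
def Big (p k : ℕ) {S : Type u} [Group S] (y : S) : Prop := ∃ U : Subgroup S, NormP p y U ∧ p ^ k ∣ Nat.card U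

theorem Big.conj {p k : ℕ} {S : Type u} [Group S] {y z : S} (h : Big p k y) (hz : IsConj y z) : Big p k z := by
  obtain ⟨c, rfl⟩ := isConj_iff.1 hz
  obtain ⟨U, ⟨hU, hn⟩, hr⟩ := h
  refine ⟨U.map (MulAut.conj c).toMonoidHom, ⟨hU.map _, fun x hx => ?_⟩, ?_⟩
  · rintro _ ⟨u, hu, rfl⟩
    refine ⟨_, hn (c⁻¹ * x * c) ?_ u hu, by simp [mul_assoc]⟩
    have := hx.map (MulAut.conj c⁻¹)
    simpa [mul_assoc] using this
  · rwa [card_map_of_injective (MulAut.conj c).injective]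

theorem Big.of_zpowers {p k : ℕ} {S : Type u} [Group S] {y z : S} (h : Big p k y) (hz : y ∈ zpowers z) :
    Big p k z := by
  obtain ⟨U, ⟨hU, hn⟩, hr⟩ := h
  exact ⟨U, ⟨hU, fun x hx => hn x (commute_of_mem_zpowers hx hz)⟩, hr⟩

theorem Big.dvd {p k m : ℕ} [Fact p.Prime] {S : Type u} [Group S] {y : S} (h : Big p k y) {D : Subgroup S}
    (hD : Loc p m D) (hy : y ∈ D) (hyD : ∀ d ∈ D, Commute y d) : p ^ k ∣ Nat.card D := by
  obtain ⟨U, hU, hr⟩ := h
  exact hr.trans (card_dvd_of_le (hU.le hD hy hyD))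

theorem isPGroup_of_primes {p : ℕ} {S : Type u} [Group S] [Finite S]
    (h : ∀ r : ℕ, r.Prime → r ∣ Nat.card S → r = p) : IsPGroup p S :=
  IsPGroup.of_card (Nat.eq_prime_pow_of_unique_prime_dvd Nat.card_pos.ne' fun h1 h2 => h _ h1 h2)

end Cfsg.Agent.BHZ.Spor

namespace Cfsg.Agent.BHZ.Spor.HN5

open Cfsg.Agent.HN.Pres Cfsg.Agent.HN.H0Basic
open Cfsg.Agent.HN.P1408 hiding ψ
open Cfsg.Agent.HN.XWords (W0 W0_sq)
open Cfsg.Agent.HN.NormalH (ψ)
open Cfsg Cfsg.Agent
open Cfsg.Agent.KFacts.HN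
open Cfsg.Agent.CpAutHNFive Cfsg.Agent.CpAutHNFive.LFive Cfsg.Agent.CpAutHNFive.PFive
open Cfsg.Agent.CpAutHNFive.TFive Cfsg.Agent.CpAutHNFive.HTab Cfsg.Agent.CpAutHNFive.HFacts
open Cfsg.Agent.CpAutHNFive.TauFive Cfsg.Agent.BpSpor.HNFiveA
open Cfsg.Agent.H513.NilpHN Cfsg.Agent.H513.NilpTools Cfsg.Agent.H513.HNZ
open Subgroup

theorem order_ψ {w : List ℕ} (h : orderOf (hw w) = 5) : orderOf (ψ (hw w)) = 5 := by
  rw [orderOf_injective _ emb.inj, h]

theorem mem_pow {X : Type} [Group X] {x : X} (hx : orderOf x = 5) {m : ℕ} (h1 : 1 ≤ m) (h5 : m < 5) :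
    x ∈ zpowers (x ^ m) := by
  rw [mem_zpowers_pow_iff, hx]
  interval_cases m <;> rfl

theorem big_w1 : Big 5 5 (ψ (hw w1)) := by
  have h5 : Fact (Nat.Prime 5) := ⟨Nat.prime_five⟩
  have hfin : Finite G := Nat.finite_of_card_ne_zero (by rw [card_G]; norm_num)
  obtain ⟨z, -, hz1, hz2, -, ⟨g', n', hn1', hn5', hg'⟩, -⟩ := exists_z'
  obtain ⟨y, hy, hρ, ⟨g, n, hn1, hn5, hg⟩, c, d, hc5, hd5, hcy, hdy, hcd, hci, hdi⟩ := exists_data'
  have hex := ex_two hy hρ
  obtain ⟨N, hcr⟩ := hex.exists_cr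
  have hZ := hcr.normalZ
  have h7 : ¬ 5 ^ 7 ∣ Nat.card G := by rw [card_G]; norm_num
  have hcN := hcr.mem_of_inv (v := (⟨c, mem_centralizer_singleton_iff.2 hcy⟩ : ↥(centralizer ({(y : G)} : Set G))))
    (m := 5) (Subtype.ext hci) (by decide) (Subtype.ext hc5)
  have hdN := hcr.mem_of_inv (v := (⟨d, mem_centralizer_singleton_iff.2 hdy⟩ : ↥(centralizer ({(y : G)} : Set G))))
    (m := 5) (Subtype.ext hdi) (by decide) (Subtype.ext hd5)
  obtain ⟨h6, -⟩ := hcr.mem_of_big (fun hd => h7 (hd.trans (card_subgroup_dvd_card _))) (dvd_card hy hρ)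
    (hex.irr hcr) hcN (Subtype.ext hc5) hdN (Subtype.ext hd5) (fun h => hcd (congrArg Subtype.val h))
  have hc : Nat.card (centralizer ({(y : G)} : Set G)) = Nat.card (centralizer ({z} : Set G)) := by
    rw [← card_cent_of_conj (isConj_iff.2 ⟨_, hg⟩), ← card_cent_of_conj (isConj_iff.2 ⟨_, hg'⟩),
      centralizer_pow (order_ψ order_w1) hn1 hn5, centralizer_pow (order_ψ order_w1) hn1' hn5']
  have hN : IsPGroup 5 N := isPGroup_of_primes fun r hr hrN => by
    have h1 : r ∣ Nat.card (centralizer ({z} : Set G)) := hc ▸ hrN.trans (card_subgroup_dvd_card N)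
    have h2 : r ≠ 2 := by
      rintro rfl
      exact (Nat.not_even_iff_odd.2 hcr.oddN) (even_iff_two_dvd.2 hrN)
    have h3 : r ≠ 3 := by
      rintro rfl
      exact hz2 h1
    by_contra h4
    have key : ∀ a b c : ℕ, ¬ r ∣ 2 ^ a * 3 ^ b * 5 ^ c := fun a b c h0 => by
      rcases (Nat.Prime.dvd_mul hr).1 h0 with h | h
      · rcases (Nat.Prime.dvd_mul hr).1 h with h | h
        · exact h2 ((Nat.prime_dvd_prime_iff_eq hr Nat.prime_two).1 (hr.dvd_of_dvd_pow h))
        · exact h3 ((Nat.prime_dvd_prime_iff_eq hr Nat.prime_three).1 (hr.dvd_of_dvd_pow h))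
      · exact h4 ((Nat.prime_dvd_prime_iff_eq hr Nat.prime_five).1 (hr.dvd_of_dvd_pow h))
    refine hz1 r hr (by simpa using key 14 2 2) (fun h0 => ?_) h1
    have h8 : r * r ∣ 7 * 11 * 19 := by
      refine Nat.Coprime.dvd_of_dvd_mul_left (m := 2 ^ 14 * 3 ^ 6 * 5 ^ 6) ?_ (by simpa using h0)
      have h9 := (Nat.Prime.coprime_iff_not_dvd hr).2 (key 14 6 6)
      exact Nat.Coprime.mul_left h9 h9
    have h9 : Squarefree (7 * 11 * 19) := by decide +kernel
    exact hr.one_lt.ne' (Nat.isUnit_iff.1 (h9 r h8))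
  have hb : Big 5 5 (y : G) := by
    refine ⟨_, NormP.of_normal (centralizer ({(y : G)} : Set G))
      (fun x hx => mem_centralizer_singleton_iff.2 hx.symm) N hcr.normal hN, ?_⟩
    rw [card_map_of_injective (subtype_injective _)]
    have h1 : 5 ^ 7 ∣ Nat.card N * 3686400 := by
      refine Dvd.dvd.trans ?_ (mul_dvd_mul_left _ (card_PP ▸ card_dvd_of_injective (toPP y) (toPP_inj y)))
      rw [← hcr.card_mul, pow_succ]
      exact mul_dvd_mul_right h6 5
    have h2 : 5 ^ 5 * 25 ∣ Nat.card N * 147456 * 25 := by simpa [mul_assoc] using h1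
    exact Nat.Coprime.dvd_of_dvd_mul_right (by norm_num) (Nat.dvd_of_mul_dvd_mul_right (by norm_num) h2)
  exact (hb.conj (isConj_iff.2 ⟨_, hg⟩).symm).of_zpowers (npow_mem_zpowers _ n)

theorem card_w2 : Nat.card (centralizer ({hw w2} : Set H0)) = 1200 :=
  (Nat.card_congr (equiv_C (hw w2)).toEquiv).trans BpSpor.HNFive.card_tz

theorem model : RowAb 5 1 G := by
  have h5 : Fact (Nat.Prime 5) := ⟨Nat.prime_five⟩
  have hfin : Finite G := Nat.finite_of_card_ne_zero (by rw [card_G]; norm_num)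
  have hs : IsSimpleGroup G := S1701.result.1
  intro D hD
  by_contra hna
  have h3 : 5 ^ 3 ∣ Nat.card D := by
    by_contra h0
    exact hna (comm_of_not_cube_dvd hD.pg h0)
  obtain ⟨t, ht1, ht2, ht3⟩ := exists_prime_of_not_regTriv
    (hD.false_of_regTriv (nn_five hs (by norm_num) card_G (by norm_num) (by norm_num)))
  have h4 := card_dvd_of_comm ht3
  have h6 : 5 ^ 3 ∣ H651.HNF.cn (H := Spor.HN) t := h3.trans h4
  have R := H651.HNF.raw
  have ho : orderOf t = 2 := by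
    have h7 := R.cover t fun h0 => ht2 ((Nat.prime_dvd_prime_iff_eq Nat.prime_five ht1).1 h0).symm
    simp only [Finset.mem_insert, Finset.mem_singleton] at h7
    rcases h7 with h | h | h | h | h | h | h | h | h | h | h | h | h | h
    all_goals first
      | exact h
      | exact absurd (show Nat.Prime _ from h ▸ ht1) (by decide)
      | skip
    · rcases R.r3 t h with h8 | h8 <;> rw [h8] at h6 <;> norm_num at h6
    · rw [R.r7 t h] at h6; norm_num at h6
    · rw [R.r11 t h] at h6; norm_num at h6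
    · rw [R.r19 t h] at h6; norm_num at h6
  rcases SigZeroHN.card_centralizer_cases (u := t) ho with ⟨hc, hcard⟩ | ⟨-, hcard⟩
  swap
  · have h7 := h3.trans (hcard ▸ h4)
    norm_num at h7
  obtain ⟨c, hc⟩ := isConj_iff.1 hc
  obtain ⟨y, hy, hyo, hyD⟩ := exists_central hD.pg (fun h0 => hna (by rw [h0]; infer_instance)) le_rfl
    fun d hd u hu => D.mul_mem (D.mul_mem hd hu) (D.inv_mem hd)
  have hlift : ∀ d ∈ D, ∃ v : H0, ψ v = c * d * c⁻¹ := fun d hd => emb.cent _ (by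
    rw [← hc]
    exact (ht3 d hd).map (MulAut.conj c))
  obtain ⟨v, hv⟩ := hlift y hy
  have hvo : orderOf v = 5 := by
    rw [← orderOf_injective ψ emb.inj, hv, ← hyo]
    exact (MulAut.conj c).orderOf_eq y
  obtain ⟨g, m, hm1, hm5, w, hw', hg⟩ := five_conj hvo
  have hyw : (ψ g * c) * y * (ψ g * c)⁻¹ = ψ (hw w) ^ m := by
    rw [← map_pow, ← hg, map_mul, map_mul, map_inv, hv]; group
  have key : orderOf (hw w) = 5 → Nat.card D ∣ Nat.card (centralizer ({hw w} : Set H0)) := fun ho5 => by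
    rw [← card_map_of_injective (K := D) (f := (MulAut.conj (ψ g * c)).toMonoidHom) (MulAut.conj _).injective,
      ← card_map_of_injective (K := centralizer ({hw w} : Set H0)) emb.inj]
    refine card_dvd_of_le ?_
    rintro _ ⟨d, hd, rfl⟩
    obtain ⟨v', hv'⟩ := hlift d hd
    have h7 : ψ (g * v' * g⁻¹) = (ψ g * c) * d * (ψ g * c)⁻¹ := by rw [map_mul, map_mul, map_inv, hv']; group
    refine ⟨g * v' * g⁻¹, ?_, h7⟩
    rw [← centralizer_pow ho5 hm1 hm5]
    refine mem_centralizer_singleton_iff.2 (emb.inj ?_)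
    rw [map_mul, map_mul (f := ψ) (hw w ^ m), h7, map_pow, ← hyw]
    exact ((hyD d hd).map (MulAut.conj (ψ g * c))).symm
  rcases hw' with rfl | rfl | rfl
  · have h7 := ((big_w1.of_zpowers (mem_pow (order_ψ order_w1) hm1 hm5)).conj (isConj_iff.2 ⟨_, hyw⟩).symm).dvd hD hy hyD
    have h8 := h7.trans (hcard ▸ h4)
    norm_num at h8
  · have h7 := h3.trans (card_w2 ▸ key order_w2)
    norm_num at h7
  · have h7 := h3.trans (HFacts.card_three ▸ key order_w3)
    norm_num at h7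

end Cfsg.Agent.BHZ.Spor.HN5

namespace Cfsg.Agent.BHZ.Spor

theorem hn_5 : ∀ (S : Type) [Group S] [Finite S], Cfsg.Spor.IsoHN S → RowAb 5 1 S := by
  intro S _ _ ⟨e⟩
  have h5 : Fact (Nat.Prime 5) := ⟨Nat.prime_five⟩
  exact HN5.model.congr e.symm

end Cfsg.Agent.BHZ.Spor
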