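import Mathlib
import Cfsg.Agent.BHZ.Spor.NBTools
import Cfsg.Agent.H513.PQ.HS

/-!
# S4806, sporadic rows (helper25): `HS`, `p = 5`
-/

set_option autoImplicit false

namespace Cfsg.Agent.BHZ.Spor

open Cfsg Subgroup

theorem hs_5 : ∀ (S : Type) [Group S] [Finite S], Spor.IsoHS S → RowAb 5 2 S := by
  intro S _ _ h
  have hF : Fact (Nat.Prime 5) := ⟨by norm_num⟩
  have hs : IsSimpleGroup S := H123.SporSimple.spor_simple (Or.inr (Or.inr (Or.inr (Or.inr (Or.inr (Or.inr (Or.inr (Or.inr (Or.inr (Or.inr (Or.inr (Or.inr (Or.inr (Or.inl h))))))))))))))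
  have hc := NotCT.Orders.hs h
  exact rowAb_of_nb (nn_five hs (by norm_num) hc (by norm_num) (by norm_num)) (by rw [hc]; norm_num) (H513.PQ.HS.nb_five h)

end Cfsg.Agent.BHZ.Spor
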