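import Mathlib
import Cfsg.Agent.BHZ.Spor.Tools
import Cfsg.Agent.H825.SB.HeChar
import Cfsg.Agent.H171.RM.HeEven

/-!
# S4806, sporadic rows (helper25): `He`, `p = 7`
-/

set_option autoImplicit false

namespace Cfsg.Agent.BHZ.Spor

open Cfsg Subgroup

theorem he_c33 : ∀ i : Fin 33, ∀ n : ℕ, n * (4030387200 / H825.SB.He.C33.getD i 0) = 4030387200 → 7 ^ 3 ∣ n →
    n = 4030387200 ∨ n = 1029 := by
  intro i n h1 h2
  fin_cases i <;> simp [H825.SB.He.C33] at h1 <;> omega

theorem he_7 : ∀ (S : Type) [Group S] [Finite S], Spor.IsoHe S → RowAb 7 1 S := by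
  intro S _ _ h
  have hF : Fact (Nat.Prime 7) := ⟨by norm_num⟩
  have hs : IsSimpleGroup S := H123.SporSimple.spor_simple (by unfold IsSporadicGroup; tauto)
  have hc := NotCT.Orders.he h
  obtain ⟨e⟩ := h
  have hf := Finite.of_equiv S e.toEquiv
  have hc' : Nat.card Spor.He = 4030387200 := by rw [← Nat.card_congr e.toEquiv, hc]
  have hs' : IsSimpleGroup Spor.He := e.symm.isSimpleGroup
  refine (rowAb_of_cent (nn_five hs' (by norm_num) hc' (by norm_num) (by norm_num)) fun t h1 h2 h3 => ?_).congr e.symm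
  obtain ⟨x, -, -, hx, hn⟩ := H825.SB.He.classes33
  obtain ⟨i, hi⟩ := hx t
  have h4 := (centralizer ({x i} : Set Spor.He)).card_mul_index
  rw [← card_class_eq_index, hn i, hc', card_cent_of_conj hi] at h4
  have ht : t ∈ centralizer ({t} : Set Spor.He) := mem_centralizer_singleton_iff.2 rfl
  rcases he_c33 i _ h4 h3 with h5 | h5
  · have h6 : centralizer ({t} : Set Spor.He) = ⊤ := eq_top_of_card_eq _ (by rw [h5, hc'])
    have h7 : t ∈ center Spor.He := mem_center_iff.2 fun g => mem_centralizer_singleton_iff.1 (h6 ▸ mem_top g)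
    rcases (inferInstance : (center Spor.He).Normal).eq_bot_or_eq_top with h8 | h8
    · rw [h8, mem_bot] at h7
      rw [h7, orderOf_one] at h1
      exact Nat.not_prime_one h1
    · let _ : CommGroup Spor.He :=
        { (inferInstance : Group Spor.He) with mul_comm := fun a b => (mem_center_iff.1 (h8 ▸ mem_top a) b).symm }
      have h10 := IsSimpleGroup.prime_card (α := Spor.He)
      rw [hc'] at h10
      exact not_prime_of_four (by norm_num) h10
  · have h6 : orderOf t ∣ 3 * 7 ^ 3 := by
      have := orderOf_dvd_natCard (⟨t, ht⟩ : centralizer ({t} : Set Spor.He))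
      rwa [orderOf_mk, h5] at this
    have h7 : orderOf t = 3 := by
      rcases (Nat.Prime.dvd_mul h1).1 h6 with h7 | h7
      · exact (Nat.prime_dvd_prime_iff_eq h1 Nat.prime_three).1 h7
      · exact absurd ((Nat.prime_dvd_prime_iff_eq h1 hF.out).1 (h1.dvd_of_dvd_pow h7)) h2
    have h8 := H171.RM.HeEven.three_even h7
    rw [h5] at h8
    norm_num at h8

end Cfsg.Agent.BHZ.Spor
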