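import Mathlib
import Cfsg.Agent.BHZ.Spor.Block
import Cfsg.Agent.H724.IMJThree
import Cfsg.Agent.H383.W2.M22Fact
import Cfsg.Agent.H711.JThreeRow

/-!
# S4806, the sporadic row `J3`, `p = 3` (helper4)
-/

set_option autoImplicit false

namespace Cfsg.Agent.BHZ.Spor

open Cfsg Subgroup

theorem j3_3 : ∀ (S : Type) [Group S] [Finite S], Spor.IsoJ3 S → RowCyc 3 1 S := by
  intro S _ _ h
  have h3 : Fact (Nat.Prime 3) := ⟨Nat.prime_three⟩
  have hc : Nat.card S = 50232960 := (H898.J3Cent.base h).2.1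
  have hnn : H711.Crit.NN 3 S := by
    obtain ⟨F, _, _, ω, hF, hω, ⟨e⟩⟩ := h
    exact (H711.JThreeRow.nn_j3 hF hω).congr e.symm
  refine rowCyc_of_cent hnn fun y hy hy3 => ?_
  have hd : orderOf y ∣ 50232960 := by rw [← hc]; exact orderOf_dvd_natCard y
  rcases H898.J3Cent.prime_dvd_card hy hd with h1 | h1 | h1 | h1 | h1
  · rw [H724.IMJThree.card_two h h1]; norm_num
  · exact absurd h1 hy3
  · obtain ⟨y0, hy0, hc0⟩ := H724.IMJThree.exists_five h
    have h2 := H383.W2.card_cent_of_prime (p := 5) (by norm_num) (by rw [hc]; norm_num) hy0 h1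
    have h4 := H383.W2.card_cent_of_prime (p := 5) (by norm_num) (by rw [hc]; norm_num) h1 hy0
    rw [le_antisymm h2 h4, hc0]
    norm_num
  · rw [(H898.J3Cent.seventeen h h1).1]; norm_num
  · rw [H898.J3Cent.card_nineteen h h1]; norm_num

end Cfsg.Agent.BHZ.Spor
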