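import Mathlib
import Cfsg.Agent.BHZ.Spor.NBTools
import Cfsg.Agent.H894.PQ.J4

/-!
# S4806, sporadic rows (helper25): `J₄`, `p = 11`
-/

set_option autoImplicit false

namespace Cfsg.Agent.BHZ.Spor

open Cfsg Subgroup

theorem j4_11 : ∀ (S : Type) [Group S] [Finite S], Spor.IsoJ4 S → RowAb 11 1 S := by
  intro S _ _ h
  have hF : Fact (Nat.Prime 11) := ⟨by norm_num⟩
  have hs : IsSimpleGroup S := H123.SporSimple.spor_simple (Or.inr (Or.inr (Or.inr (Or.inr (Or.inr (Or.inr (Or.inr (Or.inr (Or.inl h)))))))))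
  have hc := NotCT.Orders.j4 h
  obtain ⟨e⟩ := h
  let f := e
  have hf := Finite.of_equiv S f.toEquiv
  exact (rowAb_of_nb ((nn_five hs (by norm_num) hc (by norm_num) (by norm_num)).congr f)
    (by rw [← Nat.card_congr f.toEquiv, hc]; norm_num) (H894.PQ.J4.nb11.mono (by norm_num))).congr f.symm

end Cfsg.Agent.BHZ.Spor
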