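import Mathlib
import Cfsg.Agent.BHZ.Spor.Block
import Cfsg.Agent.H383.W2.M22Fact
import Cfsg.Agent.H712.GmnNN

/-!
# S4806, the sporadic row `M22`, `p = 3` (helper4)
-/

set_option autoImplicit false

namespace Cfsg.Agent.BHZ.Spor

open Cfsg Subgroup

theorem m22_3_model : RowCyc 3 4 Spor.M22 := by
  have h3 : Fact (Nat.Prime 3) := ⟨Nat.prime_three⟩
  have hfin : Finite Spor.M22 := H383.W2.finite22
  have hc : Nat.card Spor.M22 = 443520 := SporadicA.MathieuRecog.card_M22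
  have hs : IsSimpleGroup Spor.M22 := SporadicA.MathieuRecog.simple_M22
  refine rowCyc_of_cent (H712.GmnNN.nn_of_three (by rw [hc]; norm_num) (by rw [hc]; norm_num)
    (by rw [hc]; norm_num)) fun t ht ht3 h9 => ?_
  obtain ⟨⟨w, hwt⟩, hw⟩ := exists_prime_orderOf_dvd_card' (G := centralizer ({t} : Set Spor.M22)) 3
    (Dvd.dvd.trans (by norm_num) h9)
  rw [orderOf_mk] at hw
  have h6 := H383.W2.pow_six hw (mem_centralizer_singleton_iff.1 hwt).symm
  have h2 : orderOf t ∣ 2 * 3 := orderOf_dvd_of_pow_eq_one h6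
  rcases (Nat.Prime.dvd_mul ht).1 h2 with h | h
  · rw [H992.Stages.card_cent_m22 ((Nat.prime_dvd_prime_iff_eq ht Nat.prime_two).1 h)] at h9
    norm_num at h9
  · exact ht3 ((Nat.prime_dvd_prime_iff_eq ht Nat.prime_three).1 h)

theorem m22_3 : ∀ (S : Type) [Group S] [Finite S], Spor.IsoM22 S → RowCyc 3 4 S := by
  rintro S _ _ ⟨e⟩
  have h3 : Fact (Nat.Prime 3) := ⟨Nat.prime_three⟩
  exact m22_3_model.congr e.symm

end Cfsg.Agent.BHZ.Spor
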