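import Mathlib
import Cfsg.Agent.BHZ.Spor.Desc
import Cfsg.Agent.BHZ.Spor.RowM223
import Cfsg.Agent.H337.JankoOfIso
import Cfsg.Agent.S5563
import Cfsg.Agent.S5564
import Cfsg.Agent.S1703

/-!
# S4806, the sporadic row `J4`, `p = 3` (helper4)
-/

set_option autoImplicit false

namespace Cfsg.Agent.BHZ.Spor

open Cfsg Subgroup

theorem j4_3 : ∀ (S : Type) [Group S] [Finite S], Spor.IsoJ4 S → RowAb 3 1 S := by
  intro S _ _ h
  have h3 : Fact (Nat.Prime 3) := ⟨Nat.prime_three⟩
  have hJ := H337.isOfJankoFourType_of_isoJ4 h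
  have hs : IsSimpleGroup S := by
    obtain ⟨e⟩ := h
    have := S1703.result.1
    exact e.isSimpleGroup
  by_cases hG : IsMulCommutative S
  · exact fun D _ => inferInstance
  obtain ⟨z, P, hP⟩ := hJ
  obtain ⟨-, -, h6, ⟨e⟩, hN⟩ := S5563.result hG z P hP
  have hP3 : Nat.card P = 3 := hP.2.2.2.2.2.1
  have hcyc : IsCyclic P := isCyclic_of_prime_card hP3
  obtain ⟨x, hx, hxP⟩ := isCyclic_iff_le.1 hcyc
  have hPx : P = zpowers x := le_antisymm hxP (zpowers_le.2 hx)
  have hx3 : orderOf x = 3 := by rw [← Nat.card_zpowers, ← hPx, hP3]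
  have hC : centralizer ({x} : Set S) = centralizer ({z} : Set S) ⊓ centralizer (P : Set S) := by
    have h1 : centralizer ({x} : Set S) = centralizer (P : Set S) := by
      refine le_antisymm (fun g hg => mem_centralizer_iff.2 fun w hw => ?_) (centralizer_le (Set.singleton_subset_iff.2 hx))
      exact commute_of_mem_zpowers (mem_centralizer_singleton_iff.1 hg).symm (hxP w hw)
    rw [h1]
    exact le_antisymm (le_inf ((Subgroup.centralizer_le_normalizer _).trans hN) le_rfl) inf_le_right
  have key : AbAt 3 1 x := by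
    revert h6 e
    rw [← hC]
    intro h6 e
    let φ : centralizer ({x} : Set S) →* Spor.M22 := e.toMonoidHom.comp (QuotientGroup.mk' _)
    have hk : φ.ker ≤ center _ := fun n hn => by
      have h1 : e (n : centralizer ({x} : Set S) ⧸ center _) = 1 := hn
      rwa [map_eq_one_iff _ e.injective, QuotientGroup.eq_one_iff] at h1
    refine abAt_of_central φ (e.surjective.comp (QuotientGroup.mk'_surjective _)) hk (e := 2) (fun n hn hr => ?_)
      (m22_3_model.of_dvd (by norm_num))
    have h1 : orderOf n ∣ 2 * 3 := by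
      have h2 := orderOf_dvd_natCard (⟨n, hk hn⟩ : center _)
      rwa [orderOf_mk, h6] at h2
    exact orderOf_dvd_iff_pow_eq_one.1
      (Nat.Coprime.dvd_of_dvd_mul_right ((Nat.Prime.coprime_iff_not_dvd Nat.prime_three).2 hr).symm h1)
  exact rowAb_of_abAt fun y hy _ => key.conj (S5564.result hG ⟨z, P, hP⟩ x y hx3 hy)

end Cfsg.Agent.BHZ.Spor
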