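import Mathlib
import Cfsg.Agent.BHZ.Spor.Tools
import Cfsg.Agent.H799.PB.LyFiveC
import Cfsg.Agent.H799.PB.RowLyA

/-!
# S4806, sporadic rows (helper25): `Ly`, `p = 5`
-/

set_option autoImplicit false

namespace Cfsg.Agent.BHZ.Spor

open Cfsg Subgroup
open Cfsg.Agent.SporRec Cfsg.Agent.SporRec.LyType Cfsg.Agent.SporRec.LyFiveCore Cfsg.Agent.H799.PB
open Cfsg.Agent.SporRec.LyFiveExtra Cfsg.Agent.SporRec.LyFiveSix

universe u

section

variable {G : Type u} [Group G] [Finite G] {L : LyType G} {f : G} (hf : Five L f)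

include hf in
theorem ly_constr_f : Constr 5 f := by
  have : Fact (Nat.Prime 5) := ⟨Nat.prime_five⟩
  have h := fin hf
  have hn : ((core f).subgroupOf (centralizer ({f} : Set G))).Normal := h.normal_K
  refine Constr.of_isPGroup (core f) (isPGroup_core hf) (fun x hx u hu => ?_)
    ((isPGroup_core hf).to_le (cent_core_le hf))
  exact hn.conj_mem ⟨u, h.K_le hu⟩ hu ⟨x, mem_centralizer_singleton_iff.2 hx.symm⟩

include hf in
theorem ly_constr_core (hcard : Nat.card G = 51765179004000000) {x : G} (hx : x ∈ core f) (hx1 : x ≠ 1) :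
    Constr 5 x := by
  have : Fact (Nat.Prime 5) := ⟨Nat.prime_five⟩
  by_cases hno : ∃ g : G, g * x * g⁻¹ = f
  · obtain ⟨g, hg⟩ := hno
    exact (ly_constr_f hf).conj (isConj_iff.2 ⟨g, hg⟩).symm
  push Not at hno
  by_cases hxF : x ∈ zpowers f
  · have h1 : zpowers x = zpowers f := by
      apply eq_of_le_of_card_ge (zpowers_le.2 hxF)
      rw [(fin hf).card_F, Nat.card_zpowers, orderOf_mem_core hx hx1 hf]
    exact (ly_constr_f hf).of_zpowers (h1 ▸ mem_zpowers f)
  · exact Constr.of_centric ⟨1, by rw [pow_one, ← orderOf_mem_core hx hx1 hf, pow_orderOf_eq_one]⟩ _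
      (Lib.Cores.pCore_normal 5) (Lib.Cores.pCore_isPGroup 5) (centric hf hcard hx hxF hno)

end

theorem ly_5 : ∀ (S : Type) [Group S] [Finite S], Spor.IsoLy S → RowAb 5 1 S := by
  intro S _ _ h
  have hF : Fact (Nat.Prime 5) := ⟨by norm_num⟩
  have hs : IsSimpleGroup S := H123.SporSimple.spor_simple (by unfold IsSporadicGroup; tauto)
  have hc := NotCT.Orders.ly h
  obtain ⟨e⟩ := h
  have hfin := Finite.of_equiv S e.toEquiv
  have hc' : Nat.card Spor.Ly = 51765179004000000 := by rw [← Nat.card_congr e.toEquiv, hc]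
  have hnn := (nn_five hs (p := 5) (by norm_num) hc (by norm_num) (by norm_num)).congr e
  refine RowAb.congr (fun D hD => ?_) e.symm
  obtain ⟨L, f, hf⟩ := exists_lyType
  refine comm_of_not_cube_dvd hD.pg fun h3 => ?_
  obtain ⟨x, hx, hxc, hx1, g, hg⟩ := exists_central_core hf hc' hD.pg ((by norm_num : 25 ∣ 5 ^ 3).trans h3)
  exact hD.not_constr hnn hx (fun d hd => (hxc d hd).symm)
    ((ly_constr_core hf hc' hg fun h => hx1 (conj_eq_one_iff.1 h)).conj (isConj_iff.2 ⟨g, rfl⟩).symm)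

end Cfsg.Agent.BHZ.Spor
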