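import Mathlib
import Cfsg.Agent.BHZ.Spor.NBTools
import Cfsg.Agent.H316.SB.MonThirteen
import Cfsg.Agent.MonsterP.Equiv

/-!
# S4806, sporadic rows (helper25): the Monster, `p = 13`
-/

set_option autoImplicit false

namespace Cfsg.Agent.BHZ.Spor

open Cfsg Subgroup

theorem m_13 : ∀ (S : Type) [Group S] [Finite S], Spor.IsoM S → RowAb 13 1 S := by
  intro S _ _ h
  have hF : Fact (Nat.Prime 13) := ⟨by norm_num⟩
  have hs : IsSimpleGroup S := H123.SporSimple.spor_simple (Or.inr (Or.inr (Or.inr (Or.inr (Or.inr (Or.inr (Or.inr (Or.inr (Or.inr (Or.inr (Or.inr (Or.inr (Or.inr (Or.inr (Or.inr (Or.inr (Or.inr (Or.inr (Or.inr (Or.inr (Or.inr (Or.inr (Or.inr (Or.inr (Or.inr h)))))))))))))))))))))))))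
  have hc := NotCT.Orders.m h
  obtain ⟨e⟩ := h
  obtain ⟨e'⟩ := MonsterP.Equiv.equiv
  let f := e.trans e'
  have hf := Finite.of_equiv S f.toEquiv
  exact (rowAb_of_nb ((nn_five hs (by norm_num) hc (by norm_num) (by norm_num)).congr f)
    (by rw [← Nat.card_congr f.toEquiv, hc]; norm_num) (H316.SB.Monster.nb_thirteen)).congr f.symm

end Cfsg.Agent.BHZ.Spor
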