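import Mathlib
import Cfsg.Agent.BHZ.Spor.Hole
import Cfsg.Agent.H199.AbRad
import Cfsg.Agent.H31.TwoCyc.RadExp

/-!
# S4806, sporadic rows (helper25): the situation `Rad` gives centralizers of characteristic `p`
-/

set_option autoImplicit false
set_option linter.unusedSectionVars false

namespace Cfsg.Agent.BHZ.Spor

open Cfsg Subgroup Cfsg.Agent.BpSpor.M5

universe u v

variable {p : ℕ} [hp : Fact p.Prime]

theorem regTriv_of_rad {D : Type u} [Group D] [Finite D] {z x : D} {N : Subgroup D} {A : Type v} [Group A]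
    [IsSimpleGroup A] {f : centralizer ({z} : Set D) →* A} (h : Rad p z x N f) (hp2 : p ≠ 2)
    (hns : ¬ Group.IsSolvable A) {k : centralizer ({z} : Set D)} (hk : (k : D) * k = z) (hN : IsPGroup p N)
    (h2 : p ^ 2 ∣ Nat.card N) : RegTriv p N := by
  have hZ := h.normalZ
  have hNn := h.nN
  set q := QuotientGroup.mk' (zpowers x) with hq
  have hq1 : ∀ g, q g = 1 ↔ g ∈ zpowers x := fun g => QuotientGroup.eq_one_iff g
  have hMn : (N.map q).Normal := hNn.map q (QuotientGroup.mk'_surjective _)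
  set K : Subgroup D := (centralizer (N.map q : Set (D ⧸ zpowers x))).comap q with hK
  have hKn : K.Normal := inferInstance
  have hKi : ∀ g, g ∈ K ↔ ∀ s ∈ N, ∃ i : ℤ, g * s * g⁻¹ = s * x ^ i := fun g => by
    constructor
    · intro hg s hs
      have h1 : q s * q g = q g * q s := mem_centralizer_iff.1 hg _ ⟨s, hs, rfl⟩
      obtain ⟨i, hi⟩ := (hq1 (s⁻¹ * (g * s * g⁻¹))).1 (by
        rw [map_mul, map_mul, map_mul, map_inv, map_inv, ← h1]
        group)
      exact ⟨i, by rw [show x ^ i = _ from hi]; group⟩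
    · intro hg
      refine mem_centralizer_iff.2 ?_
      rintro _ ⟨s, hs, rfl⟩
      obtain ⟨i, hi⟩ := hg s hs
      have h1 := congrArg q hi
      rw [map_mul, map_mul, map_mul, map_inv, (hq1 (x ^ i)).2 ⟨i, rfl⟩, mul_one, mul_inv_eq_iff_eq_mul] at h1
      exact h1.symm
  have hNK : N ≤ K := fun n hn => (hKi n).2 fun s hs => h.comm hp2 hn hs
  have hzK : z ∉ K := fun hz => by
    have h1 : N ≤ zpowers x := fun s hs => by
      obtain ⟨i, hi⟩ := (hKi z).1 hz s hs
      exact H31.TwoCyc.RadExp.mem_of_comm h hp2 hs hi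
    have h3 := h2.trans (card_dvd_of_le h1)
    rw [Nat.card_zpowers, h.ox] at h3
    have h4 := (Nat.pow_dvd_pow_iff_le_right hp.out.one_lt).1 (h3.trans (pow_one p).symm.dvd)
    omega
  have hs : Group.IsSolvable K := by
    by_contra h1
    obtain ⟨c, hc, n, hn, h3⟩ := h.z_mem_sup hp2 hk K h1
    exact hzK (h3 ▸ K.mul_mem hc (hNK hn))
  intro r hr hreg
  have hrK : r ∈ K := (hKi r).2 fun s hs' => ⟨0, by rw [← (hr s hs').eq]; group⟩
  obtain ⟨n, hn, c, hc, rfl⟩ := h.sup r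
  have hcK : c ∈ K := (K.mul_mem_cancel_left (hNK hn)).1 hrK
  have h1 : f ⟨c, mem_centralizer_singleton_iff.2 hc⟩ = 1 := by
    by_contra h3
    exact H199.AbRad.not_solvable_of_mem h hns K (c := ⟨c, mem_centralizer_singleton_iff.2 hc⟩) hcK h3 hs
  obtain ⟨i, hi | hi⟩ := h.ker _ h1
  · obtain ⟨j, hj⟩ := pelt_of_mem hN (N.mul_mem hn (show c ∈ N from (show c = x ^ i from hi) ▸ N.zpow_mem h.xN i))
    exact eq_one_of_reg hreg hj
  · exact absurd ((K.mul_mem_cancel_left (hNK (N.zpow_mem h.xN i))).1 ((show c = x ^ i * z from hi) ▸ hcK)) hzK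

variable {G : Type u} [Group G] [Finite G] {x : G} {x' z : centralizer ({x} : Set G)}
  {N : Subgroup (centralizer ({x} : Set G))} {A : Type v} [Group A] [IsSimpleGroup A]
  {f : centralizer ({z} : Set (centralizer ({x} : Set G))) →* A}

theorem constr_of_rad (hx : (x' : G) = x) (h : Rad p z x' N f) (hp2 : p ≠ 2) (hns : ¬ Group.IsSolvable A)
    {k : centralizer ({z} : Set (centralizer ({x} : Set G)))} (hk : (k : centralizer ({x} : Set G)) * k = z)
    (hN : IsPGroup p N) (h2 : p ^ 2 ∣ Nat.card N) : Constr p x :=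
  Constr.of_over (pelt_of_order ((congrArg orderOf hx).symm.trans ((orderOf_coe x').trans h.ox))) _
    (fun _ hg => mem_centralizer_singleton_iff.2 hg.symm) N h.nN hN
    fun r _ h3 h4 => regTriv_of_rad h hp2 hns hk hN h2 r h3 h4

theorem xs_of_rad {n : ℕ} (hx : (x' : G) = x) (h : Rad p z x' N f) (hp2 : p ≠ 2) (hns : ¬ Group.IsSolvable A)
    {k : centralizer ({z} : Set (centralizer ({x} : Set G)))} (hk : (k : centralizer ({x} : Set G)) * k = z)
    (hN : Nat.card N = p ^ (2 * (n + 1) + 1)) (hcen : ∀ s ∈ N, (∀ m ∈ N, s * m = m * s) → s ∈ zpowers x') :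
    Xs p (n + 1) x (N.map (centralizer ({x} : Set G)).subtype) := by
  have hz : ∀ s : centralizer ({x} : Set G), s ∈ zpowers x' → (s : G) ∈ zpowers x := by
    rintro _ ⟨i, rfl⟩
    exact ⟨i, (congrArg (fun t : G => t ^ i) hx).symm⟩
  refine ⟨(congrArg orderOf hx).symm.trans ((orderOf_coe x').trans h.ox), constr_of_rad hx h hp2 hns hk (IsPGroup.of_card hN)
    (hN ▸ pow_dvd_pow p (by omega)), ⟨x', h.xN, hx⟩, ?_, ?_, ?_, ?_, ?_⟩
  · rintro _ ⟨u, -, rfl⟩
    exact (mem_centralizer_singleton_iff.1 u.2).symm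
  · rintro g hg _ ⟨u, hu, rfl⟩
    exact ⟨_, h.nN.conj_mem u hu ⟨g, mem_centralizer_singleton_iff.2 hg.symm⟩, rfl⟩
  · rintro _ ⟨a, ha, rfl⟩ _ ⟨b, hb, rfl⟩
    obtain ⟨i, hi⟩ := h.comm hp2 ha hb
    refine hz (a * b * a⁻¹ * b⁻¹) ⟨i, ?_⟩
    rw [hi, h.xzc, mul_inv_cancel_right]
  · rintro _ ⟨s, hs, rfl⟩ hc
    exact hz s (hcen s hs fun m hm => Subtype.ext (hc m ⟨m, hm, rfl⟩))
  · rw [card_map_of_injective (subtype_injective _), hN]

/-- the exponent of `N` -/
theorem exp_of_rad {D : Type u} [Group D] [Finite D] {z x : D} {N : Subgroup D} {A : Type v} [Group A]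
    [IsSimpleGroup A] {f : centralizer ({z} : Set D) →* A} (h : Rad p z x N f) (hp2 : p ≠ 2)
    (hcen : ∀ s ∈ N, (∀ m ∈ N, s * m = m * s) → s ∈ zpowers x) {u : D} (hu : u ∈ N) : u ^ p = 1 := by
  refine H31.TwoCyc.RadExp.exp_p h hp2 hu (hcen _ (N.pow_mem hu p) fun m hm => ?_)
  obtain ⟨i, hi⟩ := h.comm hp2 hm hu
  have h1 : m * u ^ p * m⁻¹ = u ^ p := by
    rw [← conj_pow, hi, (show Commute u (x ^ i) from h.xzc i u).mul_pow, ← zpow_natCast (x ^ i), ← zpow_mul,
      mul_comm i, zpow_mul, zpow_natCast, ← h.ox, pow_orderOf_eq_one, one_zpow, mul_one]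
  rw [mul_inv_eq_iff_eq_mul] at h1
  exact h1.symm

end Cfsg.Agent.BHZ.Spor
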