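import Mathlib
import Cfsg.Agent.BHZ.Spor.HoleRad
import Cfsg.Agent.BHZ.Spor.ToolsB
import Cfsg.Agent.BHZ.Spor.NBTools
import Cfsg.Agent.H537.TC.DSeven
import Cfsg.Agent.H31.TwoCyc.MPart
import Cfsg.Agent.S2049

/-!
# S4806, sporadic rows (helper25): the Monster, `p = 7`
-/

set_option autoImplicit false
set_option maxRecDepth 100000

namespace Cfsg.Agent.BHZ.Spor

open Cfsg Subgroup
open scoped commutatorElement

/-- the arithmetic condition for the order of the Monster -/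
theorem ari_of_card {S : Type} {p n : ℕ} (hS : Nat.card S = 808017424794512875886459904961710757005754368000000000)
    (h : ∀ e ∈ [(3, 20), (5, 9), (7, 6), (11, 2), (13, 3), (17, 1), (19, 1), (23, 1), (29, 1), (31, 1), (41, 1), (47, 1),
      (59, 1), (71, 1)], e.1 ≠ p → ∀ k ≤ e.2, 0 < k → (e.1 ^ k - 1) % p ^ n ≠ 0) : Ari p n S := by
  intro r k hr hrp hr2 hk hd h0
  rw [hS] at hd
  have h1 : r ∣ 2 ^ 46 * 3 ^ 20 * 5 ^ 9 * 7 ^ 6 * 11 ^ 2 * 13 ^ 3 * 17 * 19 * 23 * 29 * 31 * 41 * 47 * 59 * 71 :=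
    ((dvd_pow_self r hk.ne').trans hd).trans (by norm_num)
  have key : ∀ q e : ℕ, r = q → (q, e) ∈ [(3, 20), (5, 9), (7, 6), (11, 2), (13, 3), (17, 1), (19, 1), (23, 1),
      (29, 1), (31, 1), (41, 1), (47, 1), (59, 1), (71, 1)] →
      ¬ q ^ (e + 1) ∣ 808017424794512875886459904961710757005754368000000000 → False := by
    rintro q e rfl he hn
    refine h _ he hrp k ?_ hk (Nat.mod_eq_zero_of_dvd h0)
    by_contra h2
    exact hn ((pow_dvd_pow r (by simp only at h2; omega)).trans hd)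
  have h2 : ∀ {q j : ℕ}, q.Prime → r ∣ q ^ j → r = q := fun hq h3 =>
    (Nat.prime_dvd_prime_iff_eq hr hq).1 (hr.dvd_of_dvd_pow h3)
  have h3 : ∀ {q : ℕ}, q.Prime → r ∣ q → r = q := fun hq h3 => (Nat.prime_dvd_prime_iff_eq hr hq).1 h3
  simp only [hr.dvd_mul] at h1
  rcases h1 with (((((((((((((h1 | h1) | h1) | h1) | h1) | h1) | h1) | h1) | h1) | h1) | h1) | h1) | h1) | h1) | h1
  · exact hr2 (h2 Nat.prime_two h1)
  · exact key 3 20 (h2 (by norm_num) h1) (by simp) (by norm_num)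
  · exact key 5 9 (h2 (by norm_num) h1) (by simp) (by norm_num)
  · exact key 7 6 (h2 (by norm_num) h1) (by simp) (by norm_num)
  · exact key 11 2 (h2 (by norm_num) h1) (by simp) (by norm_num)
  · exact key 13 3 (h2 (by norm_num) h1) (by simp) (by norm_num)
  · exact key 17 1 (h3 (by norm_num) h1) (by simp) (by norm_num)
  · exact key 19 1 (h3 (by norm_num) h1) (by simp) (by norm_num)
  · exact key 23 1 (h3 (by norm_num) h1) (by simp) (by norm_num)
  · exact key 29 1 (h3 (by norm_num) h1) (by simp) (by norm_num)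
  · exact key 31 1 (h3 (by norm_num) h1) (by simp) (by norm_num)
  · exact key 41 1 (h3 (by norm_num) h1) (by simp) (by norm_num)
  · exact key 47 1 (h3 (by norm_num) h1) (by simp) (by norm_num)
  · exact key 59 1 (h3 (by norm_num) h1) (by simp) (by norm_num)
  · exact key 71 1 (h3 (by norm_num) h1) (by simp) (by norm_num)

/-- a conjugate of `y` is a power of `x` -/
theorem Constr.of_conj_pow {p : ℕ} [Fact p.Prime] {S : Type} [Group S] [Finite S] {x y k : S} {i : ℕ}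
    (h : Constr p x) (hx : orderOf x = p) (hy : orderOf y = p) (hk : k * y * k⁻¹ = x ^ i) : Constr p y := by
  have h1 : x ^ i ≠ 1 := fun h2 => ne_one_of_order hy (by rwa [h2, conj_eq_one_iff] at hk)
  exact (h.of_zpowers (mem_zpowers_of_mem hx (npow_mem_zpowers x i) h1)).conj (isConj_iff.2 ⟨k, hk⟩).symm

namespace Mon

open Cfsg.Agent.MonsterX Cfsg.Agent.MonsterX.InstData Cfsg.Agent.MonsterU Cfsg.Agent.LThreeMB
open Cfsg.Agent.BpSpor.MBigModel Cfsg.Agent.H199.NSmMon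

theorem exists_in {y : MG} {p : ℕ} (hy : orderOf y = p) (he : Ev y) :
    ∃ x : centralizer ({zz} : Set MG), orderOf x = p ∧ IsConj y (x : MG) := by
  obtain ⟨g, hg⟩ := he
  have h1 : (g⁻¹ * y * g) * zz = zz * (g⁻¹ * y * g) := by
    calc (g⁻¹ * y * g) * zz = g⁻¹ * (y * (g * zz * g⁻¹)) * g := by group
      _ = g⁻¹ * ((g * zz * g⁻¹) * y) * g := by rw [hg]
      _ = zz * (g⁻¹ * y * g) := by group
  refine ⟨⟨g⁻¹ * y * g, mem_centralizer_singleton_iff.2 h1⟩, ?_, isConj_iff.2 ⟨g⁻¹, by rw [inv_inv]⟩⟩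
  rw [← orderOf_coe, ← hy]
  have h2 := MulEquiv.orderOf_eq (MulAut.conj g⁻¹) y
  rwa [MulAut.conj_apply, inv_inv] at h2

theorem row_of_model {p : ℕ} [Fact p.Prime] (h : H711.Crit.NN p MG → RowAb p 1 MG) (S : Type) [Group S] [Finite S]
    (hS : Spor.IsoM S) (hN : H711.Crit.NN p S) : RowAb p 1 S := by
  obtain ⟨e⟩ := hS
  obtain ⟨e'⟩ := MonsterP.Equiv.equiv
  exact (h (hN.congr (e.trans e'))).congr (e.trans e').symm

theorem exists_xs_seven : ∃ (w : centralizer ({zz} : Set MG)) (Q : Subgroup MG), orderOf w = 7 ∧ fr (pi w) = 1 ∧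
    Xs 7 2 (w : MG) Q ∧ Nat.card (centralizer ({(w : MG)} : Set MG)) = 7 ^ 5 * 5040 := by
  have hfin := finite
  have h7 : Fact (Nat.Prime 7) := ⟨by norm_num⟩
  obtain ⟨w, Q, hw, hfr, hQ, hc, ⟨a, ha, b, hb, hab⟩, -⟩ := H537.TC.exists_D7
  obtain ⟨⟨N, hN⟩, hA⟩ := H31.TwoCyc.MPart.rd7 hw hfr
  have hs := hN.simple
  obtain ⟨k, hk⟩ := hN.sq
  obtain ⟨m, hm, hcm⟩ := hN.rad.card_N_mul hN.ns
  have hcN : Nat.card N = 7 ^ 5 := by
    have h1 := Nat.odd_iff.1 hN.rad.oN
    rw [hc, hA] at hcm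
    rcases (Nat.dvd_prime Nat.prime_two).1 hm with rfl | rfl <;> omega
  have hle : ∀ u ∈ Q, Commute (w : MG) u := fun u hu => (mem_centralizer_singleton_iff.1 (hQ.le hu)).symm
  refine ⟨w, Q, hw, hfr, ⟨by rw [orderOf_coe, hw], constr_of_rad (x' := self (w : MG)) rfl hN.rad (by norm_num) hN.ns hk
    (IsPGroup.of_card hcN) (by rw [hcN]; norm_num), hQ.mem, hle, fun g hg => hQ.norm g hg.symm.eq, hQ.comm,
    fun s hs hsc => ?_, hQ.card⟩, hc⟩
  by_contra hne
  have h1 := hQ.irr (Q ⊓ centralizer (Q : Set MG)) (fun d hd q hq => ⟨hQ.norm d hd q hq.1,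
    mem_centralizer_iff.2 fun g hg => by
      have h2 := mem_centralizer_iff.1 hq.2 _ (hQ.norm d⁻¹ (show Commute d w from hd).inv_left.eq g hg)
      calc g * (d * q * d⁻¹) = d * (d⁻¹ * g * d⁻¹⁻¹ * q) * d⁻¹ := by group
        _ = d * (q * (d⁻¹ * g * d⁻¹⁻¹)) * d⁻¹ := by rw [h2]
        _ = d * q * d⁻¹ * g := by group⟩)
    ⟨hQ.mem, mem_centralizer_iff.2 fun q hq => (hle q hq).symm.eq⟩ inf_le_left fun h2 =>
      hne (h2 ▸ ⟨hs, mem_centralizer_iff.2 fun g hg => (hsc g hg).symm⟩)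
  have h3 : b ∈ Q ⊓ centralizer (Q : Set MG) := h1.symm ▸ hb
  exact hab (mem_centralizer_iff.1 h3.2 a ha)

theorem m_7_model (hN : H711.Crit.NN 7 MG) : RowAb 7 1 MG := by
  have hfin := finite
  have hp : Nat.Prime 7 := by norm_num
  have h7 : Fact (Nat.Prime 7) := ⟨hp⟩
  obtain ⟨w, Q, hw, hfw, hX, hc⟩ := exists_xs_seven
  refine hX.rowAb (e := 1) (ari_of_card card_M (by decide +kernel)) hN (by norm_num) (by rw [hc]; norm_num)
    (by rw [card_M]; norm_num) fun y hy he hd => ?_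
  obtain ⟨x, hx, hyx⟩ := exists_in hy (MSevenT.hex7 y hy he)
  have hxo : orderOf (x : MG) = 7 := by rw [orderOf_coe, hx]
  rcases CpAutMSeven.Ranks.hranks (pi x) (MFive.orderOf_pi chart hp (by decide) hx) with h | h
  · obtain ⟨g, i, hg⟩ := BpSevenCo.Conj.wclass (pi x) (pi w) (MFive.orderOf_pi chart hp (by decide) hx)
      (MFive.orderOf_pi chart hp (by decide) hw) h hfw
    obtain ⟨c, hcc⟩ := MFive.exists_conj_of_conj chart hp (by decide) (x := x) (y := w ^ i)
      (by rw [← hx, pow_orderOf_eq_one])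
      (by rw [← pow_mul, mul_comm, pow_mul, ← hw, pow_orderOf_eq_one, one_pow]) (s := g) (by rw [hg, map_pow])
    have h1 : (c : MG) * (x : MG) * (c : MG)⁻¹ = (w : MG) ^ i := congrArg Subtype.val hcc
    have h2 : Constr 7 (x : MG) := hX.con.of_conj_pow hX.ord hxo h1
    have h3 : Constr 7 y := h2.conj hyx.symm
    exact h3.abAt hN
  · obtain ⟨e⟩ := CpAutMSeven.ZeroComps.heSix x hx h
    exact absurd (deep_conj hyx hd) (not_deep_of_XX S2049.result
      (commutator_eq_top_of_simple S1695.result.1 S1695.result.2 (by norm_num)) e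
      (by rw [pow_one]; exact ne_one_of_order hxo))

end Mon

theorem m_7 : ∀ (S : Type) [Group S] [Finite S], Spor.IsoM S → RowAb 7 1 S := by
  intro S _ _ h
  have hF : Fact (Nat.Prime 7) := ⟨by norm_num⟩
  have hs : IsSimpleGroup S := H123.SporSimple.spor_simple (by unfold IsSporadicGroup; tauto)
  exact Mon.row_of_model Mon.m_7_model S h
    (nn_five hs (by norm_num) (NotCT.Orders.m h) (by norm_num) (by norm_num))

end Cfsg.Agent.BHZ.Spor
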