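import Mathlib
import Cfsg.Agent.BHZ.Spor.RowM7
import Cfsg.Agent.BHZ.Spor.RowFi243
import Cfsg.Agent.H740.OreM.ThreeBd
import Cfsg.Agent.H711.MonReal
import Cfsg.Agent.S2057

/-!
# S4806, sporadic rows (helper25): the Monster, `p = 3`
-/

set_option autoImplicit false
set_option maxRecDepth 100000

namespace Cfsg.Agent.BHZ.Spor

open Cfsg Subgroup
open scoped commutatorElement

namespace Mon

open Cfsg.Agent.MonsterX Cfsg.Agent.MonsterX.InstData Cfsg.Agent.MonsterX.MainPack Cfsg.Agent.MonsterU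
open Cfsg.Agent.MonsterP Cfsg.Agent.MonsterN Cfsg.Agent.LThreeMB
open Cfsg.Agent.BpSpor.MBigModel Cfsg.Agent.H199.NSmMon

theorem constr_three {x : centralizer ({zz} : Set MG)} (hx : orderOf x = 3) (hfr : fr (pi x) = 1) :
    Constr 3 (x : MG) := by
  have hfin := finite
  have h3 : Fact (Nat.Prime 3) := ⟨Nat.prime_three⟩
  obtain ⟨N, hN⟩ := H740.OreM.ThreeBd.exists_SD hx hfr
  have hs := hN.simple
  obtain ⟨k, hk⟩ := hN.sq
  exact constr_of_rad (x' := self (x : MG)) rfl hN.rad (by norm_num) hN.ns hk (IsPGroup.of_card hN.cardN)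
    (by rw [hN.cardN]; norm_num)

/-- the elements of order 3 with a centralizer of even order -/
theorem cases_three {y : MG} (hy : orderOf y = 3) (he : 2 ∣ Nat.card (centralizer ({y} : Set MG))) :
    Constr 3 y ∨ ∃ x : MG, IsConj y x ∧ orderOf x = 3 ∧ (Spor.IsoTh (XX x) ∨ Spor.IsoFi24' (XX x)) := by
  have hfin := finite
  have hsim := simple
  obtain ⟨x, hx, hyx⟩ := exists_in hy (ev_of_even hy (by
    rw [Nat.not_odd_iff_even]; exact even_iff_two_dvd.2 he))
  have I := CoOneFin.coOne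
  have htr := KPair.trNe KDone.lft LThreeB.Row.cent (LThreeMBTr.traceNe KDone.lft LThreeMBTr.TensK.tens)
  have hxo : orderOf (x : MG) = 3 := by rw [Subgroup.orderOf_coe, hx]
  rcases I.ranks (pi x) (orderOf_pi chart hx) with h1 | h1 | h1 | h1
  · exact Or.inl ((constr_three hx h1).conj hyx.symm)
  · obtain ⟨x₀, u, g, hx₀, hfr₀, huz, hux, hne, hg⟩ :=
      KPair.hasPair KDone.lft LThreeB.Row.cent PreUniq.MonRow.second COct.octPair
    obtain ⟨k, hk⟩ := conj_six chart htr I.ranks I.six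
      (fun x hx h2 => ⟨(good_of_inputs chart I hx h2 : Good.{0} _).simple, (good_of_inputs chart I hx h2 : Good.{0} _).nc⟩)
      hx₀ hfr₀ huz hux hne hg hx h1
    exact Or.inl ((constr_three hx₀ hfr₀).conj (hyx.trans (isConj_iff.2 ⟨k, hk⟩)).symm)
  · exact Or.inr ⟨x, hyx, hxo, Or.inl (LThreeB.isoTh_of_inputs chart I hx h1)⟩
  · exact Or.inr ⟨x, hyx, hxo, Or.inr (LThreeB.isoFi_of_inputs chart I hx h1)⟩

theorem m_3_model (hN : H711.Crit.NN 3 MG) : RowAb 3 1 MG := by
  have hfin := finite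
  have h3 : Fact (Nat.Prime 3) := ⟨Nat.prime_three⟩
  obtain ⟨w, hw, hfw, hfull⟩ := H31.TwoCyc.MPart.exists_full3
  obtain ⟨N, hD⟩ := H740.OreM.ThreeBd.exists_SD hw hfw
  have hs := hD.simple
  obtain ⟨k, hk⟩ := hD.sq
  have hX := xs_of_rad (n := 5) (x' := self (w : MG)) rfl hD.rad (by norm_num) hD.ns hk hD.cardN hD.cen
  refine hX.rowAb' (a := 19) (ari_of_card card_M (by decide +kernel)) hN ?_ (hfull 20 (by rw [card_M]; norm_num))
    (by rw [card_M]; norm_num) (fun y hy he hd => ?_) fun y hy he hb => ?_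
  · rintro _ ⟨u, hu, rfl⟩
    exact congrArg Subtype.val (exp_of_rad hD.rad (by norm_num) hD.cen hu)
  · rcases cases_three hy he with h | ⟨x, hyx, hx, ⟨⟨e⟩⟩ | ⟨⟨e⟩⟩⟩
    · exact h.abAt hN
    · exact absurd (deep_conj hyx hd) (not_deep_of_XX S2057.result
        (commutator_eq_top_of_simple S1700.result.1 S1700.result.2 (by norm_num)) e
        (by rw [pow_one]; exact ne_one_of_order hx))
    · obtain ⟨φ, hφ, hker⟩ := exists_hom_of_XX e
      have hf : Finite Spor.Fi24' := Finite.of_surjective φ hφ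
      have h1 : AbAt 3 1 x := abAt_of_descend φ hφ (fun n hn => (hker n).1 hn) (fi24_3 _ ⟨MulEquiv.refl _⟩)
      exact h1.conj hyx.symm
  · rcases cases_three hy he with h | ⟨x, hyx, hx, ⟨⟨e⟩⟩ | ⟨⟨e⟩⟩⟩
    · exact h
    · rw [card_cent_of_conj hyx, card_XX, hx, Nat.card_congr e.toEquiv, S1700.result.2] at hb
      norm_num at hb
    · rw [card_cent_of_conj hyx, card_XX, hx, Nat.card_congr e.toEquiv, S1698.result.2] at hb
      norm_num at hb

end Mon

theorem m_3 : ∀ (S : Type) [Group S] [Finite S], Spor.IsoM S → RowAb 3 1 S := by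
  intro S _ _ h
  have hF : Fact (Nat.Prime 3) := ⟨Nat.prime_three⟩
  obtain ⟨e⟩ := id h
  exact Mon.row_of_model Mon.m_3_model S h (H711.MonReal.nn_monster.congr e.symm)

end Cfsg.Agent.BHZ.Spor
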