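import Mathlib
import Cfsg.Agent.BHZ.Spor.RowM7
import Cfsg.Agent.BHZ.Spor.RowB5
import Cfsg.Agent.H609.T5.MFive
import Cfsg.Agent.H58.Mon.Thirteen

/-!
# S4806, sporadic rows (helper25): the Monster, `p = 5`
-/

set_option autoImplicit false
set_option maxRecDepth 100000

namespace Cfsg.Agent.BHZ.Spor

open Cfsg Subgroup
open scoped commutatorElement

namespace Mon

open Cfsg.Agent.MonsterX Cfsg.Agent.MonsterX.InstData Cfsg.Agent.MonsterU Cfsg.Agent.LThreeMB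
open Cfsg.Agent.BpSpor.MBigModel Cfsg.Agent.H199.NSmMon

theorem inp_five : H609.T5.Five.Inp KDone.K.ι.range zz (KChart.eta KDone.lft) pi := ⟨chart, BpSpor.M5.trNe,
  CpAutBFive.Closed.coFive H546.MFiveFull.hJ, H546.MFiveFull.hJ, CpAutBFive.Closed.hnEight, BpSpor.M5.hasPair,
  BpSpor.M5.exists_k BpSpor.M5.hA, H546.MFiveFull.card_model, fun _ hr => CpAutBFive.EvenRow.cases hr⟩

theorem five_nine {x : centralizer ({zz} : Set MG)} (hx : orderOf x = 5) (hfr : fr (pi x) = 1) :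
    5 ^ 9 ∣ Nat.card (centralizer ({(x : MG)} : Set MG)) := by
  have hfin := finite
  have h5 : Fact (Nat.Prime 5) := ⟨Nat.prime_five⟩
  obtain ⟨f1, f2, -, ⟨N, ρ, S, hR⟩, -⟩ := H609.T5.Five.exists_local inp_five hx hfr
  obtain ⟨m, -, hcm⟩ := hR.rad.card_N_mul f2
  rw [hcm, (H31.TwoCyc.MPart.rd5 hx hfr).2, show 5 ^ 9 = 5 ^ 7 * 5 ^ 2 by norm_num]
  exact mul_dvd_mul (hR.cS ▸ card_dvd_of_le hR.SN) (dvd_mul_of_dvd_left (by norm_num) m)

theorem card_rad_five {x : centralizer ({zz} : Set MG)} (hx : orderOf x = 5) (hfr : fr (pi x) = 1)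
    {N : Subgroup (centralizer ({(x : MG)} : Set MG))} (hN : BpSpor.M5.Rad 5 (zD x) (self (x : MG)) N (toXX pi x)) :
    Nat.card N = 5 ^ 7 := by
  have hfin := finite
  have h5 : Fact (Nat.Prime 5) := ⟨Nat.prime_five⟩
  obtain ⟨⟨N', hN'⟩, hA⟩ := H31.TwoCyc.MPart.rd5 hx hfr
  have hs := hN'.simple
  obtain ⟨m, hm, hcm⟩ := hN.card_N_mul hN'.ns
  rw [hA] at hcm
  have h1 := H58.MonFiveB.card_dvd hx hfr
  have h2 : Nat.card N ∣ 5 ^ 7 * 2 := by
    have h3 : Nat.card N * m * 604800 ∣ 5 ^ 7 * 2 * 604800 := by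
      rw [show Nat.card N * m * 604800 = Nat.card N * (604800 * m) by ring, ← hcm]
      exact h1.trans (by norm_num)
    exact (dvd_mul_right _ m).trans (Nat.dvd_of_mul_dvd_mul_right (by norm_num) h3)
  have h3 : Nat.card N ∣ 5 ^ 7 := Nat.Coprime.dvd_of_dvd_mul_right (Nat.coprime_two_right.2 hN.oN) h2
  obtain ⟨j, hj, hjc⟩ := (Nat.dvd_prime_pow Nat.prime_five).1 h3
  have h4 := five_nine hx hfr
  rw [hcm, hjc] at h4
  rw [hjc]
  by_contra hcon
  have hj6 : j ≤ 6 := by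
    rcases Nat.lt_or_ge j 7 with h6 | h6
    · omega
    · exact absurd (by rw [le_antisymm hj h6]) hcon
  have h6 : 5 ^ 9 ∣ 5 ^ 6 * (604800 * 2) := h4.trans (mul_dvd_mul (pow_dvd_pow 5 hj6) (mul_dvd_mul_left _ hm))
  norm_num at h6

theorem constr_five {x : centralizer ({zz} : Set MG)} (hx : orderOf x = 5) (hfr : fr (pi x) = 1) :
    Constr 5 (x : MG) := by
  have hfin := finite
  have h5 : Fact (Nat.Prime 5) := ⟨Nat.prime_five⟩
  obtain ⟨⟨N, hN⟩, -⟩ := H31.TwoCyc.MPart.rd5 hx hfr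
  have hs := hN.simple
  obtain ⟨k, hk⟩ := hN.sq
  have hc := card_rad_five hx hfr hN.rad
  exact constr_of_rad (x' := self (x : MG)) rfl hN.rad (by norm_num) hN.ns hk (IsPGroup.of_card hc)
    (by rw [hc]; norm_num)

theorem exists_xs_five : ∃ (x : centralizer ({zz} : Set MG)) (Q : Subgroup MG), orderOf x = 5 ∧ fr (pi x) = 1 ∧
    Xs 5 3 (x : MG) Q := by
  have hfin := finite
  have h5 : Fact (Nat.Prime 5) := ⟨Nat.prime_five⟩
  have H := inp_five
  obtain ⟨P, x, a, b, c, u, L⟩ := H609.T5.Five.exists_lifts H.h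
  obtain ⟨f1, f2, -, ⟨N, ρ, S, hR⟩, -⟩ := H609.T5.Five.exists_local H L.ox L.fx
  have hfA : Finite (XX (pi x)) := Finite.of_surjective ρ hR.surj
  obtain ⟨⟨N', hN'⟩, -⟩ := H31.TwoCyc.MPart.rd5 L.ox L.fx
  obtain ⟨k, hk⟩ := hN'.sq
  have hc := card_rad_five L.ox L.fx hR.rad
  have hSN : S = N := eq_of_le_of_card_ge hR.SN (by rw [hc, hR.cS])
  refine ⟨x, _, L.ox, L.fx, xs_of_rad (n := 2) (x' := self (x : MG)) rfl hR.rad (by norm_num) f2 hk hc fun s hs hsc => ?_⟩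
  exact hR.center_le (H609.T5.Five.nonab H L hR) (hSN ▸ hs) fun a ha => (hsc a (hSN ▸ ha)).symm

theorem m_5_model (hN : H711.Crit.NN 5 MG) : RowAb 5 1 MG := by
  have hfin := finite
  have h5 : Fact (Nat.Prime 5) := ⟨Nat.prime_five⟩
  have h2 : Fact (Nat.Prime 2) := ⟨Nat.prime_two⟩
  obtain ⟨w, Q, hw, hfw, hX⟩ := exists_xs_five
  refine hX.rowAb (e := 2) (ari_of_card card_M (by decide +kernel)) hN le_rfl (five_nine hw hfw)
    (by rw [card_M]; norm_num) fun y hy he hd => ?_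
  obtain ⟨t, ht⟩ := exists_prime_orderOf_dvd_card' 2 he
  have hev : Ev y := H58.MonThirteen.ev_five hy (t := t) (by rw [orderOf_coe, ht])
    (mem_centralizer_singleton_iff.1 t.2).symm
  rcases MFive.Row.cases_model (CpAutBFive.Closed.coFive H546.MFiveFull.hJ) CpAutBFive.Closed.hnEight hy hev with
    h | ⟨x, k, i, hx, hfr, hk⟩
  · exact absurd hd (B5.not_deep_hn (ne_one_of_order hy) h)
  · have h3 : Constr 5 y := (constr_five hx hfr).of_conj_pow (by rw [orderOf_coe, hx]) hy hk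
    exact h3.abAt hN

end Mon

theorem m_5 : ∀ (S : Type) [Group S] [Finite S], Spor.IsoM S → RowAb 5 1 S := by
  intro S _ _ h
  have hF : Fact (Nat.Prime 5) := ⟨Nat.prime_five⟩
  have hs : IsSimpleGroup S := H123.SporSimple.spor_simple (by unfold IsSporadicGroup; tauto)
  exact Mon.row_of_model Mon.m_5_model S h
    (nn_five hs (by norm_num) (NotCT.Orders.m h) (by norm_num) (by norm_num))

end Cfsg.Agent.BHZ.Spor
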