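import Mathlib
import Cfsg.Agent.BHZ.Spor.CTools
import Cfsg.Agent.H999.ONThreeHyp
import Cfsg.Agent.H210.On7.Primes

/-!
# S4806, the sporadic row `O'N`, `p = 3` (helper4)
-/

set_option autoImplicit false

namespace Cfsg.Agent.BHZ.Spor

open Cfsg Subgroup

namespace ON3

open Cfsg.Spor (ON)
open Cfsg.Agent.H999.ONThreeHyp
open Cfsg.Agent.ONType.OddCent (XX LL mem_XX)

theorem cyc {y : ON} (hy : y ∈ P) (hy1 : y ≠ 1) : CycAt 3 1 y := by
  have := KFacts.ON.Cent.finite_ON
  have h3 : Fact (Nat.Prime 3) := ⟨Nat.prime_three⟩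
  intro D hD h1 h2
  exfalso
  have hC : ∀ c : ON, Commute y c → c ∈ XX P := fun c hc => by
    rw [← hyp.sup_LL, ← hyp.centralizer_eq hy hy1]
    exact mem_centralizer_singleton_iff.2 hc.symm
  have hle : P ≤ D := hD.le_of_cent h1 h2 (IsPGroup.of_card (n := 2) card_P) fun c hc u hu => by
    rw [mem_XX.1 (hC c hc) u hu, mul_inv_cancel_right]
    exact hu
  obtain ⟨s, hs, hsP, hsL⟩ := hyp.exists_s
  have h4 := hD.fus P hle s (fun q hq => by rw [hsP q hq]; exact inv_mem hq) (by rw [hs]; norm_num)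
    (fun r hr1 hr2 => Tr.of_one (by
      obtain ⟨a, ha, l, hl, rfl⟩ := hyp.exists_mul (hC r (hr1 y hy))
      have h5 : Commute a l := by
        have h6 := (hr1 a ha).eq
        rw [mul_assoc] at h6
        exact mul_left_cancel h6
      have h6 : Commute s ((a * l) ^ 3) := by
        rw [h5.mul_pow, pow_three ha, one_mul]
        exact (show Commute s l from hsL l hl).pow_right 3
      obtain ⟨n, hn⟩ := exists_pow_eq_self_of_coprime ((Nat.Prime.coprime_iff_not_dvd Nat.prime_three).2 hr2)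
      rw [← hn]
      exact h6.pow_right n)) y hy
  have h5 := hsP y hy
  rw [← h4.eq, mul_inv_cancel_right] at h5
  refine hy1 (eq_one_of_reg (p := 3) (not_dvd_of_pow (n := 2) (by norm_num) ?_) (k := 1) (pow_three hy))
  rw [pow_two]
  nth_rewrite 1 [h5]
  exact inv_mul_cancel y

theorem model : RowCyc 3 1 ON := by
  have := KFacts.ON.Cent.finite_ON
  have h3 : Fact (Nat.Prime 3) := ⟨Nat.prime_three⟩
  obtain ⟨z, -, hz, -⟩ := H210.On7.exists_three
  obtain ⟨x, hx⟩ := exists_prime_orderOf_dvd_card' (G := P) 3 (by rw [card_P]; norm_num)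
  rw [← orderOf_coe] at hx
  exact rowCyc_of_cycAt fun y hy => (cyc x.2 (ne_one_of_order hx)).conj ((hz _ hx).trans (hz y hy).symm)

end ON3

theorem on_3 : ∀ (S : Type) [Group S] [Finite S], Spor.IsoON S → RowCyc 3 1 S := by
  intro S _ _ ⟨e⟩
  have h3 : Fact (Nat.Prime 3) := ⟨Nat.prime_three⟩
  exact ON3.model.congr e.symm

end Cfsg.Agent.BHZ.Spor
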