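import Mathlib
import Cfsg.Agent.BHZ.Spor.DCore
import Cfsg.Agent.BpSpor.ThThree
import Cfsg.Agent.H491.PB.Th
import Cfsg.Agent.H174.Ore.DegTh
import Cfsg.Agent.H495.SprThRep
import Cfsg.Agent.H502.TO.StarB
import Cfsg.Agent.H235.AA.Th3
import Cfsg.Agent.H663.GmnTh
import Cfsg.Agent.S0205

/-!
# S4806, the sporadic row `Th`, `p = 3` (helper84)
-/

set_option autoImplicit false

namespace Cfsg.Agent.BHZ.Spor.Th3

open Cfsg Subgroup
open Cfsg.Agent.Th.Word Cfsg.Agent.Th.IndexUpper Cfsg.Agent.Th.CStruct Cfsg.Agent.Th.RelWords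
open Cfsg.Agent.CpAutTh.Data Cfsg.Agent.CpAutTh.Local Cfsg.Agent.BpSpor.ThCent
open Cfsg.Agent.KFacts.Th.Main (ctx)
open Cfsg.Spor (Th)
open scoped commutatorElement

theorem cent_small {t : Th} (ht : (orderOf t).Prime) (h3 : orderOf t ≠ 3) {k : ℕ} (hk : 3 ≤ k)
    (h2 : orderOf t = 2 → 5 ≤ k) : ¬ 3 ^ k ∣ Nat.card (centralizer ({t} : Set Th)) := by
  have key : ∀ {j n : ℕ}, j ≤ k → ¬ 3 ^ j ∣ n → ¬ 3 ^ k ∣ n := fun hj h h0 => h ((pow_dvd_pow 3 hj).trans h0)
  exact H491.PB.Th.cent_dvd ht (fun h => key (h2 h) (by norm_num)) (fun h => (h3 h).elim)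
    (fun _ => key hk (by norm_num)) (fun _ => key hk (by norm_num))
    (fun h => key hk (by rw [H174.Ore.Th.cent_thirteen h]; norm_num)) (fun _ => key hk (by norm_num))
    (fun _ => key hk (by norm_num))

theorem order333 : orderOf (ev gTh X333) = 3 := by
  obtain ⟨f, F⟩ := exists_epi ctx
  have h1 := o333 ctx F
  rwa [orderOf_mk] at h1

theorem solvable333 : Group.IsSolvable (centralizer ({ev gTh X333} : Set Th)) := by
  have := H502.TO.fin_th
  obtain ⟨f, F⟩ := exists_epi ctx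
  refine BpSpor.solvable_of_unique (fun K _ _ h => S0205.result h) (order_sx ctx c333) ?_ ?_
  · rintro ⟨u, hu⟩ h1 h2
    apply Subtype.ext
    rw [Subgroup.orderOf_mk] at h1
    exact inv_triple ctx F h1 (congrArg Subtype.val h2) (mem_centralizer_singleton_iff.1 hu)
  · obtain ⟨n, hn⟩ := card_dvd ctx F c333 card333
    refine BpNum.solvable_of_dvd Nat.prime_two Nat.prime_three (a := n + 1) (b := 4) (hn.trans (dvd_of_eq ?_))
    rw [pow_add]
    ring

theorem core333 : pPrimeCore 3 (centralizer ({ev gTh X333} : Set Th)) = ⊥ := by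
  have := H502.TO.fin_th
  have h3 : Fact (Nat.Prime 3) := ⟨Nat.prime_three⟩
  refine core_eq_bot_of_small (a := 4) (b := 6) ?_ (fun r k hr hr3 hd => ?_) fun w hw hw3 hd => ?_
  · rw [show 4 + 6 = 10 from rfl, ← H777.Th3.Dat.card_Sg H777.Th3.th_u1_ne, ← H502.TO.u1_eq]
    refine card_dvd_of_le fun x hx => mem_centralizer_singleton_iff.2 ?_
    simpa using (H235.AA.Th3.comm_u1 hx).inv_left.eq
  · have h1 : r ^ k ∣ 90745943887872000 := by
      rw [← H502.TO.card_th]
      exact hd.trans (card_subgroup_dvd_card _)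
    rcases Nat.eq_zero_or_pos k with rfl | hk
    · norm_num
    have key : ∀ j : ℕ, ¬ r ^ (j + 1) ∣ Nat.card (centralizer ({ev gTh X333} : Set Th)) → r ^ j ≤ 3 ^ (4 + 1) →
        r ^ k ≤ 3 ^ (4 + 1) := fun j h2 h4 => by
      refine (Nat.pow_le_pow_right hr.pos ?_).trans h4
      by_contra h5
      exact h2 ((pow_dvd_pow r (by omega)).trans hd)
    have key' : ∀ j : ℕ, ¬ r ^ (j + 1) ∣ 90745943887872000 → r ^ j ≤ 3 ^ (4 + 1) → r ^ k ≤ 3 ^ (4 + 1) :=
      fun j h2 => key j fun h4 => h2 (by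
        rw [← H502.TO.card_th]
        exact h4.trans (card_subgroup_dvd_card _))
    rcases H491.PB.Th.prime_cases hr ((dvd_pow_self r hk.ne').trans h1) with
      rfl | rfl | rfl | rfl | rfl | rfl | rfl
    · exact key 7 (H491.PB.Th.not_256 order333) (by norm_num)
    · exact (hr3 rfl).elim
    · exact key' 3 (by norm_num) (by norm_num)
    · exact key' 2 (by norm_num) (by norm_num)
    · exact key' 1 (by norm_num) (by norm_num)
    · exact key' 1 (by norm_num) (by norm_num)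
    · exact key' 1 (by norm_num) (by norm_num)
  · refine cent_small (t := w) (by rwa [orderOf_coe]) (by rwa [orderOf_coe]) (k := 6) (by norm_num)
      (fun _ => by norm_num) (hd.trans ?_)
    rw [← card_map_of_injective (subtype_injective _)]
    refine card_dvd_of_le ?_
    rintro _ ⟨x, hx, rfl⟩
    exact mem_centralizer_singleton_iff.2 (congrArg Subtype.val (mem_centralizer_singleton_iff.1 hx))

theorem constr333 : Constr 3 (ev gTh X333) := by
  have := H502.TO.fin_th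
  have h3 : Fact (Nat.Prime 3) := ⟨Nat.prime_three⟩
  exact Constr.of_solvable ⟨1, by rw [pow_one, ← order333, pow_orderOf_eq_one]⟩ _
    (fun x hx => mem_centralizer_singleton_iff.2 hx.symm) solvable333 core333

/-- the 3-subgroups of `C(a) ∩ C(x)`, `x` of type `3` or `3²` -/
theorem comm_of_word {X : List ℕ} (hX : ∀ x ∈ X, isC x = true) (h0 : pm9 X 0 = 0) (h1 : pm9 X ≠ 1) {D : Subgroup Th}
    (hD : IsPGroup 3 D) (ha : ∀ d ∈ D, d * gTh 1 = gTh 1 * d) (hx : ∀ d ∈ D, Commute d (ev gTh X)) :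
    ∀ a ∈ D, ∀ b ∈ D, Commute a b := by
  have := H502.TO.fin_th
  have h3 : Fact (Nat.Prime 3) := ⟨Nat.prime_three⟩
  obtain ⟨f, F⟩ := exists_epi ctx
  obtain ⟨x1, hx1⟩ : ∃ x1, pm9 X x1 ≠ x1 := by
    by_contra h
    exact h1 (Equiv.ext fun x => by_contra fun h2 => h ⟨x, h2⟩)
  have h2 := comm_of_fix (p := 3) (by simp) (((hD.comap_of_injective (sub gTh isC).subtype (subtype_injective _)).map
    ((alternatingGroup (Fin 9)).subtype.comp f))) (σ := pm9 X) (by
      rintro _ ⟨d, hd, rfl⟩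
      rw [← F.word X hX]
      exact (show Commute d ⟨ev gTh X, ev_mem_sub hX⟩ from Subtype.ext (hx d hd)).map
        ((alternatingGroup (Fin 9)).subtype.comp f)) h0 hx1
  intro a ha' b hb'
  let a' : sub gTh isC := ⟨a, ctx.mem_C.2 (ha a ha')⟩
  let b' : sub gTh isC := ⟨b, ctx.mem_C.2 (ha b hb')⟩
  have h4 : Commute (f a') (f b') := Subtype.ext (h2 _ ⟨a', ha', rfl⟩ _ ⟨b', hb', rfl⟩)
  obtain ⟨k, hk⟩ := pelt_of_mem (ker_two ctx F) (show ⁅a', b'⁆ ∈ f.ker from map_comm_eq_one h4)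
  obtain ⟨j, hj⟩ := pelt_of_mem hD (d := ⁅a, b⁆) (by
    rw [commutatorElement_def]
    exact D.mul_mem (D.mul_mem (D.mul_mem ha' hb') (D.inv_mem ha')) (D.inv_mem hb'))
  have hk' : ⁅a, b⁆ ^ 2 ^ k = 1 := congrArg Subtype.val hk
  exact commutatorElement_eq_one_iff_commute.1 (eq_one_of_reg (not_dvd_of_pow (fun h => by
    have := Nat.prime_three.dvd_of_dvd_pow h
    norm_num at this) hk') hj)

theorem model : RowAb 3 1 Th := by
  have := H502.TO.fin_th
  have h3 : Fact (Nat.Prime 3) := ⟨Nat.prime_three⟩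
  intro D hD
  by_contra hna
  obtain ⟨t, h1, h2, h4⟩ := exists_prime_of_not_regTriv (hD.false_of_regTriv H663.GmnTh.nn_th)
  have ht : orderOf t = 2 := by
    by_contra h5
    exact hna (comm_of_not_cube_dvd hD.pg fun h0 =>
      cent_small h1 h2 le_rfl (fun h => (h5 h).elim) (h0.trans (card_dvd_of_comm h4)))
  obtain ⟨y, hy, hy3, hyD⟩ := exists_central hD.pg (N := D) (by
    rintro rfl
    exact hna inferInstance) le_rfl fun d hd u hu => D.mul_mem (D.mul_mem hd hu) (D.inv_mem hd)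
  obtain ⟨f, F⟩ := exists_epi ctx
  obtain ⟨g, hg, hg'⟩ := CpAutTh.Mid.exists_pair ctx H495.SprThRep.hone hy3 ht (h4 y hy).symm
    (P := fun z => z = ev gTh X3 ∨ z = ev gTh X33 ∨ z = ev gTh X333) (fun y hy => by
      obtain ⟨c, hc | hc | hc⟩ := exists_rep_three ctx F hy
      · exact ⟨c, Or.inl (congrArg Subtype.val hc)⟩
      · exact ⟨c, Or.inr (Or.inl (congrArg Subtype.val hc))⟩
      · exact ⟨c, Or.inr (Or.inr (congrArg Subtype.val hc))⟩)
  have key : ∀ {X : List ℕ}, (∀ x ∈ X, isC x = true) → pm9 X 0 = 0 → pm9 X ≠ 1 → g * y * g⁻¹ = ev gTh X → False := by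
    intro X hX h0 h5 h6
    have h7 := comm_of_word hX h0 h5 (hD.pg.map (MulAut.conj g).toMonoidHom) (by
      rintro _ ⟨d, hd, rfl⟩
      rw [← hg]
      exact ((h4 d hd).map (MulAut.conj g)).eq) (by
      rintro _ ⟨d, hd, rfl⟩
      rw [← h6]
      exact (hyD d hd).symm.map (MulAut.conj g))
    exact hna (comm_of_forall fun a ha b hb => (MulAut.conj g).injective (by
      rw [map_mul, map_mul]
      exact h7 _ ⟨a, ha, rfl⟩ _ ⟨b, hb, rfl⟩))
  rcases hg' with h | h | h
  · exact key c3 (by decide +kernel) (by decide +kernel) h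
  · exact key c33 (by decide +kernel) (by decide +kernel) h
  · exact hD.not_constr H663.GmnTh.nn_th hy hyD (constr333.conj (isConj_iff.2 ⟨g, h⟩).symm)

end Cfsg.Agent.BHZ.Spor.Th3

namespace Cfsg.Agent.BHZ.Spor

theorem th_3 : ∀ (S : Type) [Group S] [Finite S], Cfsg.Spor.IsoTh S → RowAb 3 1 S := by
  intro S _ _ ⟨e⟩
  have h3 : Fact (Nat.Prime 3) := ⟨Nat.prime_three⟩
  exact Th3.model.congr e.symm

end Cfsg.Agent.BHZ.Spor
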