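import Mathlib
import Cfsg.Agent.BHZ.Spor.NBTools
import Cfsg.Agent.H642.PQ.Tits
import Cfsg.Agent.H681.NoBadTits

/-!
# S4806, sporadic rows (helper25): the Tits group, `p = 3` (smaller import closure than `RowTits`)
-/

set_option autoImplicit false

namespace Cfsg.Agent.BHZ.Spor

open Cfsg Subgroup

theorem tits_three : ∀ (S : Type) [Group S] [Finite S], Lie.IsoTits S → RowAb 3 1 S := by
  intro S _ _ h
  have hF : Fact (Nat.Prime 3) := ⟨by norm_num⟩
  have hs : IsSimpleGroup S := H681.NoBadTits.isSimple h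
  have hc := NotCT.Orders.tits h
  obtain ⟨D⟩ := H745.RvTits.tt_tits
  obtain ⟨D'⟩ := H87.TitsData.dat_tits
  have O : CpAutTits.Row.Out Cfsg.Lie.TitsGroup := CpAutTits.Row.out ⟨MulEquiv.refl _⟩
  have hfin : Finite Cfsg.Lie.TitsGroup := Nat.finite_of_card_ne_zero (by rw [O.card]; norm_num)
  have h1 : H709.PB.NB 3 1 Cfsg.Lie.TitsGroup := H642.PQ.Tits.nb3 D D' O
  obtain ⟨e⟩ := h
  exact rowAb_of_nb (nn_three hs hc (by norm_num) (by norm_num) (by norm_num)) (by rw [hc]; norm_num)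
    (H642.PQ.Tits.nb_equiv (X := Cfsg.Lie.TitsGroup) (by norm_num) (by exact e.symm) h1)

end Cfsg.Agent.BHZ.Spor
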