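import Mathlib
import Cfsg.Agent.BHZ.Spor.Bridge
import Cfsg.Agent.BHZ.Spor.RowB3
import Cfsg.Agent.BHZ.Spor.RowB5
import Cfsg.Agent.BHZ.Spor.RowCo15
import Cfsg.Agent.BHZ.Spor.RowCo25
import Cfsg.Agent.BHZ.Spor.RowCo33
import Cfsg.Agent.BHZ.Spor.RowCo35
import Cfsg.Agent.BHZ.Spor.RowFi223
import Cfsg.Agent.BHZ.Spor.RowFi233
import Cfsg.Agent.BHZ.Spor.RowFi243
import Cfsg.Agent.BHZ.Spor.RowFi247
import Cfsg.Agent.BHZ.Spor.RowHN3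
import Cfsg.Agent.BHZ.Spor.RowHN5
import Cfsg.Agent.BHZ.Spor.RowHS
import Cfsg.Agent.BHZ.Spor.RowHe3
import Cfsg.Agent.BHZ.Spor.RowHe7
import Cfsg.Agent.BHZ.Spor.RowJ2
import Cfsg.Agent.BHZ.Spor.RowJ33
import Cfsg.Agent.BHZ.Spor.RowJ411
import Cfsg.Agent.BHZ.Spor.RowJ43
import Cfsg.Agent.BHZ.Spor.RowLy5
import Cfsg.Agent.BHZ.Spor.RowM12
import Cfsg.Agent.BHZ.Spor.RowM13
import Cfsg.Agent.BHZ.Spor.RowM223
import Cfsg.Agent.BHZ.Spor.RowM24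
import Cfsg.Agent.BHZ.Spor.RowM3
import Cfsg.Agent.BHZ.Spor.RowM5
import Cfsg.Agent.BHZ.Spor.RowM7
import Cfsg.Agent.BHZ.Spor.RowMcL3
import Cfsg.Agent.BHZ.Spor.RowMcL5
import Cfsg.Agent.BHZ.Spor.RowON3
import Cfsg.Agent.BHZ.Spor.RowON7
import Cfsg.Agent.BHZ.Spor.RowRu
import Cfsg.Agent.BHZ.Spor.RowSuz3
import Cfsg.Agent.BHZ.Spor.RowTh3
import Cfsg.Agent.BHZ.Spor.RowTh5
import Cfsg.Agent.BHZ.Spor.RowTitsB

/-!
# S4806, sporadic rows (helper25): all rows but three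
-/

set_option autoImplicit false

namespace Cfsg.Agent.BHZ.Spor

open Cfsg

theorem rows_of (h1 : ∀ (S : Type) [Group S] [Finite S], Spor.IsoCo1 S → RowAb 3 2 S)
    (h2 : ∀ (S : Type) [Group S] [Finite S], Spor.IsoCo2 S → RowAb 3 1 S)
    (h3 : ∀ (S : Type) [Group S] [Finite S], Spor.IsoLy S → RowAb 3 1 S) : Rows where
  m12_3 := m12_3
  m22_3 := m22_3
  m24_3 := m24_3
  j2_3 := j2_3
  j3_3 := j3_3
  j4_3 := j4_3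
  j4_11 := j4_11
  co1_3 := h1
  co1_5 := co1_5
  co2_3 := h2
  co2_5 := co2_5
  co3_3 := co3_3
  co3_5 := co3_5
  mcl_3 := mcl_3
  mcl_5 := mcl_5
  hs_5 := hs_5
  suz_3 := suz_3
  he_3 := he_3
  he_7 := he_7
  ru_3 := ru_3
  ru_5 := ru_5
  on_3 := on_3
  on_7 := on_7
  ly_3 := h3
  ly_5 := ly_5
  fi22_3 := fi22_3
  fi23_3 := fi23_3
  fi24_3 := fi24_3
  fi24_7 := fi24_7
  hn_3 := hn_3
  hn_5 := hn_5
  th_3 := th_3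
  th_5 := th_5
  b_3 := b_3
  b_5 := b_5
  m_3 := m_3
  m_5 := m_5
  m_7 := m_7
  m_13 := m_13
  tits_3 := tits_three

end Cfsg.Agent.BHZ.Spor
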