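import Mathlib
import Cfsg.Agent.BHZ.Spor.DNorm
import Cfsg.Agent.H789.Ore.HNMain
import Cfsg.Agent.H728.Four.HNThreeComm
import Cfsg.Agent.H712.GmnHN

/-!
# S4806, the sporadic row `HN`, `p = 3` (helper84)
-/

set_option autoImplicit false

namespace Cfsg.Agent.BHZ.Spor.HN3

open Cfsg Subgroup
open Cfsg.Agent.CpAutHN.Alt Cfsg.Agent.CpAutHN.Tr Cfsg.Agent.CpAutHN.Pairs Cfsg.Agent.CpAutHN.Second
open Cfsg.Agent.CpAutHN.NineAlt (A9)
open Cfsg.Agent.H569.HNThree (finite_G MM ss order_ss comm_core conj_of_comm)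
open Cfsg.Agent.H478.HNThree
open Cfsg.Agent.H789.Ore
open scoped commutatorElement

theorem not_deep1 : X1 ∉ ⁅centralizer ({X1} : Set G), centralizer ({X1} : Set G)⁆ := by
  refine not_deep_of_sup (Φ.comp ι).range ?_ fun x hx => ?_
  · rintro ⟨a, ha⟩
    have ha' : Φ (ι a) = X1 := ha
    have h1 : a ∈ center A9 := mem_center_iff.2 fun b => ι_inj (Φ_inj (by
      rw [map_mul, map_mul, map_mul, map_mul, ha']
      have := congrArg Φ (ι_comm b)
      rwa [map_mul, map_mul] at this))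
    rw [alternatingGroup.center_eq_bot (by simp), mem_bot] at h1
    have h2 := order_X1
    rw [← ha', h1, map_one, map_one, orderOf_one] at h2
    norm_num at h2
  · obtain ⟨i, a, h⟩ := HNFif.main x hx.symm
    exact ⟨X1 ^ i, ⟨i, rfl⟩, Φ (ι a), ⟨a, rfl⟩, h⟩

theorem S3_X1 : S3 * X1 ≠ X1 * S3 := by
  intro h
  have h1 : (⟨s3, s3_mem⟩ : A12) * ⟨x1, x1_mem⟩ = ⟨x1, x1_mem⟩ * ⟨s3, s3_mem⟩ := Φ_inj (by
    rw [map_mul, map_mul]
    exact h)
  have h2 : s3 * x1 = x1 * s3 := congrArg Subtype.val h1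
  revert h2
  decide +kernel

theorem constr3 : Constr 3 X3 := by
  have h3 : Fact (Nat.Prime 3) := ⟨Nat.prime_three⟩
  have hfin := finite_G
  obtain ⟨k, hk⟩ := HNFif.card_OO HNFif.main
  have hO : IsPGroup 3 OO := IsPGroup.of_card hk
  refine Constr.of_normal ⟨1, by rw [pow_one, ← order_X3, pow_orderOf_eq_one]⟩ OO OO_normal hO fun r h1 h2 => ?_
  by_contra hr
  have hr1 : orderOf r ≠ 1 := fun h => hr (orderOf_eq_one_iff.1 h)
  obtain ⟨q, hq, hqr⟩ := Nat.exists_prime_and_dvd hr1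
  have ht : orderOf (r ^ (orderOf r / q)) = q := orderOf_pow_orderOf_div (orderOf_pos r).ne' hqr
  have hc : ∀ n ∈ OO, Commute n (r ^ (orderOf r / q)) := fun n hn => (h1 n hn).pow_right _
  generalize r ^ (orderOf r / q) = t at ht hc
  have hX1 : (t : G) * X1 = X1 * t := (congrArg Subtype.val (hc dd dd_mem).eq).symm
  have hX3 : (t : G) * X3 = X3 * t := mem_centralizer_singleton_iff.1 t.2
  by_cases hq2 : q = 2
  · subst hq2
    have h4 := comm_core t
    have ht2 : t ^ 2 = 1 := by rw [← ht, pow_orderOf_eq_one]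
    have h5 : (ss * t * ss⁻¹ * t⁻¹) ^ 2 = 1 := by
      have h6 : (ss * t * ss⁻¹ * t⁻¹ * t) ^ 2 = 1 := by rw [inv_mul_cancel_right, conj_pow, ht2]; simp
      rwa [(hc _ h4).mul_pow, ht2, mul_one] at h6
    obtain ⟨j, hj⟩ := pelt_of_mem hO h4
    have h7 := eq_one_of_reg (not_dvd_of_pow (n := 2) (by norm_num) h5) hj
    have h8 : ss * t = t * ss := by rwa [mul_inv_eq_one, mul_inv_eq_iff_eq_mul] at h7
    have h9 := t1_x3.unique (u := t) (by rw [orderOf_coe, ht]) hX3 (congrArg Subtype.val h8.symm)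
    rw [h9] at hX1
    exact S3_X1 hX1
  · have hq3 : q ≠ 3 := by
      rintro rfl
      exact h2 hqr
    have h5 : 5 ≤ q := by
      have := hq.two_le
      have h4 : q ≠ 4 := by rintro rfl; norm_num at hq
      omega
    exact HNFif.lemL HNFif.main hq h5 (by rw [orderOf_coe, ht]) hX1 hX3

theorem model : RowAb 3 1 G := by
  have h3 : Fact (Nat.Prime 3) := ⟨Nat.prime_three⟩
  have hfin := finite_G
  refine rowAb_of_deep H712.GmnHN.nn_hn fun y hy hd => ?_
  obtain ⟨t, ht, hc⟩ := H728.Four.HN3C.comm_inv (a := y) (by rw [← hy, pow_orderOf_eq_one])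
  obtain ⟨c, h | h⟩ := conj_of_comm (y := y) (t := t) ⟨1, by rw [pow_one, ← hy, pow_orderOf_eq_one]⟩ ht hc.symm (by
    rintro rfl
    rw [orderOf_one] at hy
    norm_num at hy)
  · exact (not_deep1 (deep_conj (isConj_iff.2 ⟨c, h⟩) hd)).elim
  · exact constr3.conj (isConj_iff.2 ⟨c, h⟩).symm

end Cfsg.Agent.BHZ.Spor.HN3

namespace Cfsg.Agent.BHZ.Spor

theorem hn_3 : ∀ (S : Type) [Group S] [Finite S], Cfsg.Spor.IsoHN S → RowAb 3 1 S := by
  intro S _ _ ⟨e⟩
  have h3 : Fact (Nat.Prime 3) := ⟨Nat.prime_three⟩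
  exact HN3.model.congr e.symm

end Cfsg.Agent.BHZ.Spor
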